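import Groth.Agent.Lib.Ample.Product

/-!
# Compatibility of pullback with tensor operations on invertible modules; more ampleness criteria
-/

universe u

set_option backward.isDefEq.respectTransparency false

open AlgebraicGeometry CategoryTheory CategoryTheory.Limits TopologicalSpace Opposite
open GrothLib.InvExt (mres IsGen)

noncomputable section

namespace GrothLib.Ample

variable {X Y Z : Scheme.{u}}

namespace Cocycle

variable (c c' : Cocycle X) (j : Y ⟶ X) {n : ℕ}

theorem prod_comap_g (p q : (c.prod c').ι) {W : Y.Opens} (hp : W ≤ j ⁻¹ᵁ (c.prod c').D p)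
    (hq : W ≤ j ⁻¹ᵁ (c.prod c').D q) :
    ((c.prod c').comap j).G p q hp hq =
      ((c.comap j).prod (c'.comap j)).G p q hp hq := by
  rw [comap_G, prod_G]
  show (j.appLE _ W _).hom (_ * _) = _
  rw [map_mul, appLE_G, appLE_G]

theorem nonempty_comap_prod (n : ℕ) :
    Nonempty (((c.comap j).prod (c'.comap j)).twist n ≅ ((c.prod c').comap j).twist n) := by
  let m : ∀ p, Γ(((c.prod c').comap j).twist n, ((c.comap j).prod (c'.comap j)).D p) := fun p =>
    ((c.prod c').comap j).base n (V := ((c.comap j).prod (c'.comap j)).D p) p le_rfl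
  have hm : ((c.comap j).prod (c'.comap j)).IsFamily n m := by
    intro p q W hp hq
    show ((c.prod c').comap j).sectRes hq (((c.prod c').comap j).base n q le_rfl) =
      _ ^ n • ((c.prod c').comap j).sectRes hp (((c.prod c').comap j).base n p le_rfl)
    erw [sectRes_base, sectRes_base]
    rw [← prod_comap_g c c' j p q hp hq]
    exact ((c.prod c').comap j).base_eq_smul_base n p q hp hq
  haveI := ((c.comap j).prod (c'.comap j)).isIso_homOfFamily hm
    fun p => ((c.prod c').comap j).isGen_base n p le_rfl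
  exact ⟨asIso (((c.comap j).prod (c'.comap j)).homOfFamily hm)⟩

theorem pow_comap_g (k : ℕ) (p q : c.ι) {W : Y.Opens} (hp : W ≤ j ⁻¹ᵁ c.D p) (hq : W ≤ j ⁻¹ᵁ c.D q) :
    ((c.pow k).comap j).G p q hp hq = ((c.comap j).pow k).G p q hp hq := by
  rw [comap_G, pow_G, comap_G]
  exact map_pow (j.appLE _ W _).hom _ _

theorem nonempty_comap_pow (k n : ℕ) :
    Nonempty (((c.comap j).pow k).twist n ≅ ((c.pow k).comap j).twist n) := by
  let m : ∀ p, Γ(((c.pow k).comap j).twist n, ((c.comap j).pow k).D p) := fun p =>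
    ((c.pow k).comap j).base n (V := ((c.comap j).pow k).D p) p le_rfl
  have hm : ((c.comap j).pow k).IsFamily n m := by
    intro p q W hp hq
    show ((c.pow k).comap j).sectRes hq (((c.pow k).comap j).base n q le_rfl) =
      _ ^ n • ((c.pow k).comap j).sectRes hp (((c.pow k).comap j).base n p le_rfl)
    erw [sectRes_base, sectRes_base]
    rw [← pow_comap_g c j k p q hp hq]
    exact ((c.pow k).comap j).base_eq_smul_base n p q hp hq
  haveI := ((c.comap j).pow k).isIso_homOfFamily hm fun p => ((c.pow k).comap j).isGen_base n p le_rfl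
  exact ⟨asIso (((c.comap j).pow k).homOfFamily hm)⟩

/-- Pointwise generation of some positive power. -/
def IsGenerated : Prop := ∀ p : X, ∃ (m : ℕ) (b : c.sect (m + 1) ⊤), p ∈ c.locus b

theorem isGenerated_of_isAmp (h : c.IsAmp) : c.IsGenerated := fun p =>
  let ⟨n, a, hp, _⟩ := h p
  ⟨n, a, hp⟩

/-- Quasi-affine loci suffice. -/
theorem isAmp_of_quasiAffine_loci [CompactSpace X]
    (h : ∀ p : X, ∃ (n : ℕ) (a : c.sect (n + 1) ⊤), p ∈ c.locus a ∧
      (c.locus a : Scheme.{u}).IsQuasiAffine) : c.IsAmp := by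
  choose n a hpa ha using h
  haveI : QuasiSeparatedSpace X := by
    refine QuasiSeparatedSpace.of_isOpenCover (U := fun p => c.locus (a p))
      (IsOpenCover.mk (eq_top_iff.mpr fun p _ => Opens.mem_iSup.mpr ⟨p, hpa p⟩)) (fun p => ?_) fun p => ?_
    · haveI := c.isAffineHom_locus_ι (a p)
      exact IsRetrocompact_iff_isSpectralMap_subtypeVal.mpr (c.locus (a p)).ι.isSpectralMap
    · haveI := ha p
      exact (isQuasiSeparated_iff_quasiSeparatedSpace _ (c.locus (a p)).2).mpr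
        (inferInstanceAs (QuasiSeparatedSpace (c.locus (a p) : Scheme.{u})))
  intro p
  haveI := ha p
  obtain ⟨_, ⟨_, ⟨r, hr, rfl⟩, rfl⟩, hpr, -⟩ :=
    (Scheme.IsQuasiAffine.isBasis_basicOpen (c.locus (a p) : Scheme.{u})).exists_subset_of_mem_open
      (Set.mem_univ ⟨p, hpa p⟩) isOpen_univ
  let φ : Γ(X, c.locus (a p)) := (c.locus (a p)).topIso.hom.hom r
  obtain ⟨m, b, hb⟩ := c.exists_extend (a p) φ
  have hdeg : (n p + 1) * m + (n p + 1) = (n p + 1) * m + n p + 1 := by omega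
  refine ⟨(n p + 1) * m + n p, c.sectCast hdeg (c.mul b (a p)), ?_⟩
  have e : c.locus (c.sectCast hdeg (c.mul b (a p))) = X.basicOpen φ := by
    rw [c.locus_sectCast, c.locus_mul, inf_comm]
    exact (c.basicOpen_eq_of_smul (c.sectPow (a p) m) b (c.le_locus_sectPow (a p) m) φ hb).symm
  have hφ : (c.locus (a p)).ι ''ᵁ (c.locus (a p) : Scheme.{u}).basicOpen r = X.basicOpen φ := by
    rw [Scheme.image_basicOpen]
    simp only [φ, Scheme.Opens.topIso_hom]
    erw [X.basicOpen_res_eq]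
    rw [Scheme.Opens.ι_appIso]
    rfl
  rw [e, ← hφ]
  exact ⟨⟨⟨p, hpa p⟩, hpr, rfl⟩, hr.image_of_isOpenImmersion _⟩

end Cocycle

/-- Pullback commutes with tensor products of invertible modules. -/
theorem nonempty_pullback_tensorMod (j : Y ⟶ X) {L L' : X.Modules} (hL : PicF.IsInvertible L)
    (hL' : PicF.IsInvertible L') :
    Nonempty ((Scheme.Modules.pullback j).obj (CohB1.tensorMod L L') ≅
      CohB1.tensorMod ((Scheme.Modules.pullback j).obj L) ((Scheme.Modules.pullback j).obj L')) := by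
  obtain ⟨c, ⟨e⟩⟩ := exists_cocycle hL
  obtain ⟨c', ⟨e'⟩⟩ := exists_cocycle hL'
  obtain ⟨d⟩ := c.nonempty_tensorMod_iso_prod c' e e'
  obtain ⟨d₁⟩ := (c.prod c').nonempty_pullback_iso j d
  obtain ⟨f⟩ := c.nonempty_pullback_iso j e
  obtain ⟨f'⟩ := c'.nonempty_pullback_iso j e'
  obtain ⟨d₂⟩ := (c.comap j).nonempty_tensorMod_iso_prod (c'.comap j) f f'
  obtain ⟨q⟩ := c.nonempty_comap_prod c' j 1
  exact ⟨d₁ ≪≫ q.symm ≪≫ d₂.symm⟩

/-- Pullback commutes with tensor powers of invertible modules. -/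
theorem nonempty_pullback_tensorPow (j : Y ⟶ X) {L : X.Modules} (hL : PicF.IsInvertible L) (k : ℕ) :
    Nonempty ((Scheme.Modules.pullback j).obj (CohB1.tensorPow L k) ≅
      CohB1.tensorPow ((Scheme.Modules.pullback j).obj L) k) := by
  obtain ⟨c, ⟨e⟩⟩ := exists_cocycle hL
  obtain ⟨d⟩ := c.nonempty_tensorPow_iso_pow e k
  obtain ⟨d₁⟩ := (c.pow k).nonempty_pullback_iso j d
  obtain ⟨f⟩ := c.nonempty_pullback_iso j e
  obtain ⟨d₂⟩ := (c.comap j).nonempty_tensorPow_iso_pow f k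
  obtain ⟨q⟩ := c.nonempty_comap_pow j k 1
  exact ⟨d₁ ≪≫ q.symm ≪≫ d₂.symm⟩

theorem isInvertible_tensorMod {L L' : X.Modules} (hL : PicF.IsInvertible L) (hL' : PicF.IsInvertible L') :
    PicF.IsInvertible (CohB1.tensorMod L L') := by
  obtain ⟨c, ⟨e⟩⟩ := exists_cocycle hL
  obtain ⟨c', ⟨e'⟩⟩ := exists_cocycle hL'
  obtain ⟨d⟩ := c.nonempty_tensorMod_iso_prod c' e e'
  exact (c.prod c').isInvertible_of_iso d

theorem isInvertible_tensorPow {L : X.Modules} (hL : PicF.IsInvertible L) (k : ℕ) :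
    PicF.IsInvertible (CohB1.tensorPow L k) := by
  obtain ⟨c, ⟨e⟩⟩ := exists_cocycle hL
  obtain ⟨d⟩ := c.nonempty_tensorPow_iso_pow e k
  exact (c.pow k).isInvertible_of_iso d

/-- The tensor product of two ample modules is ample. -/
theorem isAmple_tensorMod {L L' : X.Modules} (hL : CohB1.IsAmple L) (hL' : CohB1.IsAmple L') :
    CohB1.IsAmple (CohB1.tensorMod L L') := by
  haveI := hL.2.1
  obtain ⟨c, ⟨e⟩⟩ := exists_cocycle hL.1
  obtain ⟨c', ⟨e'⟩⟩ := exists_cocycle hL'.1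
  obtain ⟨d⟩ := c.nonempty_tensorMod_iso_prod c' e e'
  exact ((c.prod c').isAmple_iff d).mpr ⟨inferInstance,
    c.isAmp_prod c' ((c.isAmple_iff e).mp hL).2 (c'.isGenerated_of_isAmp ((c'.isAmple_iff e').mp hL').2)⟩

theorem isAmple_pullback_iff_of_range_eq {Y₁ Y₂ : Scheme.{u}} (g₁ : Y₁ ⟶ X) (g₂ : Y₂ ⟶ X)
    [IsOpenImmersion g₁] [IsOpenImmersion g₂] (h : Set.range g₁ = Set.range g₂) {L : X.Modules} :
    CohB1.IsAmple ((Scheme.Modules.pullback g₁).obj L) ↔ CohB1.IsAmple ((Scheme.Modules.pullback g₂).obj L) := by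
  suffices ∀ {A B : Scheme.{u}} (a : A ⟶ X) (b : B ⟶ X) [IsOpenImmersion a] [IsOpenImmersion b],
      Set.range a = Set.range b → CohB1.IsAmple ((Scheme.Modules.pullback b).obj L) →
      CohB1.IsAmple ((Scheme.Modules.pullback a).obj L) from ⟨this g₂ g₁ h.symm, this g₁ g₂ h⟩
  intro A B a b _ _ hab hA
  let e := IsOpenImmersion.isoOfRangeEq a b hab
  have h1 := isAmple_pullback_of_isAffineHom e.hom hA
  rw [isAmple_pullback_comp_iff, IsOpenImmersion.isoOfRangeEq_hom_fac] at h1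
  exact h1

theorem isAmple_pullback_id_iff (L : X.Modules) :
    CohB1.IsAmple ((Scheme.Modules.pullback (𝟙 X)).obj L) ↔ CohB1.IsAmple L :=
  isAmple_iff_of_iso ((Scheme.Modules.pullbackId X).app L)

theorem isAmple_restrict_top_iff (L : X.Modules) {U : X.Opens} (hU : U = ⊤) :
    CohB1.IsAmple (L.restrict U.ι) ↔ CohB1.IsAmple L := by
  subst hU
  rw [isAmple_restrict_iff, isAmple_pullback_iff_of_range_eq (⊤ : X.Opens).ι (𝟙 X)
    (by simp), isAmple_pullback_id_iff]

theorem isAmple_restrict_restrict_iff (L : X.Modules) (U : X.Opens) (W : (U : Scheme.{u}).Opens) :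
    CohB1.IsAmple ((L.restrict U.ι).restrict W.ι) ↔ CohB1.IsAmple (L.restrict (U.ι ''ᵁ W).ι) := by
  rw [isAmple_restrict_iff, isAmple_iff_of_iso ((Scheme.Modules.pullback W.ι).mapIso
    ((Scheme.Modules.restrictFunctorIsoPullback U.ι).app L)), isAmple_pullback_comp_iff, isAmple_restrict_iff]
  refine isAmple_pullback_iff_of_range_eq _ _ ?_
  rw [Scheme.Hom.comp_base, TopCat.coe_comp, Set.range_comp, W.range_ι, (U.ι ''ᵁ W).range_ι]
  rfl

/-- Every invertible module on a quasi-affine scheme is ample. -/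
theorem isAmple_of_isQuasiAffine [X.IsQuasiAffine] {L : X.Modules} (hL : PicF.IsInvertible L) :
    CohB1.IsAmple L := by
  have hloc : ∀ p : X, ∃ r : Γ(X, ⊤), p ∈ X.basicOpen r ∧ IsAffineOpen (X.basicOpen r) ∧
      ∃ U : X.Opens, X.basicOpen r ≤ U ∧ Nonempty (L.restrict U.ι ≅ Coh.structureModule (↑U)) := by
    intro p
    obtain ⟨U, hpU, hU⟩ := hL p
    obtain ⟨_, ⟨_, ⟨r, hr, rfl⟩, rfl⟩, hpr, hrU⟩ :=
      (Scheme.IsQuasiAffine.isBasis_basicOpen X).exists_subset_of_mem_open hpU U.2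
    exact ⟨r, hpr, hr, U, hrU, hU⟩
  choose r hpr hr U hrU hU using hloc
  refine isAmple_of_basicOpens hL r (eq_top_iff.mpr fun p _ => Opens.mem_iSup.mpr ⟨p, hpr p⟩) fun p => ?_
  haveI : IsAffine (X.basicOpen (r p) : Scheme.{u}) := hr p
  obtain ⟨φ⟩ := hU p
  rw [isAmple_restrict_iff]
  let l := X.homOfLE (hrU p)
  have e : (Scheme.Modules.pullback (X.basicOpen (r p)).ι).obj L ≅
      Coh.structureModule (X.basicOpen (r p) : Scheme.{u}) :=
    (Scheme.Modules.pullbackCongr (X.homOfLE_ι (hrU p)).symm).app L ≪≫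
      ((Scheme.Modules.pullbackComp l (U p).ι).app L).symm ≪≫
      (Scheme.Modules.pullback l).mapIso
        (((Scheme.Modules.restrictFunctorIsoPullback (U p).ι).app L).symm ≪≫ φ) ≪≫
      (nonempty_pullback_structureModule l).some
  exact (isAmple_iff_of_iso e).mpr (isQuasiAffine_iff.mp inferInstance)

/-- Ampleness on a two-piece clopen decomposition. -/
theorem isAmple_of_isCompl {L : X.Modules} (hL : PicF.IsInvertible L) {U V : X.Opens} (hUV : IsCompl U V)
    (hU : CohB1.IsAmple (L.restrict U.ι)) (hV : CohB1.IsAmple (L.restrict V.ι)) : CohB1.IsAmple L := by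
  haveI : CompactSpace X := by
    refine ⟨?_⟩
    have h1 : IsCompact (U : Set X) := isCompact_iff_compactSpace.mpr hU.2.1
    have h2 : IsCompact (V : Set X) := isCompact_iff_compactSpace.mpr hV.2.1
    convert h1.union h2 using 1
    rw [← Opens.coe_sup, hUV.sup_eq_top, Opens.coe_top]
  have hfun : ∀ (A B : X.Opens), IsCompl A B → ∃ t : Γ(X, ⊤), X.basicOpen t = A := by
    intro A B hAB
    let W : ULift.{u} Bool → X.Opens := fun b => bif b.down then A else B
    let f : ∀ b, Γ(X, W b) := fun b => match b with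
      | ⟨true⟩ => 1
      | ⟨false⟩ => 0
    have hcov : ⊤ ≤ ⨆ b, W b := by
      rw [← hAB.sup_eq_top]
      exact sup_le (le_iSup W ⟨true⟩) (le_iSup W ⟨false⟩)
    obtain ⟨t, ht, -⟩ := X.sheaf.existsUnique_gluing' W ⊤ (fun b => homOfLE le_top) hcov f (by
      have hbot : A ⊓ B = ⊥ := hAB.inf_eq_bot
      rintro ⟨_ | _⟩ ⟨_ | _⟩
      · rfl
      · haveI : Subsingleton Γ(X, W ⟨false⟩ ⊓ W ⟨true⟩) := by
          rw [show W ⟨false⟩ ⊓ W ⟨true⟩ = ⊥ from (inf_comm _ _).trans hbot]; infer_instance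
        exact Subsingleton.elim (α := Γ(X, W ⟨false⟩ ⊓ W ⟨true⟩)) _ _
      · haveI : Subsingleton Γ(X, W ⟨true⟩ ⊓ W ⟨false⟩) := by
          rw [show W ⟨true⟩ ⊓ W ⟨false⟩ = ⊥ from hbot]; infer_instance
        exact Subsingleton.elim (α := Γ(X, W ⟨true⟩ ⊓ W ⟨false⟩)) _ _
      · rfl)
    refine ⟨t, ?_⟩
    have hA : res (le_top : A ≤ ⊤) t = (1 : Γ(X, A)) := ht ⟨true⟩
    have hB : res (le_top : B ≤ ⊤) t = (0 : Γ(X, B)) := ht ⟨false⟩
    have h1 := congrArg X.basicOpen hA
    have h2 := congrArg X.basicOpen hB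
    rw [Scheme.basicOpen_res, Scheme.basicOpen_of_isUnit _ isUnit_one] at h1
    rw [Scheme.basicOpen_res, Scheme.basicOpen_zero] at h2
    refine le_antisymm ?_ (inf_eq_left.mp h1)
    calc X.basicOpen t = (A ⊔ B) ⊓ X.basicOpen t := by rw [hAB.sup_eq_top, top_inf_eq]
      _ ≤ A := by rw [inf_sup_right, h1, h2, sup_bot_eq]
  obtain ⟨tU, htU⟩ := hfun U V hUV
  obtain ⟨tV, htV⟩ := hfun V U hUV.symm
  refine isAmple_of_basicOpens hL (fun b : Bool => bif b then tU else tV) ?_ fun b => ?_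
  · rw [iSup_bool_eq]
    simp [htU, htV, hUV.sup_eq_top]
  · cases b
    · exact htV ▸ hV
    · exact htU ▸ hU

end GrothLib.Ample
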