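import Groth.Agent.Lib.Ample.Generation
import Groth.Prelude.Def_FlatMod2

/-!
# Finitely many generating global sections
-/

universe u

set_option backward.isDefEq.respectTransparency false

open AlgebraicGeometry CategoryTheory CategoryTheory.Limits TopologicalSpace Opposite
open GrothLib.InvExt (mres)

noncomputable section

namespace GrothLib.Ample

variable {X : Scheme.{u}}

/-- Every section is near each point a combination of the global sections in `s`. -/
def Spanned (F : X.Modules) {ι : Type*} (s : ι → Γ(F, ⊤)) : Prop :=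
  ∀ (O : X.Opens) (m : Γ(F, O)) (x : X), x ∈ O → ∃ (W : X.Opens) (hW : W ≤ O), x ∈ W ∧
    mres F hW m ∈ Submodule.span Γ(X, W) (Set.range fun i => mres F (le_top : W ≤ ⊤) (s i))

theorem mres_mem_span_image {F : X.Modules} {V W : X.Opens} (h : W ≤ V) {S : Set Γ(F, V)} {m : Γ(F, V)}
    (hm : m ∈ Submodule.span Γ(X, V) S) : mres F h m ∈ Submodule.span Γ(X, W) (mres F h '' S) := by
  induction hm using Submodule.span_induction with
  | mem z hz => exact Submodule.subset_span ⟨z, hz, rfl⟩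
  | zero => rw [show mres F h 0 = 0 from map_zero _]; exact Submodule.zero_mem _
  | add z w _ _ hz hw => rw [show mres F h (z + w) = mres F h z + mres F h w from map_add _ _ _]; exact add_mem hz hw
  | smul r z _ hz => rw [InvExt.mres_smul]; exact Submodule.smul_mem _ _ hz

theorem mres_mem_span_range {F : X.Modules} {V W : X.Opens} (h : W ≤ V) {ι : Type*} {s : ι → Γ(F, ⊤)} {m : Γ(F, V)}
    (hm : m ∈ Submodule.span Γ(X, V) (Set.range fun i => mres F (le_top : V ≤ ⊤) (s i))) :
    mres F h m ∈ Submodule.span Γ(X, W) (Set.range fun i => mres F (le_top : W ≤ ⊤) (s i)) := by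
  refine Submodule.span_mono ?_ (mres_mem_span_image h hm)
  rintro _ ⟨_, ⟨i, rfl⟩, rfl⟩
  exact ⟨i, (InvExt.mres_mres F _ _ _).symm⟩

/-- A finite spanning family gives an epimorphism from a finite free module. -/
theorem exists_epi_free {F : X.Modules} {k : ℕ} (s : Fin k → Γ(F, ⊤)) (h : Spanned F s) :
    ∃ p : FlatMod.freeMod X k ⟶ F, Epi p := by
  let p : FlatMod.freeMod X k ⟶ F := Sigma.desc fun i => F.unitHomEquiv.symm (globalSection F (s i))
  refine ⟨p, ⟨fun {N : X.Modules} (g : F ⟶ N) (g' : F ⟶ N) hgg => ?_⟩⟩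
  refine Scheme.Modules.hom_ext g g' fun O => ?_
  ext (m : Γ(F, O))
  have hs : ∀ i, g.app ⊤ (s i) = g'.app ⊤ (s i) := by
    intro i
    have h1 : F.unitHomEquiv.symm (globalSection F (s i)) ≫ g = F.unitHomEquiv.symm (globalSection F (s i)) ≫ g' := by
      have h0 := congrArg (fun q => Sigma.ι (fun _ : Fin k => Coh.structureModule X) i ≫ q) hgg
      simp only [p, Sigma.ι_desc_assoc] at h0
      exact h0
    have h2 := congrArg (fun q => (N.unitHomEquiv q).1 (op ⊤)) h1
    simp only [SheafOfModules.unitHomEquiv_comp_apply, Equiv.apply_symm_apply] at h2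
    have h3 : (globalSection F (s i)).1 (op ⊤) = s i := InvExt.mres_self F (s i)
    change g.app ⊤ ((globalSection F (s i)).1 (op ⊤)) = g'.app ⊤ ((globalSection F (s i)).1 (op ⊤)) at h2
    rwa [h3] at h2
  choose W hW hxW hspan using fun x : O => h O m x.1 x.2
  refine meq_of_cover N W hW (fun x hx => Opens.mem_iSup.mpr ⟨⟨x, hx⟩, hxW ⟨x, hx⟩⟩) fun x => ?_
  rw [← app_mres, ← app_mres]
  have hy := hspan x
  generalize mres F (hW x) m = y at hy ⊢
  induction hy using Submodule.span_induction with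
  | mem z hz =>
    obtain ⟨i, rfl⟩ := hz
    rw [app_mres, app_mres, hs]
  | zero => rw [map_zero, map_zero]
  | add z w _ _ hz hw => rw [map_add, map_add, hz, hw]
  | smul r z _ hz => rw [app_smul, app_smul, hz]

/-- Over a compact base a spanning family of a module of finite type contains a finite one. -/
theorem exists_finite_spanned [CompactSpace X] (F : X.Modules) [F.IsQuasicoherent]
    (hM : ∀ p : X, ∃ O : X.Opens, p ∈ O ∧ ∀ W : X.Opens, IsAffineOpen W → W ≤ O → Module.Finite Γ(X, W) Γ(F, W))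
    {ι : Type*} (s : ι → Γ(F, ⊤)) (h : Spanned F s) :
    ∃ (k : ℕ) (t : Fin k → ι), Spanned F (s ∘ t) := by
  classical
  have hloc : ∀ x : X, ∃ (V : X.Opens) (T : Finset ι), x ∈ V ∧ IsAffineOpen V ∧
      ∀ m : Γ(F, V), m ∈ Submodule.span Γ(X, V) (Set.range fun i : T => mres F (le_top : V ≤ ⊤) (s i)) := by
    intro x
    obtain ⟨O, hxO, hO⟩ := hM x
    obtain ⟨W₀, hW₀, hxW₀, hW₀O⟩ := exists_isAffineOpen_mem_and_subset hxO
    obtain ⟨G, hG⟩ := (hO W₀ hW₀ hW₀O).fg_top
    choose W hW hxW hspan using fun g : G => h W₀ g.1 x hxW₀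
    have hfin : ∀ g : G, ∃ T : Finset ι, mres F (hW g) g.1 ∈
        Submodule.span Γ(X, W g) (Set.range fun i : T => mres F (le_top : W g ≤ ⊤) (s i)) := fun g => by
      obtain ⟨c, hc⟩ := Finsupp.mem_span_range_iff_exists_finsupp.mp (hspan g)
      refine ⟨c.support, ?_⟩
      rw [← hc]
      exact Submodule.sum_mem _ fun i hi => Submodule.smul_mem _ _ (Submodule.subset_span ⟨⟨i, hi⟩, rfl⟩)
    choose T hT using hfin
    let V₀ : X.Opens := W₀ ⊓ Finset.univ.inf W
    obtain ⟨f, hfV, hxf⟩ := hW₀.exists_basicOpen_le (V := V₀) ⟨x, hxW₀, by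
      have : ∀ S : Finset G, x ∈ S.inf W := fun S => by
        induction S using Finset.induction_on with
        | empty => simp
        | insert a S _ ih => rw [Finset.inf_insert]; exact ⟨hxW a, ih⟩
      exact this _⟩ hxW₀
    refine ⟨X.basicOpen f, Finset.univ.biUnion T, hxf, hW₀.basicOpen f, fun m => ?_⟩
    refine (Submodule.span_le.mpr ?_) (mem_span_of_basicOpen F hW₀ f (G : Set Γ(F, W₀)) hG m)
    rintro _ ⟨g, hg, rfl⟩
    have hle : X.basicOpen f ≤ W ⟨g, hg⟩ := hfV.trans (inf_le_right.trans (Finset.inf_le (Finset.mem_univ _)))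
    have h1 := mres_mem_span_range (s := fun i : T ⟨g, hg⟩ => s i) hle (hT ⟨g, hg⟩)
    rw [InvExt.mres_mres] at h1
    refine Submodule.span_mono ?_ h1
    rintro _ ⟨i, rfl⟩
    exact ⟨⟨i.1, Finset.mem_biUnion.mpr ⟨_, Finset.mem_univ _, i.2⟩⟩, rfl⟩
  choose V T hxV hV hT using hloc
  obtain ⟨A, hA⟩ := isCompact_univ.elim_finite_subcover (fun x => (V x : Set X)) (fun x => (V x).2)
    (fun x _ => Set.mem_iUnion.mpr ⟨x, hxV x⟩)
  let U : Finset ι := A.biUnion T
  refine ⟨U.card, fun j => (U.equivFin.symm j).1, fun O m x hx => ?_⟩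
  obtain ⟨a, ha, hxa⟩ := Set.mem_iUnion₂.mp (hA (Set.mem_univ x))
  obtain ⟨f, hfO, hxf⟩ := (hV a).exists_basicOpen_le (V := O) ⟨x, hx⟩ hxa
  refine ⟨X.basicOpen f, hfO, hxf, ?_⟩
  refine (Submodule.span_le.mpr ?_) (mem_span_of_basicOpen F (hV a) f
    (Set.range fun i : T a => mres F (le_top : V a ≤ ⊤) (s i))
    (eq_top_iff.mpr fun y _ => hT a y) (mres F hfO m))
  rintro _ ⟨_, ⟨i, rfl⟩, rfl⟩
  refine Submodule.subset_span ⟨U.equivFin ⟨i.1, Finset.mem_biUnion.mpr ⟨a, ha, i.2⟩⟩, ?_⟩
  simp only [Function.comp_apply, Equiv.symm_apply_apply]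
  exact (InvExt.mres_mres F _ _ _).symm

end GrothLib.Ample
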