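import Groth.Agent.Lib.Ample.Criterion

/-!
# A single affine locus around a finite set of points
-/

universe u

set_option backward.isDefEq.respectTransparency false

open AlgebraicGeometry CategoryTheory CategoryTheory.Limits TopologicalSpace Opposite

noncomputable section

namespace GrothLib.Ample

variable {X : Scheme.{u}}

theorem exists_sep_finite {Z : Set X} (hZ : Z.Finite) :
    ∃ Z' : Finset X, (↑Z' : Set X) ⊆ Z ∧ (∀ z ∈ Z, ∃ z' ∈ Z', z ⤳ z') ∧
      ∀ a ∈ Z', ∀ b ∈ Z', a ⤳ b → a = b := by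
  classical
  refine ⟨hZ.toFinset.filter fun z => ∀ y ∈ Z, z ⤳ y → y = z, fun z hz => ?_, fun z hz => ?_, ?_⟩
  · exact hZ.mem_toFinset.mp (Finset.mem_filter.mp hz).1
  · induction hn : (hZ.toFinset.filter fun y => z ⤳ y).card using Nat.strong_induction_on generalizing z with
    | _ n ih => ?_
    by_cases hmin : ∀ y ∈ Z, z ⤳ y → y = z
    · exact ⟨z, Finset.mem_filter.mpr ⟨hZ.mem_toFinset.mpr hz, hmin⟩, specializes_rfl⟩
    · push Not at hmin
      obtain ⟨y, hy, hzy, hne⟩ := hmin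
      have hlt : (hZ.toFinset.filter fun w => y ⤳ w).card < n := by
        rw [← hn]
        refine Finset.card_lt_card ⟨fun w hw => ?_, fun hsub => ?_⟩
        · obtain ⟨hw1, hw2⟩ := Finset.mem_filter.mp hw
          exact Finset.mem_filter.mpr ⟨hw1, hzy.trans hw2⟩
        · have := Finset.mem_filter.mp (hsub (Finset.mem_filter.mpr
            ⟨hZ.mem_toFinset.mpr hz, (specializes_rfl : z ⤳ z)⟩))
          exact hne (hzy.antisymm this.2).eq.symm
      obtain ⟨z', hz', hyz'⟩ := ih _ hlt y hy rfl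
      exact ⟨z', hz', hzy.trans hyz'⟩
  · intro a ha b hb hab
    exact ((Finset.mem_filter.mp ha).2 b (hZ.mem_toFinset.mp (Finset.mem_filter.mp hb).1) hab).symm

namespace Cocycle

variable (c : Cocycle X)

theorem mem_locus_iff_isUnit {n : ℕ} (a : c.sect n ⊤) {i : c.ι} {p : X} (hi : p ∈ c.D i) :
    p ∈ c.locus a ↔ IsUnit (X.presheaf.germ (⊤ ⊓ c.D i) p ⟨trivial, hi⟩ (a.1 i)) :=
  (c.mem_locus_iff a hi).trans (X.mem_basicOpen (a.1 i) p ⟨trivial, hi⟩)

/-- A finite set in an open has an affine locus around it inside that open. -/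
theorem exists_affine_locus_finite [CompactSpace X] (h : c.IsAmp) {Z : Set X} (hZ : Z.Finite)
    {U : X.Opens} (hZU : Z ⊆ U) :
    ∃ (n : ℕ) (a : c.sect (n + 1) ⊤), Z ⊆ c.locus a ∧ c.locus a ≤ U ∧ IsAffineOpen (c.locus a) := by
  classical
  obtain ⟨Z', hZ'Z, hdom, hanti⟩ := exists_sep_finite hZ
  rcases Z'.eq_empty_or_nonempty with hemp | hne
  · refine ⟨0, 0, fun z hz => ?_, ?_, ?_⟩
    · obtain ⟨z', hz', -⟩ := hdom z hz
      simp [hemp] at hz'
    all_goals
      have h0 : c.locus (0 : c.sect 1 ⊤) = ⊥ := by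
        simp [Cocycle.locus, Scheme.basicOpen_zero]
      rw [h0]
    · exact bot_le
    · exact isAffineOpen_bot X
  -- separating opens
  have hsep : ∀ z : Z', ∃ O : X.Opens, (z : X) ∈ O ∧ O ≤ U ∧ ∀ y : Z', y ≠ z → (y : X) ∉ O := by
    intro z
    let T : Set X := ⋃ y ∈ Z'.filter (· ≠ z.1), closure {y}
    have hTc : IsClosed T := Set.Finite.isClosed_biUnion (Z'.filter (· ≠ z.1)).finite_toSet fun _ _ => isClosed_closure
    refine ⟨U ⊓ ⟨Tᶜ, hTc.isOpen_compl⟩, ⟨hZU (hZ'Z z.2), ?_⟩, inf_le_left, fun y hy hyO => ?_⟩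
    · intro hmem
      simp only [T, Set.mem_iUnion] at hmem
      obtain ⟨y, hy, hzy⟩ := hmem
      obtain ⟨hy', hne'⟩ := Finset.mem_filter.mp hy
      exact hne' (hanti y hy' z.1 z.2 (specializes_iff_mem_closure.mpr hzy))
    · exact hyO.2 (Set.mem_biUnion (Finset.mem_filter.mpr ⟨y.2, fun e => hy (Subtype.ext e)⟩)
        (subset_closure rfl))
  choose O hzO hOU hOsep using hsep
  choose n a hza haO haff using fun z : Z' => c.exists_affine_locus_le h (hzO z)
  let N := ∏ z : Z', (n z + 1)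
  have hdiv : ∀ z, ∃ q, 0 < q ∧ (n z + 1) * q = N := fun z => by
    obtain ⟨q, hq⟩ := Finset.dvd_prod_of_mem (fun z : Z' => n z + 1) (Finset.mem_univ z)
    have hN : 0 < N := Finset.prod_pos fun z _ => Nat.succ_pos (n z)
    refine ⟨q, ?_, hq.symm⟩
    rcases Nat.eq_zero_or_pos q with rfl | hq'
    · simp only [mul_zero] at hq; exact absurd hq hN.ne'
    · exact hq'
  choose q hq hqN using hdiv
  obtain ⟨N₁, hN₁⟩ : ∃ N₁, N = N₁ + 1 :=
    ⟨N - 1, by have : 0 < N := Finset.prod_pos fun z _ => Nat.succ_pos (n z); omega⟩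
  let t : Z' → c.sect (N₁ + 1) ⊤ := fun z => c.sectCast ((hqN z).trans hN₁) (c.sectPow (a z) (q z))
  have ht : ∀ z, c.locus (t z) = c.locus (a z) := fun z => c.locus_sectPow (a z) (hq z)
  let s := ∑ z, t z
  have hsmem : ∀ z : Z', (z : X) ∈ c.locus s := by
    intro z
    obtain ⟨i, hi⟩ := c.exists_mem (z : X)
    rw [c.mem_locus_iff_isUnit _ hi]
    have key : ∀ y : Z', y ≠ z → ¬ IsUnit (X.presheaf.germ (⊤ ⊓ c.D i) (z : X) ⟨trivial, hi⟩ ((t y).1 i)) := by
      intro y hy hu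
      have : (z : X) ∈ c.locus (t y) := (c.mem_locus_iff_isUnit _ hi).mpr hu
      rw [ht] at this
      exact hOsep y z (fun e => hy e.symm) (haO y this)
    have hsum : (s.1 i) = ∑ y, (t y).1 i := by
      simp only [s, AddSubmonoidClass.coe_finsetSum, Finset.sum_apply]
    rw [hsum, map_sum]
    by_contra hns
    have hz : IsUnit (X.presheaf.germ (⊤ ⊓ c.D i) (z : X) ⟨trivial, hi⟩ ((t z).1 i)) := by
      refine (c.mem_locus_iff_isUnit _ hi).mp ?_
      rw [ht]; exact hza z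
    have hrest : ∑ y ∈ Finset.univ.erase z,
        X.presheaf.germ (⊤ ⊓ c.D i) (z : X) ⟨trivial, hi⟩ ((t y).1 i) ∈
          IsLocalRing.maximalIdeal (X.presheaf.stalk (z : X)) :=
      Ideal.sum_mem _ fun y hy => key y (Finset.mem_erase.mp hy).1
    rw [← Finset.add_sum_erase _ _ (Finset.mem_univ z)] at hns
    refine (IsLocalRing.mem_maximalIdeal _).mp ?_ hz
    have hall : X.presheaf.germ (⊤ ⊓ c.D i) (z : X) ⟨trivial, hi⟩ ((t z).1 i) + _ ∈
        IsLocalRing.maximalIdeal (X.presheaf.stalk (z : X)) := hns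
    exact (Ideal.add_mem_iff_left _ hrest).mp hall
  have hsle : c.locus s ≤ ⨆ z, c.locus (t z) := by
    intro x hx
    obtain ⟨i, hi⟩ := c.exists_mem x
    rw [c.mem_locus_iff_isUnit _ hi] at hx
    by_contra hnx
    have hsum : (s.1 i) = ∑ y, (t y).1 i := by
      simp only [s, AddSubmonoidClass.coe_finsetSum, Finset.sum_apply]
    rw [hsum, map_sum] at hx
    refine (IsLocalRing.mem_maximalIdeal _).mp (Ideal.sum_mem _ fun y _ => ?_) hx
    intro hu
    exact hnx (Opens.mem_iSup.mpr ⟨y, (c.mem_locus_iff_isUnit _ hi).mpr hu⟩)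
  refine ⟨N₁, s, fun z hz => ?_, hsle.trans (iSup_le fun z => (ht z ▸ haO z).trans (hOU z)), ?_⟩
  · obtain ⟨z', hz', hzz'⟩ := hdom z hz
    exact hzz'.mem_open (c.locus s).2 (hsmem ⟨z', hz'⟩)
  choose f hf hfb using fun z => c.exists_ratio s (t z)
  refine isAffineOpen_of_isAffineOpen_basicOpen (c.locus s) (Set.range f) ?_ ?_
  · have hone : ∑ z, f z = 1 := by
      refine (c.bijective_hom_app s le_rfl).1 ?_
      show (show c.sect _ _ from (c.hom s).val.app (op (c.locus s)) (∑ z, f z : Γ(X, c.locus s))) =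
        (show c.sect _ _ from (c.hom s).val.app (op (c.locus s)) (1 : Γ(X, c.locus s)))
      rw [c.hom_app_apply, c.hom_app_apply, one_smul, Finset.sum_smul]
      rw [← Finset.sum_congr rfl fun z _ => hf z]
      exact (map_sum (c.sectRes (le_top : c.locus s ≤ ⊤)) t Finset.univ).symm
    rw [Ideal.eq_top_iff_one, ← hone]
    exact Ideal.sum_mem _ fun z _ => Ideal.subset_span ⟨z, rfl⟩
  · rintro _ ⟨z, rfl⟩
    rw [hfb z, ht z]
    obtain ⟨φ, -, hφ⟩ := c.exists_ratio (c.sectPow (a z) (q z))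
      (c.sectCast ((hqN z).trans hN₁).symm s)
    have hφ' : X.basicOpen φ = c.locus s ⊓ c.locus (a z) :=
      hφ.trans (by rw [c.locus_sectPow _ (hq z), c.locus_sectCast, inf_comm])
    rw [← hφ']
    have haff' : IsAffineOpen (c.locus (c.sectPow (a z) (q z))) := by
      rw [c.locus_sectPow _ (hq z)]; exact haff z
    exact haff'.basicOpen φ

end Cocycle

end GrothLib.Ample
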