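import Groth.Agent.Lib.Ample.ModTwist
import Groth.Agent.Lib.Ample.Finite
import Groth.Agent.Lib.QCoh.FT
import Groth.Agent.Lib.InvExt.FiniteFibre
import Groth.Prelude.Def_Curv2

/-!
# Global generation of twists
-/

universe u

set_option backward.isDefEq.respectTransparency false

open AlgebraicGeometry CategoryTheory CategoryTheory.Limits TopologicalSpace Opposite
open GrothLib.InvExt (mres IsGen)

noncomputable section

namespace GrothLib.Ample

variable {X : Scheme.{u}}

/-- The global section of a module with given value on `⊤`. -/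
def globalSection (F : X.Modules) (s : Γ(F, ⊤)) : F.val.sections :=
  PresheafOfModules.sectionsMk (fun V => mres F (le_top : V.unop ≤ ⊤) s)
    (fun V W i => InvExt.mres_mres F _ _ s)

/-- A module is globally generated when near each point every section is a combination of global ones. -/
theorem isGloballyGenerated_of_local (F : X.Modules)
    (h : ∀ (O : X.Opens) (m : Γ(F, O)) (x : X), x ∈ O → ∃ (W : X.Opens) (hW : W ≤ O), x ∈ W ∧
      mres F hW m ∈ Submodule.span Γ(X, W) (Set.range fun s : Γ(F, ⊤) => mres F (le_top : W ≤ ⊤) s)) :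
    Curv2.IsGloballyGenerated F := by
  let p : (SheafOfModules.free (R := X.ringCatSheaf) Γ(F, ⊤) : X.Modules) ⟶ F :=
    F.freeHomEquiv.symm fun s => globalSection F s
  refine ⟨Γ(F, ⊤), p, ⟨fun {N : X.Modules} (g : F ⟶ N) (g' : F ⟶ N) hgg => ?_⟩⟩
  refine Scheme.Modules.hom_ext g g' fun O => ?_
  ext (m : Γ(F, O))
  have hs : ∀ s : Γ(F, ⊤), g.app ⊤ s = g'.app ⊤ s := by
    intro s
    have h1 := congrArg (fun q => (N.freeHomEquiv q s).1 (op ⊤)) hgg
    simp only [SheafOfModules.freeHomEquiv_comp_apply] at h1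
    have h2 : F.freeHomEquiv p s = globalSection F s :=
      congrFun (F.freeHomEquiv.apply_symm_apply _) s
    rw [h2] at h1
    have h3 : (globalSection F s).1 (op ⊤) = s := InvExt.mres_self F s
    change g.app ⊤ ((globalSection F s).1 (op ⊤)) = g'.app ⊤ ((globalSection F s).1 (op ⊤)) at h1
    rw [h3] at h1
    exact h1
  choose W hW hxW hspan using fun x : O => h O m x.1 x.2
  refine meq_of_cover N W hW (fun x hx => Opens.mem_iSup.mpr ⟨⟨x, hx⟩, hxW ⟨x, hx⟩⟩) fun x => ?_
  rw [← app_mres, ← app_mres]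
  have hy := hspan x
  generalize mres F (hW x) m = y at hy ⊢
  induction hy using Submodule.span_induction with
  | mem z hz =>
    obtain ⟨s, rfl⟩ := hz
    rw [app_mres, app_mres, hs]
  | zero => rw [map_zero, map_zero]
  | add z w _ _ hz hw => rw [map_add, map_add, hz, hw]
  | smul r z _ hz => rw [app_smul, app_smul, hz]

theorem isGloballyGenerated_of_iso {F G : X.Modules} (e : F ≅ G) (h : Curv2.IsGloballyGenerated F) :
    Curv2.IsGloballyGenerated G := by
  obtain ⟨ι, p, hp⟩ := h
  exact ⟨ι, p ≫ e.hom, inferInstance⟩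

/-- Restrictions of sections on an affine open span the sections on its basic opens. -/
theorem mem_span_of_basicOpen (F : X.Modules) [F.IsQuasicoherent] {U : X.Opens} (hU : IsAffineOpen U)
    (f : Γ(X, U)) (S : Set Γ(F, U)) (hS : Submodule.span Γ(X, U) S = ⊤) (y : Γ(F, X.basicOpen f)) :
    y ∈ Submodule.span Γ(X, X.basicOpen f) (mres F (X.basicOpen_le f) '' S) := by
  obtain ⟨n, t, ht⟩ := (QCoh.smulLift_and_smulSep_of_isAffineOpen hU F f).1 y
  have hu : IsUnit (res (X.basicOpen_le f) f ^ n) :=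
    (RingedSpace.isUnit_res_basicOpen X.toRingedSpace f).pow n
  have hy : y = (↑hu.unit⁻¹ : Γ(X, X.basicOpen f)) • mres F (X.basicOpen_le f) t := by
    change y = (↑hu.unit⁻¹ : Γ(X, X.basicOpen f)) • F.presheaf.map (homOfLE (X.basicOpen_le f)).op t
    rw [ht, smul_smul]
    conv_lhs => rw [← one_smul Γ(X, X.basicOpen f) y, ← hu.val_inv_mul]
  rw [hy]
  refine Submodule.smul_mem _ _ ?_
  have htS : t ∈ Submodule.span Γ(X, U) S := hS ▸ Submodule.mem_top
  generalize t = z at htS ⊢
  induction htS using Submodule.span_induction with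
  | mem w hw => exact Submodule.subset_span ⟨w, hw, rfl⟩
  | zero => rw [show mres F (X.basicOpen_le f) 0 = 0 from map_zero _]; exact Submodule.zero_mem _
  | add w v _ _ hw hv =>
    rw [show mres F (X.basicOpen_le f) (w + v) = mres F _ w + mres F _ v from map_add _ _ _]
    exact Submodule.add_mem _ hw hv
  | smul r w _ hw => rw [mres_smul']; exact Submodule.smul_mem _ _ hw

/-- Quasi-coherent modules on quasi-affine schemes are globally generated. -/
theorem isGloballyGenerated_of_isQuasiAffine [X.IsQuasiAffine] (F : X.Modules) [F.IsQuasicoherent] :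
    Curv2.IsGloballyGenerated F := by
  refine isGloballyGenerated_of_local F fun O m x hx => ?_
  obtain ⟨_, ⟨_, ⟨r, hr, rfl⟩, rfl⟩, hxr, hrO⟩ :=
    (Scheme.IsQuasiAffine.isBasis_basicOpen X).exists_subset_of_mem_open hx O.2
  obtain ⟨k, t, ht⟩ := QCoh.smulLift_of_isCompact F (U := (⊤ : X.Opens)) isCompact_univ
    isQuasiSeparated_univ r (mres F hrO m)
  refine ⟨X.basicOpen r, hrO, hxr, ?_⟩
  have hu : IsUnit (res (X.basicOpen_le r) r ^ k) :=
    (RingedSpace.isUnit_res_basicOpen X.toRingedSpace r).pow k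
  have hy : mres F hrO m = (↑hu.unit⁻¹ : Γ(X, X.basicOpen r)) • mres F (X.basicOpen_le r) t := by
    change _ = (↑hu.unit⁻¹ : Γ(X, X.basicOpen r)) • F.presheaf.map (homOfLE (X.basicOpen_le r)).op t
    rw [ht, smul_smul]
    conv_lhs => rw [← one_smul Γ(X, X.basicOpen r) (mres F hrO m), ← hu.val_inv_mul]
  rw [hy]
  exact Submodule.smul_mem _ _ (Submodule.subset_span ⟨t, rfl⟩)

namespace Cocycle

variable (c : Cocycle X) (M : X.Modules)

/-- Twists of a finite type module by high powers of an ample one are spanned by global sections near each point. -/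
theorem eventually_spanned [CompactSpace X] (hc : c.IsAmp) [M.IsQuasicoherent]
    (hM : ∀ p : X, ∃ O : X.Opens, p ∈ O ∧ ∀ W : X.Opens, IsAffineOpen W → W ≤ O →
      Module.Finite Γ(X, W) Γ(M, W)) :
    ∃ n₀ : ℕ, ∀ n, n₀ ≤ n → ∀ (O : X.Opens) (μ : c.msect M n O) (x : X), x ∈ O →
      ∃ (W : X.Opens) (hW : W ≤ O), x ∈ W ∧ c.msectRes hW μ ∈
        Submodule.span Γ(X, W) (Set.range fun s : c.msect M n ⊤ => c.msectRes (le_top : W ≤ ⊤) s) := by
  classical
  haveI := c.quasiSeparatedSpace_of_isAmp hc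
  have hloc : ∀ p : X, ∃ (i : c.ι) (n : ℕ) (a : c.sect (n + 1) ⊤), p ∈ c.locus a ∧
      c.locus a ≤ c.D i ∧ IsAffineOpen (c.locus a) ∧ Module.Finite Γ(X, c.locus a) Γ(M, c.locus a) := by
    intro p
    obtain ⟨i, hi⟩ := c.exists_mem p
    obtain ⟨O, hpO, hO⟩ := hM p
    obtain ⟨n, a, hpa, ha, haff⟩ := c.exists_affine_locus_le hc (show p ∈ c.D i ⊓ O from ⟨hi, hpO⟩)
    exact ⟨i, n, a, hpa, ha.trans inf_le_left, haff, hO _ haff (ha.trans inf_le_right)⟩
  choose i e a hpa haD haff hfin using hloc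
  obtain ⟨t, ht⟩ := isCompact_univ.elim_finite_subcover (fun p => (c.locus (a p) : Set X))
    (fun p => (c.locus (a p)).2) (fun p _ => Set.mem_iUnion.mpr ⟨p, hpa p⟩)
  let k := ∏ p : t, (e p.1 + 1)
  have hk : 0 < k := Finset.prod_pos fun p _ => Nat.succ_pos _
  have hdiv : ∀ p : t, ∃ q, 0 < q ∧ (e p.1 + 1) * q = k := fun p => by
    obtain ⟨q, hq⟩ := Finset.dvd_prod_of_mem (fun p : t => e p.1 + 1) (Finset.mem_univ p)
    refine ⟨q, ?_, hq.symm⟩
    rcases Nat.eq_zero_or_pos q with rfl | hq'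
    · simp only [mul_zero] at hq; exact absurd hq hk.ne'
    · exact hq'
  choose q hq hqk using hdiv
  let b : t → c.sect k ⊤ := fun p => c.sectCast (hqk p) (c.sectPow (a p.1) (q p))
  have hb : ∀ p : t, c.locus (b p) = c.locus (a p.1) := fun p => c.locus_sectPow (a p.1) (hq p)
  have hbD : ∀ p : t, c.locus (b p) ≤ c.D (i p.1) := fun p => (hb p).le.trans (haD p.1)
  have hbfin : ∀ p : t, Module.Finite Γ(X, c.locus (b p)) Γ(M, c.locus (b p)) := fun p =>
    (hb p).symm ▸ hfin p.1
  choose G hG using fun p : t => (hbfin p).fg_top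
  let T := Σ p : t, Σ _ : Fin k, G p
  have hext : ∀ r : Fin k, ∃ m₀ : ℕ, ∀ m, m₀ ≤ m → ∀ s : Σ p : t, G p,
      ∃ B : c.msect M (r + k * m) ⊤, c.msectRes (le_top : c.locus (b s.1) ≤ ⊤) B =
        c.mraise (b s.1) (c.mbase r (i s.1.1) (hbD s.1) s.2.1) m :=
    fun r => c.exists_mextend_uniform (M := M) (T := Σ p : t, G p) (fun s => b s.1)
      (fun s => c.mbase r (i s.1.1) (hbD s.1) s.2.1)
  choose m₀ hm₀ using hext
  let M₀ := Finset.univ.sup m₀
  refine ⟨k * (M₀ + 1), fun n hn => ?_⟩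
  let r : Fin k := ⟨n % k, Nat.mod_lt _ hk⟩
  let m := n / k
  have hn' : (r : ℕ) + k * m = n := Nat.mod_add_div n k
  have hm : m₀ r ≤ m := by
    refine le_trans (Finset.le_sup (Finset.mem_univ r)) ?_
    have h1 : M₀ + 1 ≤ n / k := (Nat.le_div_iff_mul_le hk).mpr (by rw [mul_comm]; exact hn)
    omega
  choose B hB using hm₀ r m hm
  intro O μ x hx
  obtain ⟨p₀, hp₀, hxp⟩ := Set.mem_iUnion₂.mp (ht (Set.mem_univ x))
  let p : t := ⟨p₀, hp₀⟩
  have hxb : x ∈ c.locus (b p) := by rw [hb]; exact hxp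
  have hAb : IsAffineOpen (c.locus (b p)) := by rw [hb]; exact haff p.1
  obtain ⟨f, hfO, hxf⟩ := hAb.exists_basicOpen_le (V := O) ⟨x, hx⟩ hxb
  let W := X.basicOpen f
  have hWD : W ≤ c.D (i p.1) := (X.basicOpen_le f).trans (hbD p)
  refine ⟨W, hfO, hxf, ?_⟩
  let μ' : c.msect M n W := c.msectRes hfO μ
  -- the component of `μ` and the unit `b ^ m`
  let α : Γ(X, W) := res (le_inf le_top hWD) ((b p).1 (i p.1))
  have hαu : IsUnit α := by
    refine X.toRingedSpace.isUnit_of_isUnit_germ W _ fun y hy => ?_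
    have h1 : y ∈ X.basicOpen ((b p).1 (i p.1)) := (c.mem_locus_iff _ (hWD hy)).mp (X.basicOpen_le f hy)
    have h2 := (X.mem_basicOpen ((b p).1 (i p.1)) y ⟨trivial, hWD hy⟩).mp h1
    erw [X.presheaf.germ_res_apply]
    exact h2
  let y : Γ(M, W) := (↑((hαu.pow m).unit⁻¹) : Γ(X, W)) • mres M (le_inf le_rfl hWD) (μ'.1 (i p.1))
  have hy := mem_span_of_basicOpen M hAb f (G p : Set Γ(M, c.locus (b p))) (hG p) y
  have key : ∀ z ∈ Submodule.span Γ(X, W) (mres M (X.basicOpen_le f) '' (G p : Set Γ(M, c.locus (b p)))),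
      c.mbase n (i p.1) hWD (α ^ m • z) ∈
        Submodule.span Γ(X, W) (Set.range fun s : c.msect M n ⊤ => c.msectRes (le_top : W ≤ ⊤) s) := by
    intro z hz
    induction hz using Submodule.span_induction with
    | mem w hw =>
      obtain ⟨g, hg, rfl⟩ := hw
      refine Submodule.subset_span ⟨c.msectCast hn' (B ⟨p, ⟨g, hg⟩⟩), ?_⟩
      have hB' := congrArg (c.msectRes (X.basicOpen_le f : W ≤ c.locus (b p))) (hB ⟨p, ⟨g, hg⟩⟩)
      rw [c.msectRes_msectRes] at hB'
      show c.msectRes (le_top : W ≤ ⊤) (c.msectCast hn' (B ⟨p, ⟨g, hg⟩⟩)) = _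
      rw [c.msectRes_msectCast, hB']
      refine c.msect_ext_of_le hWD ?_
      simp only [msectCast_apply, msectRes_apply, mraise_apply, mbase_self, mres_smul', α, map_pow, res_res,
        InvExt.mres_mres]
      rfl
    | zero =>
      rw [smul_zero, show c.mbase n (i p.1) hWD (0 : Γ(M, W)) = 0 from c.msect_ext fun l => by
        show _ • mres M _ (0 : Γ(M, W)) = 0
        rw [show mres M _ (0 : Γ(M, W)) = 0 from map_zero _, smul_zero]]
      exact Submodule.zero_mem _
    | add z w _ _ hz hw =>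
      rw [smul_add, show c.mbase n (i p.1) hWD (α ^ m • z + α ^ m • w) =
          c.mbase n (i p.1) hWD (α ^ m • z) + c.mbase n (i p.1) hWD (α ^ m • w) from c.msect_ext_of_le hWD (by
        show _ = (c.mbase n (i p.1) hWD (α ^ m • z)).1 _ + (c.mbase n (i p.1) hWD (α ^ m • w)).1 _
        rw [c.mbase_self, c.mbase_self, c.mbase_self]
        exact map_add _ _ _)]
      exact Submodule.add_mem _ hz hw
    | smul r z _ hz =>
      rw [smul_comm, show c.mbase n (i p.1) hWD (r • α ^ m • z) = r • c.mbase n (i p.1) hWD (α ^ m • z) from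
        c.msect_ext_of_le hWD (by rw [c.msmul_apply, c.mbase_self, c.mbase_self, mres_smul'])]
      exact Submodule.smul_mem _ _ hz
  have h := key y hy
  rw [show α ^ m • y = mres M (le_inf le_rfl hWD) (μ'.1 (i p.1)) by
    simp only [y, smul_smul]
    rw [(hαu.pow m).mul_val_inv, one_smul], ← c.eq_mbase (i p.1) hWD μ'] at h
  exact h

/-- Twists of a finite type module by high powers of an ample one are globally generated. -/
theorem eventually_isGloballyGenerated [CompactSpace X] (hc : c.IsAmp) [M.IsQuasicoherent]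
    (hM : ∀ p : X, ∃ O : X.Opens, p ∈ O ∧ ∀ W : X.Opens, IsAffineOpen W → W ≤ O →
      Module.Finite Γ(X, W) Γ(M, W)) :
    ∃ n₀ : ℕ, ∀ n, n₀ ≤ n → Curv2.IsGloballyGenerated (c.modTwist M n) := by
  obtain ⟨n₀, h⟩ := c.eventually_spanned M hc hM
  exact ⟨n₀, fun n hn => isGloballyGenerated_of_local _ fun O (μ : c.msect M n O) x hx => h n hn O μ x hx⟩

variable (c' : Cocycle X)

/-- The components of a twisted section of a twist. -/
abbrev comp2 {n : ℕ} {V : X.Opens} (b : c.msect (c'.twist 1) n V) (i : c.ι) : c'.sect 1 (V ⊓ c.D i) := b.1 i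

/-- A twisted section of a twist as a family of the product cocycle. -/
def mixSect {n : ℕ} {V : X.Opens} (b : c.msect (c'.twist 1) n V) : ((c.pow n).prod c').sect 1 V :=
  ⟨fun p => res (le_inf (le_inf inf_le_left (inf_le_right.trans inf_le_left)) (inf_le_right.trans inf_le_right))
      ((c.comp2 c' b p.1).1 p.2),
    fun (p : c.ι × c'.ι) (q : c.ι × c'.ι) W (hp : W ≤ V ⊓ (c.D p.1 ⊓ c'.D p.2))
        (hq : W ≤ V ⊓ (c.D q.1 ⊓ c'.D q.2)) => by
      have hp1 : W ≤ V ⊓ c.D p.1 := le_inf (hp.trans inf_le_left) ((hp.trans inf_le_right).trans inf_le_left)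
      have hq1 : W ≤ V ⊓ c.D q.1 := le_inf (hq.trans inf_le_left) ((hq.trans inf_le_right).trans inf_le_left)
      have hp2 : W ≤ W ⊓ c'.D p.2 := le_inf le_rfl ((hp.trans inf_le_right).trans inf_le_right)
      have hq2 : W ≤ (V ⊓ c.D q.1) ⊓ c'.D q.2 := le_inf hq1 ((hq.trans inf_le_right).trans inf_le_right)
      have h1 := c.msect_spec b p.1 q.1 hp1 hq1
      have h2 := congrArg (fun t : c'.sect 1 W => res hp2 (t.1 p.2)) h1
      change res hp2 (res _ ((c.comp2 c' b p.1).1 p.2)) =
        res hp2 (res inf_le_left _ * res _ ((c.comp2 c' b q.1).1 p.2)) at h2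
      simp only [map_mul, map_pow, res_res, res_G] at h2
      have h3 := c'.sect_spec (c.comp2 c' b q.1) p.2 q.2
        (le_inf hq1 (hp2.trans inf_le_right)) hq2
      rw [h3, pow_one] at h2
      show res hp (res _ _) = _ * res hq (res _ _)
      rw [pow_one, prod_G, pow_G, res_res, res_res]
      exact h2.trans (mul_assoc _ _ _).symm⟩

theorem mixSect_apply {n : ℕ} {V : X.Opens} (b : c.msect (c'.twist 1) n V) (i : c.ι) (k : c'.ι) :
    (c.mixSect c' b).1 (i, k) =
      res (le_inf (le_inf inf_le_left (inf_le_right.trans inf_le_left)) (inf_le_right.trans inf_le_right))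
        ((c.comp2 c' b i).1 k) := rfl

/-- High powers of an ample cocycle times any cocycle are pointwise generated. -/
theorem eventually_isGenerated [CompactSpace X] (hc : c.IsAmp) :
    ∃ n₀ : ℕ, ∀ n, n₀ ≤ n → ∀ x : X, ∃ B : ((c.pow n).prod c').sect 1 ⊤, x ∈ ((c.pow n).prod c').locus B := by
  haveI : (c'.twist 1).IsQuasicoherent := InvExt.isQuasicoherent_of_isInvertible (c'.isInvertible_twist 1)
  obtain ⟨n₀, h⟩ := c.eventually_spanned (c'.twist 1) hc fun p => by
    obtain ⟨k, hk⟩ := c'.exists_mem p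
    refine ⟨c'.D k, hk, fun W _ hW => ⟨⟨{c'.base 1 k hW}, eq_top_iff.mpr fun (z : c'.sect 1 W) _ => ?_⟩⟩⟩
    rw [c'.eq_smul_base k hW z]
    exact Submodule.smul_mem _ _ (Submodule.subset_span (by simp))
  refine ⟨n₀, fun n hn x => ?_⟩
  obtain ⟨i, hi⟩ := c.exists_mem x
  obtain ⟨k, hk⟩ := c'.exists_mem x
  let O : X.Opens := c.D i ⊓ c'.D k
  obtain ⟨W, hW, hxW, hspan⟩ := h n hn O (c.mbase n i inf_le_left (c'.base 1 k (inf_le_right : O ≤ c'.D k))) x ⟨hi, hk⟩
  by_contra hno
  push Not at hno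
  have hik : W ≤ (c.D i) ⊓ (c'.D k) := hW
  have hmem : ∀ z ∈ Submodule.span Γ(X, W)
      (Set.range fun s : c.msect (c'.twist 1) n ⊤ => c.msectRes (le_top : W ≤ ⊤) s),
      ¬ IsUnit (X.presheaf.germ (W ⊓ ((c.pow n).prod c').D (i, k)) x ⟨hxW, hi, hk⟩
        ((c.mixSect c' z).1 (i, k))) := by
    intro z hz
    induction hz using Submodule.span_induction with
    | mem w hw =>
      obtain ⟨s, rfl⟩ := hw
      intro hu
      refine hno (c.mixSect c' s) ?_
      rw [((c.pow n).prod c').mem_locus_iff_isUnit _ (show x ∈ ((c.pow n).prod c').D (i, k) from ⟨hi, hk⟩)]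
      rw [mixSect_apply] at hu ⊢
      change IsUnit (X.presheaf.germ _ x _ (res _ (res _ ((c.comp2 c' s i).1 k)))) at hu
      erw [X.presheaf.germ_res_apply, X.presheaf.germ_res_apply] at hu
      erw [X.presheaf.germ_res_apply]
      exact hu
    | zero =>
      rw [mixSect_apply]
      show ¬ IsUnit (X.presheaf.germ _ x _ (res _ (0 : Γ(X, _))))
      rw [map_zero, map_zero]
      exact not_isUnit_zero
    | add z w _ _ hz hw =>
      intro hu
      rw [mixSect_apply] at hu hz hw
      change IsUnit (X.presheaf.germ _ x _ (res _ (_ + _))) at hu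
      rw [map_add, map_add] at hu
      rcases IsLocalRing.isUnit_or_isUnit_of_isUnit_add hu with h' | h'
      · exact hz h'
      · exact hw h'
    | smul r z _ hz =>
      intro hu
      rw [mixSect_apply] at hu hz
      change IsUnit (X.presheaf.germ _ x _ (res _ (_ * _))) at hu
      rw [map_mul, map_mul] at hu
      exact hz (isUnit_of_mul_isUnit_right hu)
  refine hmem _ hspan ?_
  have e : (c.mixSect c' (c.msectRes hW (c.mbase n i inf_le_left (c'.base 1 k (inf_le_right : O ≤ c'.D k))))).1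
      (i, k) = 1 := by
    have e0 : (c.msectRes hW (c.mbase (M := c'.twist 1) n i inf_le_left (c'.base 1 k (inf_le_right : O ≤ c'.D k)))).1 i =
        mres (c'.twist 1) (inf_le_inf_right (c.D i) hW) (mres (c'.twist 1) inf_le_left
          (c'.base 1 k (inf_le_right : O ≤ c'.D k))) := by
      rw [c.msectRes_apply, c.mbase_self]
    rw [mixSect_apply]
    refine (congrArg (res _) (congrArg (fun t : c'.sect 1 (W ⊓ c.D i) => t.1 k) e0)).trans ?_
    show res _ (res _ (res _ ((c'.base 1 k _).1 k))) = 1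
    rw [c'.base_self, map_one, map_one, map_one]
  rw [e, map_one]
  exact isUnit_one

end Cocycle

end GrothLib.Ample
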