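import Groth.Agent.Lib.Ample.CocTensor
import Mathlib.AlgebraicGeometry.Morphisms.Affine

/-!
# Loci of sections, the extension of sections from a locus, and ampleness in terms of cocycles
-/

universe u

set_option backward.isDefEq.respectTransparency false

open AlgebraicGeometry CategoryTheory CategoryTheory.Limits TopologicalSpace Opposite
open GrothLib.InvExt (mres IsGen)

noncomputable section

namespace GrothLib.Ample

variable {X : Scheme.{u}}

namespace Cocycle

variable (c : Cocycle X) {n m k d : ℕ}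

/-- Transport of a family along an equality of exponents. -/
def sectCast {V : X.Opens} (h : n = m) (a : c.sect n V) : c.sect m V := ⟨a.1, h ▸ a.2⟩

theorem sectCast_apply {V : X.Opens} (h : n = m) (a : c.sect n V) (i : c.ι) :
    (c.sectCast h a).1 i = a.1 i := rfl

theorem locus_sectCast (h : n = m) (a : c.sect n ⊤) : c.locus (c.sectCast h a) = c.locus a := rfl

/-- Powers of a family. -/
def sectPow {V : X.Opens} (a : c.sect k V) (m : ℕ) : c.sect (k * m) V :=
  ⟨fun i => a.1 i ^ m, fun i j W hi hj => by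
    simp only [map_pow, c.sect_spec a i j hi hj, mul_pow, pow_mul]⟩

theorem sectPow_apply {V : X.Opens} (a : c.sect k V) (m : ℕ) (i : c.ι) :
    (c.sectPow a m).1 i = a.1 i ^ m := rfl

theorem mem_locus_iff (a : c.sect n ⊤) {i : c.ι} {p : X} (hp : p ∈ c.D i) :
    p ∈ c.locus a ↔ p ∈ X.basicOpen (a.1 i) := by
  rw [← c.locus_inf_D a i]
  exact ⟨fun h => ⟨h, hp⟩, fun h => h.1⟩

theorem locus_mul (a : c.sect n ⊤) (b : c.sect m ⊤) : c.locus (c.mul a b) = c.locus a ⊓ c.locus b := by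
  ext p
  obtain ⟨i, hi⟩ := c.exists_mem p
  simp only [SetLike.mem_coe, Opens.mem_inf]
  rw [c.mem_locus_iff _ hi, c.mem_locus_iff _ hi, c.mem_locus_iff _ hi, mul_apply, Scheme.basicOpen_mul,
    Opens.mem_inf]

theorem locus_sectPow (a : c.sect k ⊤) (hm : 0 < m) : c.locus (c.sectPow a m) = c.locus a := by
  obtain ⟨l, rfl⟩ : ∃ l, m = l + 1 := ⟨m - 1, by omega⟩
  ext p
  obtain ⟨i, hi⟩ := c.exists_mem p
  simp only [SetLike.mem_coe]
  rw [c.mem_locus_iff _ hi, c.mem_locus_iff _ hi, sectPow_apply, Scheme.basicOpen_pow _ _ (Nat.succ_pos l)]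

theorem le_locus_sectPow (a : c.sect k ⊤) (m : ℕ) : c.locus a ≤ c.locus (c.sectPow a m) := by
  intro p hp
  rcases Nat.eq_zero_or_pos m with rfl | hm
  · rw [c.locus_eq_top_of_isUnit _ fun i => by rw [sectPow_apply, pow_zero]; exact isUnit_one]
    trivial
  · rwa [c.locus_sectPow a hm]

theorem locus_inf_eq_basicOpen (a : c.sect n ⊤) {i : c.ι} {W : X.Opens} (hW : W ≤ c.D i) :
    c.locus a ⊓ W = X.basicOpen (res (le_inf le_top hW) (a.1 i)) := by
  rw [Scheme.basicOpen_res, ← c.locus_inf_D a i]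
  ext p
  exact ⟨fun h => ⟨h.2, h.1, hW h.2⟩, fun h => ⟨h.2.1, h.1⟩⟩

theorem exists_affine_le_D (p : X) :
    ∃ (i : c.ι) (W : X.Opens), p ∈ W ∧ W ≤ c.D i ∧ IsAffineOpen W := by
  obtain ⟨i, hi⟩ := c.exists_mem p
  obtain ⟨W, hW, hpW, hWD⟩ := exists_isAffineOpen_mem_and_subset hi
  exact ⟨i, W, hpW, hWD, hW⟩

/-- The inclusion of a locus is affine. -/
theorem isAffineHom_locus_ι (a : c.sect n ⊤) : IsAffineHom (c.locus a).ι := by
  refine isAffineHom_of_forall_exists_isAffineOpen _ fun p => ?_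
  obtain ⟨i, W, hpW, hWD, hW⟩ := c.exists_affine_le_D p
  refine ⟨W, hpW, hW, ?_⟩
  apply (Scheme.Hom.isAffineOpen_iff_of_isOpenImmersion (c.locus a).ι).mp
  rw [Scheme.Hom.image_preimage_eq_opensRange_inf, Scheme.Opens.opensRange_ι,
    c.locus_inf_eq_basicOpen a hWD]
  exact hW.basicOpen _

theorem isAffineOpen_locus_inf (a : c.sect n ⊤) {U : X.Opens} (hU : IsAffineOpen U) :
    IsAffineOpen (c.locus a ⊓ U) := by
  haveI := c.isAffineHom_locus_ι a
  have h := (Scheme.Hom.isAffineOpen_iff_of_isOpenImmersion (c.locus a).ι).mpr (hU.preimage (c.locus a).ι)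
  rwa [Scheme.Hom.image_preimage_eq_opensRange_inf, Scheme.Opens.opensRange_ι] at h

theorem mres_twist_smul {V W : X.Opens} (h : W ≤ V) (r : Γ(X, V)) (a : c.sect n V) :
    c.sectRes h (r • a) = res h r • c.sectRes h a := c.sectRes_smul h r a

/-- The basic open of a ratio of two sections. -/
theorem basicOpen_eq_of_smul {U : X.Opens} (s t : c.sect n ⊤) (hU : U ≤ c.locus s) (f : Γ(X, U))
    (h : c.sectRes le_top t = f • c.sectRes (le_top : U ≤ ⊤) s) : X.basicOpen f = U ⊓ c.locus t := by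
  ext p
  simp only [SetLike.mem_coe, Opens.mem_inf]
  by_cases hp : p ∈ U
  swap
  · exact ⟨fun h' => absurd (X.basicOpen_le f h') hp, fun h' => absurd h'.1 hp⟩
  obtain ⟨i, hi⟩ := c.exists_mem p
  have hs := (c.mem_locus_iff s hi).mp (hU hp)
  have e := congrArg (fun x : c.sect n U => X.basicOpen (x.1 i)) h
  simp only [smul_apply, sectRes_apply, Scheme.basicOpen_mul, Scheme.basicOpen_res] at e
  have e' := SetLike.ext_iff.mp e p
  simp only [Opens.mem_inf] at e'
  rw [c.mem_locus_iff t hi]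
  constructor
  · intro hf
    exact ⟨hp, (e'.mpr ⟨⟨⟨hp, hi⟩, hf⟩, ⟨hp, hi⟩, hs⟩).2⟩
  · intro ht
    exact (e'.mp ⟨⟨hp, hi⟩, ht.2⟩).1.2

/-- Ratios of sections of the same degree on a locus. -/
theorem exists_ratio (s t : c.sect n ⊤) :
    ∃ f : Γ(X, c.locus s), c.sectRes le_top t = f • c.sectRes (le_top : c.locus s ≤ ⊤) s ∧
      X.basicOpen f = c.locus s ⊓ c.locus t := by
  obtain ⟨(f : Γ(X, c.locus s)), hf⟩ := (c.bijective_hom_app s le_rfl).2 (c.sectRes le_top t)
  have h : c.sectRes le_top t = f • c.sectRes (le_top : c.locus s ≤ ⊤) s := hf.symm.trans (c.hom_app_apply s _ f)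
  exact ⟨f, h, c.basicOpen_eq_of_smul s t le_rfl f h⟩

/-! ### Extension of sections -/

theorem sectRes_mul {V W : X.Opens} (h : W ≤ V) (a : c.sect n V) (b : c.sect m V) :
    c.sectRes h (c.mul a b) = c.mul (c.sectRes h a) (c.sectRes h b) :=
  c.sect_ext fun _ => map_mul _ _ _

theorem sectRes_sectPow {V W : X.Opens} (h : W ≤ V) (a : c.sect k V) (m : ℕ) :
    c.sectRes h (c.sectPow a m) = c.sectPow (c.sectRes h a) m :=
  c.sect_ext fun _ => map_pow _ _ _

theorem sectRes_sectCast {V W : X.Opens} (h : W ≤ V) (e : n = m) (a : c.sect n V) :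
    c.sectRes h (c.sectCast e a) = c.sectCast e (c.sectRes h a) :=
  c.sect_ext fun _ => rfl

/-- Multiplication by a power of `a`. -/
def raise (a : c.sect k ⊤) {V : X.Opens} (b : c.sect (d + k * m) V) (M : ℕ) : c.sect (d + k * (m + M)) V :=
  c.sectCast (by rw [mul_add, ← add_assoc]) (c.mul b (c.sectPow (c.sectRes (le_top : V ≤ ⊤) a) M))

theorem raise_apply (a : c.sect k ⊤) {V : X.Opens} (b : c.sect (d + k * m) V) (M : ℕ) (i : c.ι) :
    (c.raise a b M).1 i = b.1 i * res (inf_le_inf_right _ le_top) (a.1 i) ^ M := rfl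

theorem sectRes_raise (a : c.sect k ⊤) {V W : X.Opens} (h : W ≤ V) (b : c.sect (d + k * m) V) (M : ℕ) :
    c.sectRes h (c.raise a b M) = c.raise a (c.sectRes h b) M :=
  c.sect_ext fun i => by simp only [sectRes_apply, raise_apply, map_mul, map_pow, res_res]

/-- A section times a power of `a`, on a smaller open. -/
def powMul (a : c.sect k ⊤) (β : c.sect d (c.locus a)) {V : X.Opens} (h : V ≤ c.locus a) (m : ℕ) :
    c.sect (d + k * m) V :=
  c.mul (c.sectRes h β) (c.sectPow (c.sectRes (le_top : V ≤ ⊤) a) m)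

theorem powMul_apply (a : c.sect k ⊤) (β : c.sect d (c.locus a)) {V : X.Opens} (h : V ≤ c.locus a) (m : ℕ)
    (i : c.ι) : (c.powMul a β h m).1 i =
      res (inf_le_inf_right _ h) (β.1 i) * res (inf_le_inf_right _ le_top) (a.1 i) ^ m := rfl

theorem sectRes_powMul (a : c.sect k ⊤) (β : c.sect d (c.locus a)) {V W : X.Opens} (h : V ≤ c.locus a)
    (h' : W ≤ V) (m : ℕ) : c.sectRes h' (c.powMul a β h m) = c.powMul a β (h'.trans h) m :=
  c.sect_ext fun i => by simp only [sectRes_apply, powMul_apply, map_mul, map_pow, res_res]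

theorem raise_powMul (a : c.sect k ⊤) (β : c.sect d (c.locus a)) {V : X.Opens} (h : V ≤ c.locus a) (M : ℕ) :
    c.raise a (c.powMul a β h m) M = c.powMul a β h (m + M) :=
  c.sect_ext fun i => by simp only [raise_apply, powMul_apply, pow_add, mul_assoc]

/-- A section on an affine piece extending a given one from the locus of `a`. -/
theorem exists_extend_affine (a : c.sect k ⊤) (β : c.sect d (c.locus a)) {i : c.ι} {W : X.Opens}
    (hW : IsAffineOpen W) (hWD : W ≤ c.D i) :
    ∃ (m : ℕ) (b : c.sect (d + k * m) W), c.sectRes (inf_le_left : W ⊓ c.locus a ≤ W) b =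
      c.powMul a β (inf_le_right : W ⊓ c.locus a ≤ c.locus a) m := by
  let α : Γ(X, W) := res (le_inf le_top hWD) (a.1 i)
  have hα : c.locus a ⊓ W = X.basicOpen α := c.locus_inf_eq_basicOpen a hWD
  have h1 : X.basicOpen α ≤ c.locus a ⊓ c.D i := le_inf (hα ▸ inf_le_left) ((X.basicOpen_le α).trans hWD)
  have h2 : W ⊓ c.locus a ≤ X.basicOpen α := (inf_comm _ _).le.trans hα.le
  obtain ⟨m, ψ, hψ⟩ := exists_eq_pow_mul_of_isAffineOpen X W hW α (res h1 (β.1 i))
  refine ⟨m, ψ • c.base (d + k * m) i hWD, c.sect_ext_of_le (inf_le_left.trans hWD) ?_⟩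
  have e := congrArg (res (inf_le_left.trans h2 : (W ⊓ c.locus a) ⊓ c.D i ≤ X.basicOpen α)) hψ
  change res _ (res _ ψ) = res _ (res _ α ^ m * res h1 (β.1 i)) at e
  simp only [α, map_mul, map_pow, res_res] at e
  simp only [sectRes_apply, smul_apply, base_self, mul_one, powMul_apply, map_pow, res_res, map_mul, e]
  exact mul_comm _ _

/-- Sections agreeing on the locus of `a` agree after multiplication by a power of `a`. -/
theorem exists_raise_eq (a : c.sect k ⊤) {T : X.Opens} (hT : IsCompact (T : Set X)) {i : c.ι}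
    (hTD : T ≤ c.D i) (b b' : c.sect (d + k * m) T)
    (h : c.sectRes (inf_le_left : T ⊓ c.locus a ≤ T) b = c.sectRes inf_le_left b') :
    ∃ M₀, ∀ M, M₀ ≤ M → c.raise a b M = c.raise a b' M := by
  let α : Γ(X, T) := res (le_inf le_top hTD) (a.1 i)
  have hle : T ≤ T ⊓ c.D i := le_inf le_rfl hTD
  let δ : Γ(X, T) := res hle (b.1 i) - res hle (b'.1 i)
  have hd : res (X.basicOpen_le α) δ = 0 := by
    have h1 : X.basicOpen α ≤ (T ⊓ c.locus a) ⊓ c.D i := by
      rw [← c.locus_inf_eq_basicOpen a hTD]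
      exact le_inf (le_inf inf_le_right inf_le_left) (inf_le_right.trans hTD)
    have e := congrArg (fun x : c.sect (d + k * m) _ => res h1 (x.1 i)) h
    simp only [sectRes_apply, res_res] at e
    simp only [δ, map_sub, res_res, sub_eq_zero]
    exact e
  obtain ⟨M₀, hM₀⟩ := exists_pow_mul_eq_zero_of_res_basicOpen_eq_zero_of_isCompact X hT δ α hd
  refine ⟨M₀, fun M hM => c.sect_ext_of_le hTD ?_⟩
  have e : α ^ M * δ = 0 := by
    rw [← Nat.sub_add_cancel hM, pow_add, mul_assoc, hM₀, mul_zero]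
  have e' := congrArg (res (inf_le_left : T ⊓ c.D i ≤ T)) e
  simp only [α, δ, mul_sub, map_sub, map_mul, map_pow, res_res, res_self, map_zero, sub_eq_zero] at e'
  rw [raise_apply, raise_apply, mul_comm, e', mul_comm]

/-- On a quasi-compact quasi-separated scheme a function on a locus times a power of the section extends. -/
theorem exists_extend_sect [CompactSpace X] [QuasiSeparatedSpace X] (a : c.sect k ⊤)
    (β : c.sect d (c.locus a)) :
    ∃ (m : ℕ) (b : c.sect (d + k * m) ⊤),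
      c.sectRes (le_top : c.locus a ≤ ⊤) b = c.powMul a β le_rfl m := by
  classical
  choose i W hpW hWD hW using c.exists_affine_le_D
  obtain ⟨t, ht⟩ := isCompact_univ.elim_finite_subcover (fun p => (W p : Set X)) (fun p => (W p).2)
    (fun p _ => Set.mem_iUnion.mpr ⟨p, hpW p⟩)
  have hcov : (⊤ : X.Opens) ≤ ⨆ p : t, W p.1 := fun x _ => by
    obtain ⟨p, hp, hx⟩ := Set.mem_iUnion₂.mp (ht (Set.mem_univ x))
    exact Opens.mem_iSup.mpr ⟨⟨p, hp⟩, hx⟩
  choose m₁ b₁ hb₁ using fun p : t => c.exists_extend_affine a β (hW p.1) (hWD p.1)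
  let m₀ := Finset.univ.sup m₁
  have he : ∀ p : t, ∃ b : c.sect (d + k * m₀) (W p.1),
      c.sectRes (inf_le_left : W p.1 ⊓ c.locus a ≤ W p.1) b =
        c.powMul a β (inf_le_right : W p.1 ⊓ c.locus a ≤ c.locus a) m₀ := by
    intro p
    have hle : m₁ p + (m₀ - m₁ p) = m₀ := Nat.add_sub_cancel' (Finset.le_sup (Finset.mem_univ p))
    refine ⟨c.sectCast (congrArg (fun x => d + k * x) hle) (c.raise a (b₁ p) (m₀ - m₁ p)), ?_⟩
    rw [c.sectRes_sectCast, c.sectRes_raise, hb₁ p, c.raise_powMul]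
    refine c.sect_ext fun l => ?_
    simp only [sectCast_apply, powMul_apply, hle]
  choose b₀ hb₀ using he
  have hpair : ∀ p q : t, ∃ M₀, ∀ M, M₀ ≤ M →
      c.raise a (c.sectRes (inf_le_left : W p.1 ⊓ W q.1 ≤ W p.1) (b₀ p)) M =
      c.raise a (c.sectRes (inf_le_right : W p.1 ⊓ W q.1 ≤ W q.1) (b₀ q)) M := by
    intro p q
    refine c.exists_raise_eq a ?_ (inf_le_left.trans (hWD p.1)) _ _ ?_
    · exact QuasiSeparatedSpace.inter_isCompact _ _ (W p.1).2 (hW p.1).isCompact (W q.1).2 (hW q.1).isCompact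
    · let T := W p.1 ⊓ W q.1 ⊓ c.locus a
      have hp : T ≤ W p.1 ⊓ c.locus a := inf_le_inf_right _ inf_le_left
      have hq : T ≤ W q.1 ⊓ c.locus a := inf_le_inf_right _ inf_le_right
      have ep := congrArg (c.sectRes hp) (hb₀ p)
      have eq := congrArg (c.sectRes hq) (hb₀ q)
      simp only [sectRes_sectRes, sectRes_powMul] at ep eq ⊢
      exact ep.trans eq.symm
  choose M₁ hM₁ using hpair
  let M := Finset.univ.sup fun pq : t × t => M₁ pq.1 pq.2
  let sf : ∀ p : t, Γ(c.twist (d + k * (m₀ + M)), W p.1) := fun p => c.raise a (b₀ p) M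
  obtain ⟨B, hB, -⟩ := TopCat.Sheaf.existsUnique_gluing'
    ⟨(c.twist (d + k * (m₀ + M))).presheaf, (c.twist (d + k * (m₀ + M))).isSheaf⟩ (fun p : t => W p.1) ⊤
    (fun p => homOfLE le_top) hcov sf fun p q => by
      show c.sectRes inf_le_left (c.raise a (b₀ p) M) = c.sectRes inf_le_right (c.raise a (b₀ q) M)
      rw [c.sectRes_raise, c.sectRes_raise]
      exact hM₁ p q M (Finset.le_sup (f := fun pq : t × t => M₁ pq.1 pq.2) (Finset.mem_univ (p, q)))
  let B' : c.sect (d + k * (m₀ + M)) ⊤ := B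
  refine ⟨m₀ + M, B', meq_of_cover (c.twist (d + k * (m₀ + M))) (fun p : t => W p.1 ⊓ c.locus a)
    (fun _ => inf_le_right) (by rw [← iSup_inf_eq]; exact le_inf (le_top.trans hcov) le_rfl) fun p => ?_⟩
  show c.sectRes (inf_le_right : W p.1 ⊓ c.locus a ≤ c.locus a) (c.sectRes le_top B') =
    c.sectRes (inf_le_right : W p.1 ⊓ c.locus a ≤ c.locus a) (c.powMul a β le_rfl (m₀ + M))
  have e : c.sectRes (le_top : W p.1 ≤ ⊤) B' = c.raise a (b₀ p) M := hB p
  have e' := congrArg (c.sectRes (inf_le_left : W p.1 ⊓ c.locus a ≤ W p.1)) e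
  rw [c.sectRes_sectRes, c.sectRes_raise, hb₀ p, c.raise_powMul] at e'
  rw [c.sectRes_sectRes, e', c.sectRes_powMul]

/-- On a quasi-compact quasi-separated scheme a function on a locus times a power of the section extends. -/
theorem exists_extend [CompactSpace X] [QuasiSeparatedSpace X] (a : c.sect k ⊤) (φ : Γ(X, c.locus a)) :
    ∃ (m : ℕ) (b : c.sect (k * m) ⊤),
      c.sectRes le_top b = φ • c.sectRes (le_top : c.locus a ≤ ⊤) (c.sectPow a m) := by
  obtain ⟨m, b, hb⟩ := c.exists_extend_sect a (φ • c.sectRes (le_top : c.locus a ≤ ⊤) c.one)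
  refine ⟨m, c.sectCast (zero_add _) b, c.sect_ext fun i => ?_⟩
  have e := congrArg (fun x : c.sect (0 + k * m) (c.locus a) => x.1 i) hb
  simp only [sectRes_apply, powMul_apply, smul_apply, one, map_one, mul_one, res_self, res_res] at e
  simp only [sectRes_apply, sectCast_apply, smul_apply, sectPow_apply, map_pow, e]

/-! ### Ampleness -/

/-- Affine loci of positive degree cover. -/
def IsAmp : Prop :=
  ∀ p : X, ∃ (n : ℕ) (a : c.sect (n + 1) ⊤), p ∈ c.locus a ∧ IsAffineOpen (c.locus a)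

theorem quasiSeparatedSpace_of_isAmp [CompactSpace X] (h : c.IsAmp) : QuasiSeparatedSpace X := by
  rw [quasiSeparatedSpace_iff_forall_affineOpens]
  intro U V
  choose n a hpa ha using h
  obtain ⟨t, ht⟩ := isCompact_univ.elim_finite_subcover (fun p => (c.locus (a p) : Set X))
    (fun p => (c.locus (a p)).2) (fun p _ => Set.mem_iUnion.mpr ⟨p, hpa p⟩)
  have e : (U : Set X) ∩ V = ⋃ p ∈ t,
      ((c.locus (a p) ⊓ U.1 : X.Opens) : Set X) ∩ ((c.locus (a p) ⊓ V.1 : X.Opens) : Set X) := by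
    ext x
    simp only [Set.mem_inter_iff, Set.mem_iUnion, SetLike.mem_coe, Opens.mem_inf, exists_prop]
    constructor
    · rintro ⟨hU, hV⟩
      obtain ⟨p, hp, hx⟩ := Set.mem_iUnion₂.mp (ht (Set.mem_univ x))
      exact ⟨p, hp, ⟨hx, hU⟩, hx, hV⟩
    · rintro ⟨p, -, ⟨-, hU⟩, -, hV⟩
      exact ⟨hU, hV⟩
  rw [e]
  refine t.isCompact_biUnion fun p _ => ?_
  exact (ha p).isQuasiSeparated _ _ (Set.inter_subset_left) (c.locus (a p) ⊓ U.1).2
    (c.isAffineOpen_locus_inf (a p) U.2).isCompact (Set.inter_subset_left) (c.locus (a p) ⊓ V.1).2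
    (c.isAffineOpen_locus_inf (a p) V.2).isCompact

/-- Affine loci form a basis. -/
theorem exists_affine_locus_le [CompactSpace X] (h : c.IsAmp) {O : X.Opens} {p : X} (hp : p ∈ O) :
    ∃ (n : ℕ) (a : c.sect (n + 1) ⊤), p ∈ c.locus a ∧ c.locus a ≤ O ∧ IsAffineOpen (c.locus a) := by
  haveI := c.quasiSeparatedSpace_of_isAmp h
  obtain ⟨n, a, hpa, ha⟩ := h p
  obtain ⟨φ, hφ, hpφ⟩ := ha.exists_basicOpen_le (V := O) ⟨p, hp⟩ hpa
  obtain ⟨m, b, hb⟩ := c.exists_extend a φ
  have hdeg : (n + 1) * m + (n + 1) = (n + 1) * m + n + 1 := by omega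
  refine ⟨(n + 1) * m + n, c.sectCast hdeg (c.mul b a), ?_⟩
  have e : c.locus (c.sectCast hdeg (c.mul b a)) = X.basicOpen φ := by
    rw [c.locus_sectCast, c.locus_mul, inf_comm]
    exact (c.basicOpen_eq_of_smul (c.sectPow a m) b (c.le_locus_sectPow a m) φ hb).symm
  rw [e]
  exact ⟨hpφ, hφ, ha.basicOpen φ⟩

theorem isAffineOpen_locus_of_le (a : c.sect n ⊤) {W : X.Opens} (hW : IsAffineOpen W) (h : c.locus a ≤ W) :
    IsAffineOpen (c.locus a) :=
  inf_eq_left.mpr h ▸ c.isAffineOpen_locus_inf a hW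

end Cocycle

end GrothLib.Ample
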