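import Groth.Agent.Lib.Ample.CocPullback

/-!
# Maps out of the pullback of a twist
-/

universe u

set_option backward.isDefEq.respectTransparency false

open AlgebraicGeometry CategoryTheory CategoryTheory.Limits TopologicalSpace Opposite
open GrothLib.InvExt (mres IsGen)

noncomputable section

namespace GrothLib.Ample.Cocycle

variable {X Y : Scheme.{u}} (c : Cocycle X) (j : Y ⟶ X) {n : ℕ}

theorem isIso_pullHom (n : ℕ) : IsIso (c.pullHom j n) := by
  let adj := Scheme.Modules.pullbackPushforwardAdjunction j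
  let θ := (adj.homEquiv (c.twist n) ((c.comap j).twist n)).symm (c.pushHom j n)
  have hθ : adj.unit.app (c.twist n) ≫ (Scheme.Modules.pushforward j).map θ = c.pushHom j n := by
    exact (adj.homEquiv_unit (c.twist n) ((c.comap j).twist n) θ).symm.trans (Equiv.apply_symm_apply _ _)
  have e1 : c.pullHom j n ≫ θ = 𝟙 _ := by
    refine (c.comap j).hom_ext fun i => ?_
    show θ.app _ ((c.pullHom j n).app (j ⁻¹ᵁ c.D i) ((c.comap j).base n (V := j ⁻¹ᵁ c.D i) i le_rfl)) = _
    rw [c.pullHom_base]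
    have h := congrArg (fun f : c.twist n ⟶ _ => f.app (c.D i) (c.base n i le_rfl)) hθ
    exact h.trans (c.pushHom_base j n i)
  have e2 : θ ≫ c.pullHom j n = 𝟙 _ := by
    refine (adj.homEquiv _ _).injective ?_
    rw [adj.homEquiv_unit, adj.homEquiv_unit, Functor.map_comp, ← Category.assoc, hθ,
      CategoryTheory.Functor.map_id]
    refine Eq.trans ?_ (Category.comp_id (adj.unit.app (c.twist n))).symm
    refine c.hom_ext fun i => ?_
    show (c.pullHom j n).app (j ⁻¹ᵁ c.D i) ((c.pushHom j n).app (c.D i) (c.base n i le_rfl)) = _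
    rw [c.pushHom_base]
    exact c.pullHom_base j n i
  exact ⟨θ, e1, e2⟩

/-- A map out of the pullback of a twist whose values on the bases generate is an isomorphism. -/
theorem isIso_of_isGen {L : Y.Modules} (ψ : c.twist n ⟶ (Scheme.Modules.pushforward j).obj L)
    (hgen : ∀ i, IsGen L (j ⁻¹ᵁ c.D i) (ψ.app (c.D i) (c.base n i le_rfl))) :
    IsIso (((Scheme.Modules.pullbackPushforwardAdjunction j).homEquiv (c.twist n) L).symm ψ) := by
  let adj := Scheme.Modules.pullbackPushforwardAdjunction j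
  let ψ0 := (adj.homEquiv (c.twist n) L).symm ψ
  have hψ : adj.unit.app (c.twist n) ≫ (Scheme.Modules.pushforward j).map ψ0 = ψ :=
    (adj.homEquiv_unit (c.twist n) L ψ0).symm.trans (Equiv.apply_symm_apply _ _)
  let m : ∀ i, Γ(L, j ⁻¹ᵁ c.D i) := fun i => ψ.app (c.D i) (c.base n i le_rfl)
  have hbase : ∀ i, (c.pullHom j n ≫ ψ0).app (j ⁻¹ᵁ c.D i) ((c.comap j).base n (V := j ⁻¹ᵁ c.D i) i le_rfl) = m i :=
    fun i => by
    show ψ0.app _ ((c.pullHom j n).app (j ⁻¹ᵁ c.D i) ((c.comap j).base n (V := j ⁻¹ᵁ c.D i) i le_rfl)) = _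
    rw [c.pullHom_base]
    exact congrArg (fun f : c.twist n ⟶ _ => f.app (c.D i) (c.base n i le_rfl)) hψ
  have hm : (c.comap j).IsFamily n (M := L) m := fun i k W hi hk => by
    refine ((congrArg (mres L hk) (hbase k).symm).trans (app_mres (c.pullHom j n ≫ ψ0) hk _).symm).trans
      (Eq.trans ?_ ((app_smul (c.pullHom j n ≫ ψ0) _ _).trans (congrArg ((c.comap j).G i k hi hk ^ n • ·)
        ((app_mres (c.pullHom j n ≫ ψ0) hi _).trans (congrArg (mres L hi) (hbase i))))))
    refine congrArg ((c.pullHom j n ≫ ψ0).app W) ?_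
    refine ((c.comap j).sectRes_base n k (V := j ⁻¹ᵁ c.D k) le_rfl hk).trans ?_
    refine ((c.comap j).base_eq_smul_base n i k hi hk).trans ?_
    exact congrArg ((c.comap j).G i k hi hk ^ n • ·) ((c.comap j).sectRes_base n i (V := j ⁻¹ᵁ c.D i) le_rfl hi).symm
  haveI := (c.comap j).isIso_homOfFamily hm hgen
  have e : c.pullHom j n ≫ ψ0 = (c.comap j).homOfFamily hm := (c.comap j).hom_ext fun i =>
    (hbase i).trans (((c.comap j).homOfFamily_base hm i le_rfl).trans (InvExt.mres_self L _)).symm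
  haveI : IsIso (c.pullHom j n ≫ ψ0) := e ▸ inferInstance
  haveI := c.isIso_pullHom j n
  exact IsIso.of_isIso_comp_left (c.pullHom j n) ψ0

end GrothLib.Ample.Cocycle
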