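import Groth.Agent.Lib.Ample.ProjMap
import Groth.Agent.Lib.Ample.PullLift
import Groth.Agent.Lib.Ample.Calculus
import Groth.Agent.Lib.InvExt.Transfer

/-!
# The morphism to projective space given by generating sections
-/

universe u

set_option backward.isDefEq.respectTransparency false

open AlgebraicGeometry CategoryTheory CategoryTheory.Limits TopologicalSpace Opposite MvPolynomial
open GrothLib.InvExt (mres IsGen)

noncomputable section

namespace GrothLib.Ample

section

variable {X : Scheme.{u}}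

namespace Cocycle

variable (c : Cocycle X) {m : ℕ}

theorem isGen_sectRes_locus (a : c.sect m ⊤) :
    IsGen (c.twist m) (c.locus a) (c.sectRes (le_top : c.locus a ≤ ⊤) a) := fun W hW => by
  have : (fun r : Γ(X, W) => r • mres (c.twist m) hW (c.sectRes (le_top : c.locus a ≤ ⊤) a)) =
      (c.hom a).val.app (op W) := by
    funext r
    refine Eq.trans ?_ (c.hom_app_apply a W r).symm
    exact congrArg (r • ·) (c.sectRes_sectRes _ hW a)
  rw [this]
  exact c.bijective_hom_app a hW

theorem smul_injective_of_le_locus (a : c.sect m ⊤) {W : X.Opens} (hW : W ≤ c.locus a) {r r' : Γ(X, W)}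
    (h : r • c.sectRes (le_top : W ≤ ⊤) a = r' • c.sectRes (le_top : W ≤ ⊤) a) : r = r' :=
  (c.bijective_hom_app a hW).1 ((c.hom_app_apply a W r).trans (h.trans (c.hom_app_apply a W r').symm))

/-- Generating sections of an invertible module: their loci cover. -/
theorem iSup_locus_of_generatedBy {L : X.Modules} (e : L ≅ c.twist 1) {ι : Type*} (s : ι → ProjUP.Γm L)
    (hs : ProjUP.GeneratedBy L s) :
    ⨆ i, c.locus (show c.sect 1 ⊤ from e.hom.app ⊤ (s i)) = ⊤ := by
  refine eq_top_iff.mpr fun x _ => ?_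
  by_contra hx
  rw [Opens.mem_iSup] at hx
  push Not at hx
  obtain ⟨l, hl⟩ := c.exists_mem x
  have key : ∀ t : L.presheaf.stalk x, ∃ (W : X.Opens) (hxW : x ∈ W) (hW : W ≤ c.D l) (m : Γ(L, W)),
      L.presheaf.germ W x hxW m = t ∧
      ¬ IsUnit (X.presheaf.germ (W ⊓ c.D l) x ⟨hxW, hl⟩ ((show c.sect 1 W from e.hom.app W m).1 l)) := by
    intro t
    have ht : t ∈ Submodule.span (X.presheaf.stalk x)
        (Set.range fun i => (L.presheaf.germ ⊤ x trivial).hom (s i)) := by rw [hs x]; trivial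
    have hres : ∀ {W W' : X.Opens} (h : W' ≤ W) (hx' : x ∈ W') (m : Γ(L, W)),
        X.presheaf.germ (W' ⊓ c.D l) x ⟨hx', hl⟩ ((show c.sect 1 W' from e.hom.app W' (mres L h m)).1 l) =
          X.presheaf.germ (W ⊓ c.D l) x ⟨h hx', hl⟩ ((show c.sect 1 W from e.hom.app W m).1 l) := by
      intro W W' h hx' m
      rw [app_mres]
      exact X.presheaf.germ_res_apply _ _ _ _
    induction ht using Submodule.span_induction with
    | mem t ht =>
      obtain ⟨i, rfl⟩ := ht
      refine ⟨c.D l, hl, le_rfl, mres L le_top (s i), L.presheaf.germ_res_apply _ _ _ _, fun hu => hx i ?_⟩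
      rw [hres le_top hl] at hu
      exact (c.mem_locus_iff _ hl).mpr ((Scheme.mem_basicOpen _ _ _ _).mpr hu)
    | zero =>
      refine ⟨c.D l, hl, le_rfl, 0, map_zero _, ?_⟩
      rw [map_zero]
      show ¬ IsUnit (X.presheaf.germ _ x _ (0 : Γ(X, _)))
      rw [map_zero]
      exact not_isUnit_zero
    | add t t' _ _ ht ht' =>
      obtain ⟨W, hxW, hW, m, rfl, hm⟩ := ht
      obtain ⟨W', hxW', hW', m', rfl, hm'⟩ := ht'
      refine ⟨W ⊓ W', ⟨hxW, hxW'⟩, inf_le_left.trans hW, mres L inf_le_left m + mres L inf_le_right m', ?_, ?_⟩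
      · rw [map_add]
        exact congrArg₂ (· + ·) (L.presheaf.germ_res_apply _ _ _ _) (L.presheaf.germ_res_apply _ _ _ _)
      · rw [map_add]
        show ¬ IsUnit (X.presheaf.germ _ x _ (_ + _))
        rw [map_add, hres inf_le_left ⟨hxW, hxW'⟩, hres inf_le_right ⟨hxW, hxW'⟩]
        exact fun hu => (IsLocalRing.isUnit_or_isUnit_of_isUnit_add hu).elim hm hm'
    | smul r t _ ht =>
      obtain ⟨W, hxW, hW, m, rfl, hm⟩ := ht
      obtain ⟨V, hxV, r, rfl⟩ := TopCat.Presheaf.exists_germ_eq X.presheaf r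
      refine ⟨W ⊓ V, ⟨hxW, hxV⟩, inf_le_left.trans hW,
        res (inf_le_right : W ⊓ V ≤ V) r • mres L inf_le_left m, ?_, ?_⟩
      · refine (PresheafOfModules.germ_smul _ x _ _ _ _).trans ?_
        exact congrArg₂ (· • ·) (X.presheaf.germ_res_apply _ _ _ _) (L.presheaf.germ_res_apply _ _ _ _)
      · rw [app_smul]
        show ¬ IsUnit (X.presheaf.germ _ x _ (_ * _))
        rw [map_mul, hres inf_le_left ⟨hxW, hxV⟩]
        exact fun hu => hm (isUnit_of_mul_isUnit_right hu)
  obtain ⟨W, hxW, hW, m, hm, hu⟩ := key (L.presheaf.germ (c.D l) x hl (e.inv.app _ (c.base 1 l le_rfl)))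
  obtain ⟨V, hxV, iV, iV', hV⟩ := TopCat.Presheaf.germ_eq L.presheaf x hxW hl m _ hm
  refine hu ?_
  have h1 := congrArg (fun t : Γ(L, V) => (show c.sect 1 V from e.hom.app V t).1 l) hV
  have h2 : ∀ {U : X.Opens} (h : V ≤ U) (t : Γ(L, U)),
      (show c.sect 1 V from e.hom.app V (mres L h t)).1 l =
        res (inf_le_inf_right _ h) ((show c.sect 1 U from e.hom.app U t).1 l) := fun h t => by
    rw [app_mres]; rfl
  have h3 := (h2 iV.le m).symm.trans (h1.trans (h2 iV'.le _))
  have h4 := congrArg (X.presheaf.germ (V ⊓ c.D l) x ⟨hxV, hl⟩) h3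
  erw [X.presheaf.germ_res_apply, X.presheaf.germ_res_apply] at h4
  rw [h4]
  have h5 : (show c.sect 1 (c.D l) from e.hom.app (c.D l) (e.inv.app _ (c.base 1 l le_rfl))) =
      c.base 1 l le_rfl := congrArg (fun φ => φ.app (c.D l) (c.base 1 l le_rfl)) e.inv_hom_id
  have h6 := congrArg (fun t : c.sect 1 (c.D l) => t.1 l) h5
  rw [c.base_self] at h6
  rw [h6, map_one]
  exact isUnit_one

end Cocycle

end

namespace ProjMap

variable {n : ℕ} {R : Type u} [CommRing R] {Z : Scheme.{u}}

variable (n R) in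
/-- The cocycle of `O(1)` on projective space. -/
def pcoc : Cocycle (Proj (CohB1.polyGrading n R)) :=
  ProjTwist.cocycle (CohB1.polyGrading n R) (fun i : ULift.{u} (Fin (n + 1)) => X i.down) (fun i => X_mem i.down)
    (eq_top_iff.mpr fun p _ => by
      obtain ⟨i, hi⟩ := Opens.mem_iSup.mp ((iSup_basicOpen_X n R).ge (Opens.mem_top p))
      exact Opens.mem_iSup.mpr ⟨⟨i⟩, hi⟩)

variable (n R) in
/-- `O(1)` is the twist of `pcoc`. -/
def pcocIso : Twist.twistProjSpace n R 1 ≅ (pcoc n R).twist 1 :=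
  (asIso (ProjTwist.toTwist (CohB1.polyGrading n R) (fun i : ULift.{u} (Fin (n + 1)) => X i.down)
    (fun i => X_mem i.down) _ 1)).symm

theorem ev_awayToSection_ratio (k i : Fin (n + 1))
    (y : Proj.basicOpen (CohB1.polyGrading n R) (X k)) :
    ProjTwist.ev y (Proj.awayToSection (CohB1.polyGrading n R) (X k) (ratio k i)) =
      Localization.mk (X i) ⟨X k, y.2⟩ := by
  refine (ProjectiveSpectrum.Proj.awayToSection_apply _ _ _ _).trans ?_
  rw [ratio, HomogeneousLocalization.Away.val_mk, Localization.mk_eq_mk', IsLocalization.map_mk',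
    Localization.mk_eq_mk']
  congr 1
  exact Subtype.ext (pow_one _)

theorem g_pcoc (i k : ULift.{u} (Fin (n + 1))) {W : (Proj (CohB1.polyGrading n R)).Opens}
    (hi : W ≤ (pcoc n R).D i) (hk : W ≤ (pcoc n R).D k) :
    (pcoc n R).G i k hi hk =
      res hi (Proj.awayToSection (CohB1.polyGrading n R) (X i.down) (ratio i.down k.down)) := by
  refine ProjTwist.ev_ext fun y => ?_
  rw [ProjTwist.ev_res, ev_awayToSection_ratio]
  exact ProjTwist.ev_G _ _ _ _ i k hi hk y

theorem coord_eq_smul_base (i : Fin (n + 1)) (k : ULift.{u} (Fin (n + 1))) :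
    mres (Twist.twistProjSpace n R 1) (le_top : (pcoc n R).D k ≤ ⊤) (ProjUP.coord n R i) =
      (show Γ(Proj (CohB1.polyGrading n R), (pcoc n R).D k) from
        Proj.awayToSection (CohB1.polyGrading n R) (X k.down) (ratio k.down i)) •
        (pcocIso n R).inv.app ((pcoc n R).D k) ((pcoc n R).base 1 k le_rfl) := by
  show mres (Twist.twist (CohB1.polyGrading n R) ((1 : ℕ) : ℤ)) _ _ = _
  erw [ProjTwist.toTwist_base (CohB1.polyGrading n R) (fun i : ULift.{u} (Fin (n + 1)) => X i.down)
    (fun i => X_mem i.down) _ 1 k]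
  refine ProjTwist.evT_ext fun y => ?_
  rw [ProjTwist.evT_smul, ProjTwist.gen, ProjTwist.evT_mres, ProjTwist.evT_mres, ev_awayToSection_ratio,
    ProjTwist.evT_gsec]
  show algebraMap (MvPolynomial (Fin (n + 1)) R) (Twist.Loc (CohB1.polyGrading n R) y.1) (X i) = _
  rw [← Localization.mk_one_eq_algebraMap, ← Localization.mk_one_eq_algebraMap, Localization.mk_mul,
    Localization.mk_eq_mk_iff, Localization.r_iff_exists]
  exact ⟨1, by simp only [OneMemClass.coe_one, one_mul, Submonoid.coe_mul, pow_one]; ring⟩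

variable {q : Z ⟶ Spec (CommRingCat.of R)} (c : Cocycle Z) {L : Z.Modules} (e : L ≅ c.twist 1)
  (s : Fin (n + 1) → ProjUP.Γm L)

/-- The family in the cocycle of a section. -/
def sec (i : Fin (n + 1)) : c.sect 1 ⊤ := e.hom.app ⊤ (s i)

variable (hs : ⨆ i, c.locus (sec c e s i) = ⊤)

/-- The ratios of generating sections. -/
def dataOfSections (q : Z ⟶ Spec (CommRingCat.of R)) : Data n q where
  U i := c.locus (sec c e s i)
  φ i k := (c.exists_ratio (sec c e s i) (sec c e s k)).choose
  cover := hs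
  self i := by
    refine c.smul_injective_of_le_locus (sec c e s i) le_rfl ?_
    rw [one_smul]
    exact (c.exists_ratio (sec c e s i) (sec c e s i)).choose_spec.1.symm
  change i j k W hi hj := by
    refine c.smul_injective_of_le_locus (sec c e s i) hi ?_
    have h : ∀ (p t : Fin (n + 1)) (hp : W ≤ c.locus (sec c e s p)),
        res hp (c.exists_ratio (sec c e s p) (sec c e s t)).choose • c.sectRes (le_top : W ≤ ⊤) (sec c e s p) =
          c.sectRes (le_top : W ≤ ⊤) (sec c e s t) := fun p t hp => by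
      have h0 := congrArg (c.sectRes hp) (c.exists_ratio (sec c e s p) (sec c e s t)).choose_spec.1
      rw [c.sectRes_smul, c.sectRes_sectRes, c.sectRes_sectRes] at h0
      exact h0.symm
    rw [mul_comm, mul_smul, h i j hi, h j k hj, h i k hi]
  basicOpen_eq i j := (c.exists_ratio (sec c e s i) (sec c e s j)).choose_spec.2

theorem mres_eq_smul (i k : Fin (n + 1)) {W : Z.Opens} (hi : W ≤ (dataOfSections c e s hs q).U i) :
    mres L (le_top : W ≤ ⊤) (s k) =
      res hi ((dataOfSections c e s hs q).φ i k) • mres L (le_top : W ≤ ⊤) (s i) := by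
  have hinj : Function.Injective (e.hom.app W) := fun a b hab => by
    have h1 := congrArg (e.inv.app W) hab
    have h2 : ∀ t, e.inv.app W (e.hom.app W t) = t := fun t =>
      congrArg (fun φ => φ.app W t) e.hom_inv_id
    rwa [h2, h2] at h1
  apply hinj
  rw [app_smul, app_mres, app_mres]
  have h0 := congrArg (c.sectRes hi) (c.exists_ratio (sec c e s i) (sec c e s k)).choose_spec.1
  refine (c.sectRes_sectRes _ hi (sec c e s k)).symm.trans (h0.trans ?_)
  refine (c.sectRes_smul hi _ _).trans ?_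
  exact congrArg (res hi _ • ·) (c.sectRes_sectRes _ hi (sec c e s i))

theorem exists_iso_pullback_map (q : Z ⟶ Spec (CommRingCat.of R)) :
    ∃ τ : (Scheme.Modules.pullback (dataOfSections c e s hs q).map).obj (Twist.twistProjSpace n R 1) ≅ L,
      ∀ i, τ.hom.app ⊤ (ProjUP.pullSec (dataOfSections c e s hs q).map (Twist.twistProjSpace n R 1)
        (ProjUP.coord n R i)) = s i := by
  let D := dataOfSections c e s hs q
  let r := D.map
  let P := pcoc n R
  have hpre : ∀ i, r ⁻¹ᵁ P.D i = c.locus (sec c e s i.down) := fun i => D.map_preimage i.down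
  let m : ∀ i, Γ((Scheme.Modules.pushforward r).obj L, P.D i) := fun i =>
    mres L (le_top : r ⁻¹ᵁ P.D i ≤ ⊤) (s i.down)
  have happ : ∀ (i k : ULift.{u} (Fin (n + 1))) {W : (Proj (CohB1.polyGrading n R)).Opens} (hi : W ≤ P.D i)
      (hk : W ≤ P.D k), (r.appLE W (r ⁻¹ᵁ W) le_rfl).hom (P.G i k hi hk) =
        res ((r.preimage_mono hi).trans (hpre i).le) (D.φ i.down k.down) := fun i k W hi hk => by
    refine (congrArg (r.appLE W (r ⁻¹ᵁ W) le_rfl).hom (g_pcoc i k hi hk)).trans ?_
    refine (appLE_res r hi le_rfl _).trans ?_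
    exact D.map_appLE_ratio i.down k.down _ _
  have hm : P.IsFamily 1 (M := (Scheme.Modules.pushforward r).obj L) m := fun i k W hi hk => by
    show mres L (r.preimage_mono hk) (m k) = _
    refine Eq.trans ?_ (pushforward_smul r L (P.G i k hi hk ^ 1) (mres L (r.preimage_mono hi) (m i))).symm
    rw [pow_one, happ i k hi hk, InvExt.mres_mres, InvExt.mres_mres]
    exact mres_eq_smul c e s hs i.down k.down _
  let ψ := P.homOfFamily hm
  have hψ : ∀ i, ψ.app (P.D i) (P.base 1 i le_rfl) = m i := fun i =>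
    (P.homOfFamily_base hm i le_rfl).trans (InvExt.mres_self _ _)
  let adj := Scheme.Modules.pullbackPushforwardAdjunction r
  have hgen : ∀ i, IsGen L (r ⁻¹ᵁ P.D i) (ψ.app (P.D i) (P.base 1 i le_rfl)) := fun i => by
    rw [hψ]
    have h1 := InvExt.IsGen.map e.inv (c.isGen_sectRes_locus (sec c e s i.down)) fun W _ =>
      ConcreteCategory.bijective_of_isIso (e.inv.app W)
    have h2 : e.inv.app (c.locus (sec c e s i.down)) (c.sectRes (le_top : _ ≤ ⊤) (sec c e s i.down)) =
        mres L (le_top : c.locus (sec c e s i.down) ≤ ⊤) (s i.down) := by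
      show e.inv.app _ (mres (c.twist 1) le_top (e.hom.app ⊤ (s i.down))) = _
      rw [← app_mres]
      exact congrArg (fun φ : L ⟶ L => φ.app (c.locus (sec c e s i.down))
        (mres L (le_top : c.locus (sec c e s i.down) ≤ ⊤) (s i.down))) e.hom_inv_id
    rw [h2] at h1
    have h3 := h1.restrict (hpre i).le
    rw [InvExt.mres_mres] at h3
    exact h3
  haveI := P.isIso_of_isGen r ψ hgen
  let τ0 := (adj.homEquiv (P.twist 1) L).symm ψ
  refine ⟨(Scheme.Modules.pullback r).mapIso (pcocIso n R) ≪≫ asIso τ0, fun i => ?_⟩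
  have hcomp : adj.unit.app (Twist.twistProjSpace n R 1) ≫ (Scheme.Modules.pushforward r).map
      ((Scheme.Modules.pullback r).map (pcocIso n R).hom ≫ τ0) = (pcocIso n R).hom ≫ ψ := by
    refine (adj.homEquiv_unit _ _ _).symm.trans ((adj.homEquiv_naturality_left _ _).trans ?_)
    exact congrArg ((pcocIso n R).hom ≫ ·) (Equiv.apply_symm_apply _ _)
  have hval := congrArg (fun f : Twist.twistProjSpace n R 1 ⟶ (Scheme.Modules.pushforward r).obj L =>
    f.app ⊤ (ProjUP.coord n R i)) hcomp
  refine Eq.trans hval ?_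
  show ψ.app ⊤ ((pcocIso n R).hom.app ⊤ (ProjUP.coord n R i)) = s i
  refine meq_of_cover L (fun k : ULift.{u} (Fin (n + 1)) => r ⁻¹ᵁ P.D k) (fun _ => le_top)
    (by rw [← Scheme.Hom.preimage_iSup, P.cover, Scheme.Hom.preimage_top]) fun k => ?_
  show mres ((Scheme.Modules.pushforward r).obj L) (le_top : P.D k ≤ ⊤) _ = mres L (le_top : r ⁻¹ᵁ P.D k ≤ ⊤) (s i)
  rw [← app_mres, ← app_mres, coord_eq_smul_base, app_smul]
  have h1 : (pcocIso n R).hom.app (P.D k) ((pcocIso n R).inv.app (P.D k) (P.base 1 k le_rfl)) =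
      P.base 1 k le_rfl := congrArg (fun φ => φ.app (P.D k) (P.base 1 k le_rfl)) (pcocIso n R).inv_hom_id
  erw [h1, app_smul, hψ]
  refine (pushforward_smul r L _ (m k)).trans ?_
  rw [show (r.appLE (P.D k) (r ⁻¹ᵁ P.D k) le_rfl).hom
      (Proj.awayToSection (CohB1.polyGrading n R) (X k.down) (ratio k.down i)) =
      res (hpre k).le (D.φ k.down i) from D.map_appLE_ratio k.down i _ _]
  exact (mres_eq_smul c e s hs k.down i (hpre k).le).symm

include hs in
theorem exists_toProjSpace (q : Z ⟶ Spec (CommRingCat.of R)) :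
    ∃ (r : Z ⟶ CohB1.ProjSpace n R) (_ : r ≫ CohB1.ProjSpace.toSpec n R = q)
      (τ : (Scheme.Modules.pullback r).obj (Twist.twistProjSpace n R 1) ≅ L),
      ∀ i, τ.hom.app ⊤ (ProjUP.pullSec r (Twist.twistProjSpace n R 1) (ProjUP.coord n R i)) = s i :=
  ⟨_, (dataOfSections c e s hs q).map_toSpec, exists_iso_pullback_map c e s hs q⟩

end ProjMap

end GrothLib.Ample
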