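import Groth.Agent.Lib.Ample.CocPullback
import Groth.Prelude.Def_LCI2
import Mathlib.AlgebraicGeometry.Morphisms.Affine

/-!
# Ampleness under pullback, descent along basic opens, and relative ampleness
-/

universe u

set_option backward.isDefEq.respectTransparency false

open AlgebraicGeometry CategoryTheory CategoryTheory.Limits TopologicalSpace Opposite

noncomputable section

namespace GrothLib.Ample

variable {X Y Z : Scheme.{u}}

theorem isAmple_pullback_comp_iff (g : Z ⟶ Y) (f : Y ⟶ X) (L : X.Modules) :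
    CohB1.IsAmple ((Scheme.Modules.pullback g).obj ((Scheme.Modules.pullback f).obj L)) ↔
      CohB1.IsAmple ((Scheme.Modules.pullback (g ≫ f)).obj L) :=
  isAmple_iff_of_iso ((Scheme.Modules.pullbackComp g f).app L)

theorem isAmple_restrict_iff (j : Y ⟶ X) [IsOpenImmersion j] (L : X.Modules) :
    CohB1.IsAmple (L.restrict j) ↔ CohB1.IsAmple ((Scheme.Modules.pullback j).obj L) :=
  isAmple_iff_of_iso ((Scheme.Modules.restrictFunctorIsoPullback j).app L)

/-- Pullback of an ample module along an affine morphism. -/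
theorem isAmple_pullback_of_isAffineHom (g : Y ⟶ X) [IsAffineHom g] {L : X.Modules} (hL : CohB1.IsAmple L) :
    CohB1.IsAmple ((Scheme.Modules.pullback g).obj L) := by
  haveI := hL.2.1
  obtain ⟨c, ⟨e⟩⟩ := exists_cocycle hL.1
  obtain ⟨d⟩ := c.nonempty_pullback_iso g e
  refine ((c.comap g).isAmple_iff d).mpr ⟨QuasiCompact.compactSpace_of_compactSpace g, fun q => ?_⟩
  obtain ⟨n, a, hp, ha⟩ := ((c.isAmple_iff e).mp hL).2 (g q)
  refine ⟨n, c.pullSect g le_top a, ?_⟩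
  rw [c.locus_pullSect]
  exact ⟨hp, ha.preimage g⟩

/-- Pullback of an ample module along a topological embedding with quasi-compact source. -/
theorem isAmple_pullback_of_isEmbedding (g : Y ⟶ X) [CompactSpace Y] (hg : Topology.IsEmbedding g.base)
    {L : X.Modules} (hL : CohB1.IsAmple L) : CohB1.IsAmple ((Scheme.Modules.pullback g).obj L) := by
  haveI := hL.2.1
  obtain ⟨c, ⟨e⟩⟩ := exists_cocycle hL.1
  obtain ⟨d⟩ := c.nonempty_pullback_iso g e
  refine ((c.comap g).isAmple_iff d).mpr ⟨inferInstance, fun q => ?_⟩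
  obtain ⟨W, hW, hqW, -⟩ := exists_isAffineOpen_mem_and_subset (Opens.mem_top q)
  obtain ⟨O, hO, hOW⟩ := hg.isInducing.isOpen_iff.mp W.2
  obtain ⟨n, a, hp, haO, -⟩ := c.exists_affine_locus_le ((c.isAmple_iff e).mp hL).2
    (O := ⟨O, hO⟩) (show g q ∈ O from by rw [← Set.mem_preimage, hOW]; exact hqW)
  refine ⟨n, c.pullSect g le_top a, by rw [c.locus_pullSect]; exact hp, ?_⟩
  refine (c.comap g).isAffineOpen_locus_of_le _ hW ?_
  rw [c.locus_pullSect]
  intro y hy
  exact hOW.le (haO hy)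

/-- Ampleness passes to smaller quasi-compact opens. -/
theorem isAmple_pullback_of_range_le {Y₁ Y₂ : Scheme.{u}} (g₁ : Y₁ ⟶ X) (g₂ : Y₂ ⟶ X)
    [IsOpenImmersion g₁] [IsOpenImmersion g₂] [CompactSpace Y₁] (h : Set.range g₁ ⊆ Set.range g₂)
    {L : X.Modules} (hA : CohB1.IsAmple ((Scheme.Modules.pullback g₂).obj L)) :
    CohB1.IsAmple ((Scheme.Modules.pullback g₁).obj L) := by
  let l := IsOpenImmersion.lift g₂ g₁ h
  haveI : IsOpenImmersion (l ≫ g₂) := by rw [IsOpenImmersion.lift_fac]; infer_instance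
  haveI : IsOpenImmersion l := IsOpenImmersion.of_comp l g₂
  have h1 := isAmple_pullback_of_isEmbedding l l.isOpenEmbedding.isEmbedding hA
  rw [isAmple_pullback_comp_iff, IsOpenImmersion.lift_fac] at h1
  exact h1

/-- Ampleness passes to smaller quasi-compact opens. -/
theorem isAmple_restrict_of_le {L : X.Modules} {U U' : X.Opens} (h : U' ≤ U)
    (hc : IsCompact (U' : Set X)) (hA : CohB1.IsAmple (L.restrict U.ι)) :
    CohB1.IsAmple (L.restrict U'.ι) := by
  haveI : CompactSpace (U' : Scheme.{u}) := isCompact_iff_compactSpace.mp hc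
  rw [isAmple_restrict_iff] at hA ⊢
  exact isAmple_pullback_of_range_le U'.ι U.ι (by rw [U'.range_ι, U.range_ι]; exact h) hA

/-- Ampleness is detected on basic opens covering a quasi-compact scheme. -/
theorem isAmple_of_basicOpens [CompactSpace X] {M : X.Modules} (hM : PicF.IsInvertible M) {κ : Type*}
    (t : κ → Γ(X, ⊤)) (hcov : ⨆ k, X.basicOpen (t k) = ⊤)
    (hA : ∀ k, CohB1.IsAmple (M.restrict (X.basicOpen (t k)).ι)) : CohB1.IsAmple M := by
  haveI : QuasiSeparatedSpace X := by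
    refine QuasiSeparatedSpace.of_isOpenCover (U := fun k => X.basicOpen (t k))
      (IsOpenCover.mk hcov) (fun k => isRetrocompact_basicOpen _) fun k => ?_
    exact (isQuasiSeparated_iff_quasiSeparatedSpace _ (X.basicOpen (t k)).2).mpr
      (quasiSeparatedSpace_of_isAmple (hA k))
  obtain ⟨c, ⟨e⟩⟩ := exists_cocycle hM
  refine (c.isAmple_iff e).mpr ⟨inferInstance, fun p => ?_⟩
  obtain ⟨k, hk⟩ := Opens.mem_iSup.mp (by rw [hcov]; exact Opens.mem_top p : p ∈ ⨆ k, X.basicOpen (t k))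
  let W := X.basicOpen (t k)
  obtain ⟨d⟩ := c.nonempty_restrict_iso W.ι e
  obtain ⟨n, a', hp', ha'⟩ := (((c.comap W.ι).isAmple_iff d).mp (hA k)).2 ⟨p, hk⟩
  obtain ⟨β₀, hβ₀⟩ := (c.bijective_pullSect W.ι (n := n + 1) ⊤).2 a'
  -- the function `t k` as a family of degree zero
  let h : c.sect 0 (⊤ : X.Opens) := ⟨fun i => res inf_le_left (t k), fun i j U hi hj => by simp [res_res]⟩
  have hh : ∀ i, X.basicOpen (h.1 i) = c.D i ⊓ W := fun i => by
    show X.basicOpen (res _ (t k)) = _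
    rw [Scheme.basicOpen_res, top_inf_eq]
  have hlocus : c.locus h = W := by
    ext y
    obtain ⟨i, hi⟩ := c.exists_mem y
    simp only [SetLike.mem_coe]
    rw [c.mem_locus_iff h hi, hh]
    exact ⟨fun hy => hy.2, fun hy => ⟨hi, hy⟩⟩
  have hle : c.locus h ≤ W.ι ''ᵁ ⊤ := by rw [hlocus, Scheme.Opens.ι_image_top]
  obtain ⟨m, B, hB⟩ := c.exists_extend_sect h (c.sectRes hle β₀)
  have hm : n + 1 + 0 * m + 0 = n + 1 := by omega
  refine ⟨n, c.sectCast hm (c.mul B h), ?_⟩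
  have key : c.locus (c.sectCast hm (c.mul B h)) = W.ι ''ᵁ (c.comap W.ι).locus a' := by
    rw [c.locus_sectCast, c.locus_mul, hlocus]
    ext y
    simp only [SetLike.mem_coe, Opens.mem_inf]
    by_cases hy : y ∈ W
    swap
    · exact ⟨fun h' => absurd h'.2 hy, fun h' => absurd
        (show y ∈ W from (W.ι.image_mono le_top).trans_eq W.ι_image_top h') hy⟩
    obtain ⟨i, hi⟩ := c.exists_mem y
    have e1 := congrArg (fun x : c.sect (n + 1 + 0 * m) (c.locus h) => X.basicOpen (x.1 i)) hB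
    simp only [Cocycle.sectRes_apply, Cocycle.powMul_apply, Scheme.basicOpen_mul, Scheme.basicOpen_res] at e1
    have e2 := SetLike.ext_iff.mp e1 y
    simp only [Opens.mem_inf] at e2
    have hyh : y ∈ c.locus h := by rw [hlocus]; exact hy
    have hpow : y ∈ X.basicOpen (res (inf_le_inf_right (c.D i) (le_top : c.locus h ≤ ⊤)) (h.1 i) ^ m) := by
      rcases Nat.eq_zero_or_pos m with rfl | hm0
      · rw [pow_zero, Scheme.basicOpen_of_isUnit _ isUnit_one]; exact ⟨hyh, hi⟩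
      · rw [Scheme.basicOpen_pow _ _ hm0, Scheme.basicOpen_res, hh]
        exact ⟨⟨hyh, hi⟩, hi, hy⟩
    rw [c.mem_locus_iff B hi]
    have hy' : y = W.ι ⟨y, hy⟩ := rfl
    have hya : y ∈ W.ι ''ᵁ (c.comap W.ι).locus a' ↔ y ∈ X.basicOpen (β₀.1 i) := by
      constructor
      · rintro ⟨z, hz, rfl⟩
        have hzi : z ∈ (c.comap W.ι).D i := hi
        have := ((c.comap W.ι).mem_locus_iff a' hzi).mp hz
        rw [← hβ₀] at this
        erw [Scheme.basicOpen_appLE] at this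
        exact this.2
      · intro hyb
        refine ⟨⟨y, hy⟩, ?_, rfl⟩
        have hzi : (⟨y, hy⟩ : W) ∈ (c.comap W.ι).D i := hi
        refine ((c.comap W.ι).mem_locus_iff a' hzi).mpr ?_
        rw [← hβ₀]
        erw [Scheme.basicOpen_appLE]
        exact ⟨⟨trivial, hzi⟩, hyb⟩
    rw [hya]
    constructor
    · rintro ⟨hb, -⟩
      exact (e2.mp ⟨⟨hyh, hi⟩, hb⟩).1.2.2
    · intro hb
      exact ⟨(e2.mpr ⟨⟨⟨hyh, hi⟩, ⟨hyh, hi⟩, hb⟩, hpow⟩).2, hy⟩
  rw [key]
  exact ⟨⟨⟨p, hk⟩, hp', rfl⟩, ha'.image_of_isOpenImmersion W.ι⟩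

theorem isInvertible_of_restrict {L : X.Modules} {κ : Type*} (U : κ → X.Opens) (hU : ⨆ k, U k = ⊤)
    (h : ∀ k, PicF.IsInvertible (L.restrict (U k).ι)) : PicF.IsInvertible L := by
  refine InvExt.isInvertible_of_gens fun p => ?_
  obtain ⟨k, hk⟩ := Opens.mem_iSup.mp (hU ▸ Opens.mem_top p : p ∈ ⨆ k, U k)
  obtain ⟨W, e, hpW, he⟩ := InvExt.exists_gen_nhd (h k) ⟨p, hk⟩
  refine ⟨(U k).ι ''ᵁ W, e, ⟨⟨p, hk⟩, hpW, rfl⟩, fun V hV => ?_⟩
  have hV' : V ≤ U k := hV.trans (((U k).ι.image_mono le_top).trans_eq (U k).ι_image_top)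
  have hW : (U k).ι ⁻¹ᵁ V ≤ W := by
    refine ((U k).ι.preimage_mono hV).trans ?_
    rw [Scheme.Hom.preimage_image_eq]
  have hb := he ((U k).ι ⁻¹ᵁ V) hW
  have hVV : (U k).ι ''ᵁ ((U k).ι ⁻¹ᵁ V) = V := by
    rw [Scheme.Hom.image_preimage_eq_opensRange_inf, Scheme.Opens.opensRange_ι]
    exact inf_eq_right.mpr hV'
  have hb' : Function.Bijective fun r : Γ(X, (U k).ι ''ᵁ ((U k).ι ⁻¹ᵁ V)) =>
      r • InvExt.mres L ((U k).ι.image_mono hW) e := by
    have hi : Function.Bijective ((U k).ι.appIso ((U k).ι ⁻¹ᵁ V)).hom.hom :=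
      ConcreteCategory.bijective_of_isIso ((U k).ι.appIso ((U k).ι ⁻¹ᵁ V)).hom
    refine Eq.subst (motive := fun t : Γ(X, (U k).ι ''ᵁ ((U k).ι ⁻¹ᵁ V)) → Γ(L, (U k).ι ''ᵁ ((U k).ι ⁻¹ᵁ V)) =>
      Function.Bijective t) ?_ (hb.comp hi)
    funext r
    show ((U k).ι.appIso _).inv.hom (((U k).ι.appIso _).hom.hom r) • InvExt.mres L ((U k).ι.image_mono hW) e = _
    rw [Iso.hom_inv_id_apply]
  have key : ∀ (V' : X.Opens) (eq : V' = V) (hle : V' ≤ (U k).ι ''ᵁ W),
      Function.Bijective (fun r : Γ(X, V') => r • InvExt.mres L hle e) →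
      Function.Bijective (fun r : Γ(X, V) => r • InvExt.mres L hV e) := by
    intro V' eq hle hbij
    subst eq
    exact hbij
  exact key _ hVV _ hb'

theorem isInvertible_of_isRelAmple {f : X ⟶ Y} {L : X.Modules} (h : RelAmple.IsRelAmple f L) :
    PicF.IsInvertible L :=
  isInvertible_of_restrict (fun V : Y.affineOpens => f ⁻¹ᵁ V.1)
    (by rw [← Scheme.Hom.preimage_iSup, iSup_affineOpens_eq_top, Scheme.Hom.preimage_top])
    fun V => (h.2 V).1

/-- Relative ampleness can be tested on any affine cover of the base. -/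
theorem isRelAmple_of_cover {f : X ⟶ Y} [QuasiCompact f] {L : X.Modules}
    (h : ∀ y : Y, ∃ O : Y.Opens, y ∈ O ∧ IsAffineOpen O ∧ CohB1.IsAmple (L.restrict (f ⁻¹ᵁ O).ι)) :
    RelAmple.IsRelAmple f L := by
  choose O hyO hO hA using h
  have hL : PicF.IsInvertible L := isInvertible_of_restrict (fun y => f ⁻¹ᵁ O y)
    (eq_top_iff.mpr fun x _ => Opens.mem_iSup.mpr ⟨f x, hyO (f x)⟩) fun y => (hA y).1
  refine ⟨inferInstance, fun V => ?_⟩
  choose g g' hgg hyg using fun y : V.1 => exists_basicOpen_le_affine_inter V.2 (hO y.1) y.1 ⟨y.2, hyO y.1⟩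
  let U : X.Opens := f ⁻¹ᵁ V.1
  haveI : CompactSpace (U : Scheme.{u}) :=
    isCompact_iff_compactSpace.mp (f.isCompact_preimage V.2.isCompact)
  have hinv : PicF.IsInvertible (L.restrict U.ι) := by
    obtain ⟨c, ⟨e⟩⟩ := exists_cocycle hL
    obtain ⟨d⟩ := c.nonempty_restrict_iso U.ι e
    exact (c.comap U.ι).isInvertible_of_iso d
  let t : V.1 → Γ((U : Scheme.{u}), ⊤) := fun y => U.topIso.inv.hom ((f.app V.1).hom (g y))
  have ht : ∀ y, U.ι ''ᵁ (U : Scheme.{u}).basicOpen (t y) = f ⁻¹ᵁ Y.basicOpen (g y) := fun y => by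
    rw [Scheme.preimage_basicOpen, Scheme.image_basicOpen]
    simp [t, Scheme.Opens.toScheme_presheaf_obj]
  refine isAmple_of_basicOpens hinv t ?_ fun y => ?_
  · refine eq_top_iff.mpr fun x _ => ?_
    have hx : f x.1 ∈ Y.basicOpen (g ⟨f x.1, x.2⟩) := hyg ⟨f x.1, x.2⟩
    have : x.1 ∈ U.ι ''ᵁ (U : Scheme.{u}).basicOpen (t ⟨f x.1, x.2⟩) := by rw [ht]; exact hx
    obtain ⟨z, hz, hzx⟩ := this
    rw [U.ι.isOpenEmbedding.injective hzx] at hz
    exact Opens.mem_iSup.mpr ⟨⟨f x.1, x.2⟩, hz⟩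
  · let W := (U : Scheme.{u}).basicOpen (t y)
    have hWc : IsCompact (W : Set U) := by
      refine U.ι.isOpenEmbedding.isEmbedding.isInducing.isCompact_iff.mpr ?_
      show IsCompact ((U.ι ''ᵁ W : X.Opens) : Set X)
      rw [ht]
      exact f.isCompact_preimage (V.2.basicOpen _).isCompact
    haveI : CompactSpace (W : Scheme.{u}) := isCompact_iff_compactSpace.mp hWc
    rw [isAmple_restrict_iff, isAmple_iff_of_iso ((Scheme.Modules.pullback W.ι).mapIso
      ((Scheme.Modules.restrictFunctorIsoPullback U.ι).app L)), isAmple_pullback_comp_iff]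
    refine isAmple_pullback_of_range_le _ (f ⁻¹ᵁ O y.1).ι ?_ ((isAmple_restrict_iff _ L).mp (hA y.1))
    rintro _ ⟨z, rfl⟩
    rw [(f ⁻¹ᵁ O y.1).range_ι]
    have : U.ι (W.ι z) ∈ f ⁻¹ᵁ Y.basicOpen (g y) := ht y ▸ ⟨W.ι z, z.2, rfl⟩
    rw [hgg y] at this
    exact Y.basicOpen_le _ this

end GrothLib.Ample
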