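import Groth.Agent.Lib.Ample.Calculus
import Mathlib.AlgebraicGeometry.QuasiAffine

/-!
# Ampleness of invertible modules in terms of cocycles
-/

universe u

set_option backward.isDefEq.respectTransparency false

open AlgebraicGeometry CategoryTheory CategoryTheory.Limits TopologicalSpace Opposite

noncomputable section

namespace GrothLib.Ample

variable {X : Scheme.{u}}

theorem isAffineHom_genLocus_ι_of_eq {U V : X.Opens} (h : U = V) [IsAffineHom V.ι] : IsAffineHom U.ι := by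
  subst h; infer_instance

namespace Cocycle

variable (c : Cocycle X) {n : ℕ}

theorem exists_sect_of_section {L : X.Modules} (d : L ≅ c.twist n) (s : Coh.structureModule X ⟶ L) :
    ∃ a : c.sect n ⊤, c.locus a = CohB1.genLocus L s := by
  obtain ⟨a, ha⟩ := c.exists_hom_eq (s ≫ d.hom)
  exact ⟨a, by rw [← c.genLocus_hom a, ha, genLocus_comp_iso d s]⟩

theorem exists_section_of_sect {L : X.Modules} (d : L ≅ c.twist n) (a : c.sect n ⊤) :
    ∃ s : Coh.structureModule X ⟶ L, CohB1.genLocus L s = c.locus a :=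
  ⟨c.hom a ≫ d.inv, (genLocus_comp_iso d.symm (c.hom a)).trans (c.genLocus_hom a)⟩

theorem isInvertible_of_iso {L : X.Modules} (d : L ≅ c.twist n) : PicF.IsInvertible L := fun p => by
  obtain ⟨U, hp, ⟨φ⟩⟩ := c.isInvertible_twist n p
  exact ⟨U, hp, ⟨(Scheme.Modules.restrictFunctor U.ι).mapIso d ≪≫ φ⟩⟩

/-- Ampleness through a cocycle. -/
theorem isAmple_iff {L : X.Modules} (e : L ≅ c.twist 1) :
    CohB1.IsAmple L ↔ CompactSpace X ∧ c.IsAmp := by
  constructor
  · rintro ⟨-, hX, h⟩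
    refine ⟨hX, fun p => ?_⟩
    obtain ⟨n, s, hp, hs⟩ := h p
    obtain ⟨d⟩ := c.nonempty_tensorPow_iso e (n + 1)
    obtain ⟨a, ha⟩ := c.exists_sect_of_section d s
    exact ⟨n, a, by rw [ha]; exact hp, by rw [ha]; exact hs⟩
  · rintro ⟨hX, h⟩
    refine ⟨c.isInvertible_of_iso e, hX, fun p => ?_⟩
    obtain ⟨n, a, hp, ha⟩ := h p
    obtain ⟨d⟩ := c.nonempty_tensorPow_iso e (n + 1)
    obtain ⟨s, hs⟩ := c.exists_section_of_sect d a
    exact ⟨n, s, by rw [hs]; exact hp, by rw [hs]; exact ha⟩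

/-- A family of a power as a family of the cocycle. -/
def ofPow (k : ℕ) {V : X.Opens} (a : (c.pow k).sect n V) : c.sect (k * n) V :=
  ⟨a.1, fun i j W hi hj => by
    rw [pow_mul, ← c.pow_G k i j]
    exact (c.pow k).sect_spec a i j hi hj⟩

/-- A family of degree `k n` as a family of a power. -/
def toPow (k : ℕ) {V : X.Opens} (a : c.sect (k * n) V) : (c.pow k).sect n V :=
  ⟨a.1, fun i j W hi hj => by
    rw [c.pow_G k i j, ← pow_mul]
    exact c.sect_spec a i j hi hj⟩

theorem locus_ofPow (k : ℕ) (a : (c.pow k).sect n ⊤) : c.locus (c.ofPow k a) = (c.pow k).locus a := rfl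

theorem locus_toPow (k : ℕ) (a : c.sect (k * n) ⊤) : (c.pow k).locus (c.toPow k a) = c.locus a := rfl

theorem isAmp_pow_iff {k : ℕ} (hk : 0 < k) : (c.pow k).IsAmp ↔ c.IsAmp := by
  constructor <;> intro h p <;> obtain ⟨n, a, hp, ha⟩ := h p
  · obtain ⟨l, hl⟩ : ∃ l, k * (n + 1) = l + 1 :=
      ⟨k * (n + 1) - 1, by have := Nat.mul_pos hk (Nat.add_pos_right n Nat.one_pos); omega⟩
    refine ⟨l, c.sectCast hl (c.ofPow k a), ?_⟩
    rw [c.locus_sectCast, c.locus_ofPow]
    exact ⟨hp, ha⟩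
  · refine ⟨n, c.toPow k (c.sectCast (mul_comm (n + 1) k) (c.sectPow a k)), ?_⟩
    rw [c.locus_toPow, c.locus_sectCast, c.locus_sectPow a hk]
    exact ⟨hp, ha⟩

/-- The power of a cocycle presents the tensor power. -/
theorem nonempty_tensorPow_iso_pow {L : X.Modules} (e : L ≅ c.twist 1) (k : ℕ) :
    Nonempty (CohB1.tensorPow L k ≅ (c.pow k).twist 1) := by
  obtain ⟨d⟩ := c.nonempty_tensorPow_iso e k
  obtain ⟨q⟩ := c.nonempty_pow_twist k 1
  exact ⟨d ≪≫ eqToIso (by rw [mul_one]) ≪≫ q.symm⟩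

theorem nonempty_structureModule_iso_triv :
    Nonempty (Coh.structureModule X ≅ (Cocycle.triv X).twist 1) := by
  let a : (Cocycle.triv X).sect 1 (⊤ : X.Opens) :=
    ⟨fun _ => 1, fun i j W hi hj => by simp [Cocycle.triv, Cocycle.G]⟩
  haveI := (Cocycle.triv X).isIso_hom_of_locus_eq_top a
    ((Cocycle.triv X).locus_eq_top_of_isUnit a fun _ => isUnit_one)
  exact ⟨asIso ((Cocycle.triv X).hom a)⟩

/-- A global function as a family of the trivial cocycle. -/
def trivSect (f : Γ(X, ⊤)) : (Cocycle.triv X).sect n ⊤ :=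
  ⟨fun _ => res inf_le_left f, fun i j W hi hj => by simp [Cocycle.triv, Cocycle.G, res_res]⟩

theorem locus_trivSect (f : Γ(X, ⊤)) :
    (Cocycle.triv X).locus (Cocycle.trivSect (n := n) f) = X.basicOpen f := by
  have h := ((inf_top_eq _).symm.trans
    ((Cocycle.triv X).locus_inf_D (Cocycle.trivSect (n := n) f) PUnit.unit))
  rw [h]
  show X.basicOpen (res _ f) = _
  rw [Scheme.basicOpen_res]
  exact inf_eq_right.mpr (le_inf le_top le_top)

theorem exists_eq_trivSect (a : (Cocycle.triv X).sect n ⊤) :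
    ∃ f : Γ(X, ⊤), X.basicOpen f = (Cocycle.triv X).locus a := by
  refine ⟨res (le_inf le_top le_top) (a.1 PUnit.unit), ?_⟩
  have h := (inf_top_eq _).symm.trans ((Cocycle.triv X).locus_inf_D a PUnit.unit)
  rw [h, Scheme.basicOpen_res, top_inf_eq]

end Cocycle

theorem isAmple_iff_of_iso {L M : X.Modules} (e : L ≅ M) : CohB1.IsAmple L ↔ CohB1.IsAmple M := by
  suffices ∀ {A B : X.Modules}, (A ≅ B) → CohB1.IsAmple B → CohB1.IsAmple A from
    ⟨this e.symm, this e⟩
  intro A B e' h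
  obtain ⟨c, ⟨d⟩⟩ := exists_cocycle h.1
  exact (c.isAmple_iff (e' ≪≫ d)).mpr ((c.isAmple_iff d).mp h)

theorem compactSpace_of_isAmple {L : X.Modules} (h : CohB1.IsAmple L) : CompactSpace X := h.2.1

theorem quasiSeparatedSpace_of_isAmple {L : X.Modules} (h : CohB1.IsAmple L) : QuasiSeparatedSpace X := by
  haveI := h.2.1
  obtain ⟨c, ⟨e⟩⟩ := exists_cocycle h.1
  exact c.quasiSeparatedSpace_of_isAmp ((c.isAmple_iff e).mp h).2

/-- Affine loci of an ample module form a basis. -/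
theorem exists_affine_genLocus_le {L : X.Modules} (h : CohB1.IsAmple L) {O : X.Opens} {p : X} (hp : p ∈ O) :
    ∃ (n : ℕ) (s : Coh.structureModule X ⟶ CohB1.tensorPow L (n + 1)),
      p ∈ CohB1.genLocus _ s ∧ CohB1.genLocus _ s ≤ O ∧ IsAffineOpen (CohB1.genLocus _ s) := by
  haveI := h.2.1
  obtain ⟨c, ⟨e⟩⟩ := exists_cocycle h.1
  obtain ⟨n, a, h1, h2, h3⟩ := c.exists_affine_locus_le ((c.isAmple_iff e).mp h).2 hp
  obtain ⟨d⟩ := c.nonempty_tensorPow_iso e (n + 1)
  obtain ⟨s, hs⟩ := c.exists_section_of_sect d a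
  exact ⟨n, s, by rw [hs]; exact h1, by rw [hs]; exact h2, by rw [hs]; exact h3⟩

theorem isAffineHom_genLocus_ι {L : X.Modules} (hL : PicF.IsInvertible L) (s : Coh.structureModule X ⟶ L) :
    IsAffineHom (CohB1.genLocus L s).ι := by
  obtain ⟨c, ⟨e⟩⟩ := exists_cocycle hL
  obtain ⟨a, ha⟩ := c.exists_sect_of_section e s
  haveI := c.isAffineHom_locus_ι a
  exact isAffineHom_genLocus_ι_of_eq ha.symm

theorem isAmple_tensorPow_iff {L : X.Modules} (hL : PicF.IsInvertible L) {k : ℕ} (hk : 0 < k) :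
    CohB1.IsAmple L ↔ CohB1.IsAmple (CohB1.tensorPow L k) := by
  obtain ⟨c, ⟨e⟩⟩ := exists_cocycle hL
  obtain ⟨d⟩ := c.nonempty_tensorPow_iso_pow e k
  rw [c.isAmple_iff e, (c.pow k).isAmple_iff d, c.isAmp_pow_iff hk]

/-- A quasi-compact scheme is quasi-affine exactly when its structure module is ample. -/
theorem isAmple_structureModule_iff :
    CohB1.IsAmple (Coh.structureModule X) ↔
      CompactSpace X ∧ ∀ p : X, ∃ f : Γ(X, ⊤), p ∈ X.basicOpen f ∧ IsAffineOpen (X.basicOpen f) := by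
  obtain ⟨e⟩ := Cocycle.nonempty_structureModule_iso_triv (X := X)
  rw [(Cocycle.triv X).isAmple_iff e]
  refine and_congr_right fun _ => forall_congr' fun p => ?_
  constructor
  · rintro ⟨n, a, hp, ha⟩
    obtain ⟨f, hf⟩ := Cocycle.exists_eq_trivSect a
    exact ⟨f, by rw [hf]; exact hp, by rw [hf]; exact ha⟩
  · rintro ⟨f, hp, hf⟩
    exact ⟨0, Cocycle.trivSect f, by rw [Cocycle.locus_trivSect]; exact hp,
      by rw [Cocycle.locus_trivSect]; exact hf⟩

/-- A scheme is quasi-affine exactly when its structure module is ample. -/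
theorem isQuasiAffine_iff : X.IsQuasiAffine ↔ CohB1.IsAmple (Coh.structureModule X) := by
  rw [isAmple_structureModule_iff]
  constructor
  · intro h
    refine ⟨inferInstance, fun p => ?_⟩
    obtain ⟨_, ⟨_, ⟨r, hr, rfl⟩, rfl⟩, hpr, -⟩ :=
      (Scheme.IsQuasiAffine.isBasis_basicOpen X).exists_subset_of_mem_open (Set.mem_univ p) isOpen_univ
    exact ⟨r, hpr, hr⟩
  · rintro ⟨_, h⟩
    exact Scheme.IsQuasiAffine.of_forall_exists_mem_basicOpen X fun p =>
      let ⟨f, hp, hf⟩ := h p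
      ⟨f, hf, hp⟩

end GrothLib.Ample
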