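import Groth.Agent.Lib.Ample.Cocycle

/-!
# Every invertible module is the twist of a cocycle
-/

universe u

set_option backward.isDefEq.respectTransparency false

open AlgebraicGeometry CategoryTheory CategoryTheory.Limits TopologicalSpace Opposite
open GrothLib.InvExt (mres IsGen)

noncomputable section

namespace GrothLib.Ample

variable {X : Scheme.{u}}

/-- A morphism of modules bijective on all sections over the pieces of a cover is an isomorphism. -/
theorem isIso_of_cover {M M' : X.Modules} (φ : M ⟶ M') {ι : Type*} (D : ι → X.Opens) (hD : ⨆ i, D i = ⊤)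
    (h : ∀ (i) (W : X.Opens), W ≤ D i → Function.Bijective (φ.app W)) : IsIso φ := by
  rw [Scheme.Modules.Hom.isIso_iff_isIso_app]
  intro V
  rw [ConcreteCategory.isIso_iff_bijective]
  have hc : V ≤ ⨆ i, V ⊓ D i := by rw [← inf_iSup_eq, hD, inf_top_eq]
  constructor
  · intro a b hab
    refine meq_of_cover M (fun i => V ⊓ D i) (fun _ => inf_le_left) hc fun i => (h i _ inf_le_right).1 ?_
    rw [app_mres, app_mres, hab]
  · intro b
    choose a ha using fun i => (h i (V ⊓ D i) inf_le_right).2 (mres M' inf_le_left b)
    obtain ⟨t, ht, -⟩ := TopCat.Sheaf.existsUnique_gluing' ⟨M.presheaf, M.isSheaf⟩ (fun i => V ⊓ D i) V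
      (fun i => homOfLE inf_le_left) hc a fun i j =>
      (h i ((V ⊓ D i) ⊓ (V ⊓ D j)) (inf_le_left.trans inf_le_right)).1
        (by
          show φ.app _ (mres M inf_le_left (a i)) = φ.app _ (mres M inf_le_right (a j))
          rw [app_mres, app_mres, ha, ha, InvExt.mres_mres, InvExt.mres_mres])
    let t' : Γ(M, V) := t
    refine ⟨t', meq_of_cover M' (fun i => V ⊓ D i) (fun _ => inf_le_left) hc fun i => ?_⟩
    rw [← app_mres, show mres M inf_le_left t' = a i from ht i, ha]

namespace Cocycle

/-- A twist is isomorphic to a module with compatible local generators. -/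
theorem isIso_homOfFamily (c : Cocycle X) {n : ℕ} {M : X.Modules} {m : ∀ i, Γ(M, c.D i)}
    (hm : c.IsFamily n m) (hgen : ∀ i, IsGen M (c.D i) (m i)) : IsIso (c.homOfFamily hm) := by
  refine isIso_of_cover _ c.D c.cover fun i W hW => ?_
  have hb : ∀ r : Γ(X, W), (c.homOfFamily hm).app W (r • c.base n i hW) = r • mres M hW (m i) := by
    intro r
    refine (app_smul (c.homOfFamily hm) r (c.base n i hW)).trans ?_
    rw [c.homOfFamily_base hm i hW]
  constructor
  · intro (a : c.sect n W) (b : c.sect n W) hab
    rw [c.eq_smul_base i hW a, c.eq_smul_base i hW b] at hab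
    have hab' := (hb _).symm.trans (hab.trans (hb _))
    rw [c.eq_smul_base i hW a, c.eq_smul_base i hW b, (hgen i W hW).1 hab']
  · intro t
    obtain ⟨r, hr⟩ := (hgen i W hW).2 t
    exact ⟨r • c.base n i hW, (hb r).trans hr⟩

end Cocycle

/-- An invertible module is the first twist of a cocycle. -/
theorem exists_cocycle {L : X.Modules} (hL : PicF.IsInvertible L) :
    ∃ c : Cocycle X, Nonempty (L ≅ c.twist 1) := by
  choose V e hxV he using InvExt.exists_gen_nhd hL
  choose g hg using fun x y : X => (he x).exists_smul_eq (inf_le_left : V x ⊓ V y ≤ V x)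
    (mres L inf_le_right (e y))
  have hres : ∀ (x y : X) (W : X.Opens) (hx : W ≤ V x) (hy : W ≤ V y),
      mres L hy (e y) = res (le_inf hx hy) (g x y) • mres L hx (e x) := by
    intro x y W hx hy
    have := congrArg (mres L (le_inf hx hy)) (hg x y)
    rwa [InvExt.mres_mres, mres_smul', InvExt.mres_mres] at this
  let c : Cocycle X :=
    { ι := X
      D := V
      g := g
      cover := eq_top_iff.mpr fun x _ => Opens.mem_iSup.mpr ⟨x, hxV x⟩
      self := fun i W h => (he i).smul_left_injective h (by rw [← hres i i W h h, one_smul])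
      change := fun i j k W hi hj hk => (he i).smul_left_injective hi (by
        rw [← hres i k W hi hk, hres j k W hj hk, hres i j W hi hj, smul_smul, mul_comm]) }
  have hm : c.IsFamily 1 (M := L) e := fun i j W hi hj => by
    rw [pow_one]; exact hres i j W hi hj
  haveI := c.isIso_homOfFamily hm he
  exact ⟨c, ⟨(asIso (c.homOfFamily hm)).symm⟩⟩

/-- The trivial cocycle. -/
def Cocycle.triv (X : Scheme.{u}) : Cocycle X where
  ι := PUnit
  D _ := ⊤
  g _ _ := 1
  cover := iSup_const
  self _ _ _ := map_one _
  change _ _ _ _ _ _ _ := by simp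

end GrothLib.Ample
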