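import Groth.Agent.Lib.Ample.Functorial
import Groth.Agent.Lib.QCoh.Qcqs

/-!
# Twisting a module by a cocycle; extension of sections from a locus
-/

universe u

set_option backward.isDefEq.respectTransparency false

open AlgebraicGeometry CategoryTheory CategoryTheory.Limits TopologicalSpace Opposite MonoidalCategory
open GrothLib.InvExt (mres IsGen)

noncomputable section

namespace GrothLib.Ample

variable {X : Scheme.{u}}

namespace Cocycle

variable (c : Cocycle X) (M : X.Modules)

/-- The families of local sections of `M` twisted `n` times. -/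
def msect (n : ℕ) (V : X.Opens) : AddSubgroup (∀ i, Γ(M, V ⊓ c.D i)) where
  carrier := {a | ∀ (i j) (W : X.Opens) (hi : W ≤ V ⊓ c.D i) (hj : W ≤ V ⊓ c.D j),
    mres M hi (a i) = c.G i j (hi.trans inf_le_right) (hj.trans inf_le_right) ^ n • mres M hj (a j)}
  zero_mem' i j W hi hj := by simp [mres]
  add_mem' {a b} ha hb i j W hi hj := by
    have h1 := ha i j W hi hj
    have h2 := hb i j W hi hj
    simp only [mres, Pi.add_apply, map_add, smul_add] at h1 h2 ⊢
    rw [h1, h2]
  neg_mem' {a} ha i j W hi hj := by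
    have h1 := ha i j W hi hj
    simp only [mres, Pi.neg_apply, map_neg, smul_neg] at h1 ⊢
    rw [h1]

variable {M} {n : ℕ}

theorem msect_spec {V : X.Opens} (a : c.msect M n V) (i j : c.ι) {W : X.Opens}
    (hi : W ≤ V ⊓ c.D i) (hj : W ≤ V ⊓ c.D j) :
    mres M hi (a.1 i) = c.G i j (hi.trans inf_le_right) (hj.trans inf_le_right) ^ n • mres M hj (a.1 j) :=
  a.2 i j W hi hj

theorem msect_ext {V : X.Opens} {a b : c.msect M n V} (h : ∀ i, a.1 i = b.1 i) : a = b :=
  Subtype.ext (funext h)

theorem msect_ext_of_le {V : X.Opens} {i : c.ι} (hV : V ≤ c.D i) {a b : c.msect M n V}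
    (h : a.1 i = b.1 i) : a = b := by
  refine c.msect_ext fun l => ?_
  have hl : V ⊓ c.D l ≤ V ⊓ c.D i := le_inf inf_le_left (inf_le_left.trans hV)
  have ha := c.msect_spec a l i le_rfl hl
  have hb := c.msect_spec b l i le_rfl hl
  rw [InvExt.mres_self] at ha hb
  rw [ha, hb, h]

variable (M) in
theorem smul_mem_msect {V : X.Opens} (r : Γ(X, V)) (a : c.msect M n V) :
    (fun i => res (inf_le_left : V ⊓ c.D i ≤ V) r • a.1 i) ∈ c.msect M n V := fun i j W hi hj => by
  rw [mres_smul', mres_smul', res_res, res_res, c.msect_spec a i j hi hj, smul_comm]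

instance msectSMul (V : X.Opens) : SMul Γ(X, V) (c.msect M n V) where
  smul r a := ⟨fun i => res (inf_le_left : V ⊓ c.D i ≤ V) r • a.1 i, c.smul_mem_msect M r a⟩

theorem msmul_apply {V : X.Opens} (r : Γ(X, V)) (a : c.msect M n V) (i : c.ι) :
    (r • a).1 i = res (inf_le_left : V ⊓ c.D i ≤ V) r • a.1 i := rfl

instance msectModule (V : X.Opens) : Module Γ(X, V) (c.msect M n V) where
  one_smul a := c.msect_ext fun i => by simp [msmul_apply]
  mul_smul r s a := c.msect_ext fun i => by simp [msmul_apply, mul_smul]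
  smul_zero r := c.msect_ext fun i => by simp [msmul_apply]
  smul_add r a b := c.msect_ext fun i => by simp [msmul_apply, smul_add]
  add_smul r s a := c.msect_ext fun i => by simp [msmul_apply, add_smul]
  zero_smul a := c.msect_ext fun i => by simp [msmul_apply]

/-- Restriction of families. -/
def msectRes {V W : X.Opens} (h : W ≤ V) : c.msect M n V →+ c.msect M n W where
  toFun a := ⟨fun i => mres M (inf_le_inf_right _ h) (a.1 i), fun i j U hi hj => by
    rw [InvExt.mres_mres, InvExt.mres_mres]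
    exact c.msect_spec a i j (hi.trans (inf_le_inf_right _ h)) (hj.trans (inf_le_inf_right _ h))⟩
  map_zero' := c.msect_ext fun i => map_zero _
  map_add' a b := c.msect_ext fun i => map_add _ _ _

theorem msectRes_apply {V W : X.Opens} (h : W ≤ V) (a : c.msect M n V) (i : c.ι) :
    (c.msectRes h a).1 i = mres M (inf_le_inf_right _ h) (a.1 i) := rfl

theorem msectRes_msectRes {V W T : X.Opens} (h : W ≤ V) (h' : T ≤ W) (a : c.msect M n V) :
    c.msectRes h' (c.msectRes h a) = c.msectRes (h'.trans h) a :=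
  c.msect_ext fun i => InvExt.mres_mres M _ _ _

theorem msectRes_smul {V W : X.Opens} (h : W ≤ V) (r : Γ(X, V)) (a : c.msect M n V) :
    c.msectRes h (r • a) = res h r • c.msectRes h a :=
  c.msect_ext fun i => by simp only [msectRes_apply, msmul_apply, mres_smul', res_res]

variable (M n) in
/-- The presheaf of families. -/
def msectAb : TopCat.Presheaf AddCommGrpCat.{u} X.carrier where
  obj V := AddCommGrpCat.of (c.msect M n V.unop)
  map i := AddCommGrpCat.ofHom (c.msectRes (leOfHom i.unop))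
  map_id V := by
    ext (a : c.msect M n V.unop)
    exact InvExt.mres_self M _
  map_comp i j := by
    ext (a : c.msect M n _)
    exact (InvExt.mres_mres M _ _ _).symm

theorem isSheaf_msectAb : (c.msectAb M n).IsSheaf := by
  rw [TopCat.Presheaf.isSheaf_iff_isSheafUniqueGluing]
  intro ι V sf hsf
  have hcov : ∀ i, iSup V ⊓ c.D i ≤ ⨆ k, V k ⊓ c.D i := fun i => le_of_eq (iSup_inf_eq V (c.D i))
  have key : ∀ i, ∃! a : Γ(M, iSup V ⊓ c.D i),
      ∀ k, mres M (inf_le_inf_right _ (le_iSup V k)) a = (sf k).1 i := by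
    intro i
    refine TopCat.Sheaf.existsUnique_gluing' ⟨M.presheaf, M.isSheaf⟩ (fun k => V k ⊓ c.D i) (iSup V ⊓ c.D i)
      (fun k => homOfLE (inf_le_inf_right _ (le_iSup V k))) (hcov i) _ fun k l => ?_
    have h1 : c.msectRes inf_le_left (sf k) = c.msectRes inf_le_right (sf l) := hsf k l
    have hle : (V k ⊓ c.D i) ⊓ (V l ⊓ c.D i) ≤ V k ⊓ V l ⊓ c.D i :=
      le_inf (inf_le_inf inf_le_left inf_le_left) (inf_le_left.trans inf_le_right)
    have h2 := congrArg (fun a : c.msect M n (V k ⊓ V l) => mres M hle (a.1 i)) h1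
    simp only [msectRes_apply, InvExt.mres_mres] at h2
    exact h2
  choose a ha hau using key
  have hmem : a ∈ c.msect M n (iSup V) := by
    intro i j W hi hj
    refine meq_of_cover M (fun k => W ⊓ V k) (fun k => inf_le_left)
      (by rw [← inf_iSup_eq]; exact le_inf le_rfl (hi.trans inf_le_left)) fun k => ?_
    have hik : W ⊓ V k ≤ V k ⊓ c.D i := le_inf inf_le_right ((inf_le_left.trans hi).trans inf_le_right)
    have hjk : W ⊓ V k ≤ V k ⊓ c.D j := le_inf inf_le_right ((inf_le_left.trans hj).trans inf_le_right)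
    have h := c.msect_spec (sf k) i j hik hjk
    rw [← ha i k, ← ha j k] at h
    simp only [mres_smul', map_pow, InvExt.mres_mres, res_G] at h ⊢
    exact h
  refine ⟨⟨a, hmem⟩, fun k => c.msect_ext fun i => ha i k, fun t ht => c.msect_ext fun i => ?_⟩
  exact hau i _ fun k => congrFun (congrArg Subtype.val (ht k)) i

variable (M n) in
/-- `M` twisted `n` times. -/
def modTwist : X.Modules where
  val :=
    letI (V : (Opens X)ᵒᵖ) : Module (X.ringCatSheaf.obj.obj V) ((c.msectAb M n).obj V) :=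
      c.msectModule V.unop
    PresheafOfModules.ofPresheaf (c.msectAb M n) fun V W i r a => c.msectRes_smul (leOfHom i.unop) r a
  isSheaf := c.isSheaf_msectAb

variable (n) in
/-- The family over a piece of `D i` with given `i`-th component. -/
def mbase {V : X.Opens} (i : c.ι) (hV : V ≤ c.D i) (μ : Γ(M, V)) : c.msect M n V :=
  ⟨fun l => c.G l i inf_le_right (inf_le_left.trans hV) ^ n • mres M inf_le_left μ, fun p q W hp hq => by
    simp only [mres_smul', map_pow, res_G, InvExt.mres_mres, smul_smul]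
    rw [c.G_trans p q i (hp.trans inf_le_right) (hq.trans inf_le_right), mul_pow]⟩

theorem mbase_self {V : X.Opens} (i : c.ι) (hV : V ≤ c.D i) (μ : Γ(M, V)) :
    (c.mbase n i hV μ).1 i = mres M inf_le_left μ := by
  show c.G i i _ _ ^ n • _ = _
  rw [c.G_self, one_pow, one_smul]

theorem eq_mbase {V : X.Opens} (i : c.ι) (hV : V ≤ c.D i) (a : c.msect M n V) :
    a = c.mbase n i hV (mres M (le_inf le_rfl hV) (a.1 i)) := by
  refine c.msect_ext_of_le hV ?_
  rw [mbase_self, InvExt.mres_mres, InvExt.mres_self]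

/-- Multiplication of a section by a family. -/
def smulSect {V : X.Opens} (μ : Γ(M, V)) (a : c.sect n V) : c.msect M n V :=
  ⟨fun i => a.1 i • mres M inf_le_left μ, fun i j W hi hj => by
    rw [mres_smul', mres_smul', InvExt.mres_mres, InvExt.mres_mres, smul_smul, c.sect_spec a i j hi hj]⟩

theorem smulSect_apply {V : X.Opens} (μ : Γ(M, V)) (a : c.sect n V) (i : c.ι) :
    (c.smulSect μ a).1 i = a.1 i • mres M inf_le_left μ := rfl

variable (M) in
/-- The comparison map from the presheaf tensor product. -/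
def modPre (n : ℕ) : CohB1.tensorPre M (c.twist n) ⟶ CohB1.toPMod (c.modTwist M n) where
  app V := ModuleCat.MonoidalCategory.tensorLift
    (fun (μ : Γ(M, V.unop)) (a : c.sect n V.unop) => c.smulSect μ a)
    (fun (μ : Γ(M, V.unop)) (μ' : Γ(M, V.unop)) a => c.msect_ext fun i => by
      show a.1 i • mres M (inf_le_left : V.unop ⊓ c.D i ≤ V.unop) (μ + μ') = a.1 i • mres M (inf_le_left : V.unop ⊓ c.D i ≤ V.unop) μ + a.1 i • mres M (inf_le_left : V.unop ⊓ c.D i ≤ V.unop) μ'
      rw [← smul_add]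
      exact congrArg (a.1 i • ·) (map_add _ _ _))
    (fun (r : Γ(X, V.unop)) (μ : Γ(M, V.unop)) a => c.msect_ext fun i => by
      show a.1 i • mres M (inf_le_left : V.unop ⊓ c.D i ≤ V.unop) (r • μ) = res (inf_le_left : V.unop ⊓ c.D i ≤ V.unop) r • (a.1 i • mres M (inf_le_left : V.unop ⊓ c.D i ≤ V.unop) μ)
      rw [mres_smul', smul_comm])
    (fun μ a a' => c.msect_ext fun i => add_smul _ _ _)
    (fun (r : Γ(X, V.unop)) (μ : Γ(M, V.unop)) (a : c.sect n V.unop) => c.msect_ext fun i => by
      show (r • a).1 i • mres M (inf_le_left : V.unop ⊓ c.D i ≤ V.unop) μ = res (inf_le_left : V.unop ⊓ c.D i ≤ V.unop) r • (a.1 i • mres M (inf_le_left : V.unop ⊓ c.D i ≤ V.unop) μ)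
      rw [c.smul_apply, smul_smul])
  naturality {V W} f := ModuleCat.MonoidalCategory.tensor_ext (fun (μ : Γ(M, V.unop)) (a : c.sect n V.unop) =>
    c.msect_ext fun i => by
      show res (inf_le_inf_right _ (leOfHom f.unop)) (a.1 i) •
          mres M (inf_le_left : W.unop ⊓ c.D i ≤ W.unop) (mres M (leOfHom f.unop) μ) =
        mres M (inf_le_inf_right _ (leOfHom f.unop)) (a.1 i • mres M (inf_le_left : V.unop ⊓ c.D i ≤ V.unop) μ)
      rw [mres_smul', InvExt.mres_mres, InvExt.mres_mres])

end Cocycle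

/-- A bilinear map which is bijective on small opens identifies the tensor product. -/
theorem nonempty_tensorMod_iso_of_bijective {M N P : X.Modules} (β : CohB1.tensorPre M N ⟶ CohB1.toPMod P)
    (h : ∀ p : X, ∃ V : X.Opens, p ∈ V ∧ ∀ W ≤ V, Function.Bijective (β.app (op W)).hom) :
    Nonempty (CohB1.tensorMod M N ≅ P) := by
  let g : (show X.PresheafOfModules from CohB1.tensorPre M N) ⟶
      (PresheafOfModules.restrictScalars (𝟙 X.ringCatSheaf.obj)).obj P.val := β
  haveI : Presheaf.IsLocallyInjective (Opens.grothendieckTopology X)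
      ((PresheafOfModules.toPresheaf _).map g) :=
    ⟨fun {U} z w e p hp => by
      obtain ⟨V, hpV, hV⟩ := h p
      refine ⟨U.unop ⊓ V, homOfLE inf_le_left, ?_, hp, hpV⟩
      refine (hV _ inf_le_right).1 ?_
      have h1 := PresheafOfModules.naturality_apply β (homOfLE (inf_le_left : U.unop ⊓ V ≤ U.unop)).op z
      have h2 := PresheafOfModules.naturality_apply β (homOfLE (inf_le_left : U.unop ⊓ V ≤ U.unop)).op w
      exact h1.trans ((congrArg _ e).trans h2.symm)⟩
  haveI : Presheaf.IsLocallySurjective (Opens.grothendieckTopology X)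
      ((PresheafOfModules.toPresheaf _).map g) :=
    ⟨fun {U} t p hp => by
      obtain ⟨V, hpV, hV⟩ := h p
      obtain ⟨z, hz⟩ := (hV (U ⊓ V) inf_le_right).2 (mres P (inf_le_left : U ⊓ V ≤ U) t)
      exact ⟨U ⊓ V, homOfLE inf_le_left, ⟨z, hz⟩, hp, hpV⟩⟩
  haveI := isIso_sheafify_desc _ _ g
  exact ⟨asIso ((PresheafOfModules.sheafificationHomEquiv.{u} (𝟙 X.ringCatSheaf.obj)
    (P := show X.PresheafOfModules from CohB1.tensorPre M N) (F := P)).symm g)⟩

namespace Cocycle

variable (c : Cocycle X) {M : X.Modules} {n d k m : ℕ}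

variable (M) in
/-- `M ⊗ twist n` is `M` twisted `n` times. -/
theorem nonempty_tensor_modTwist (n : ℕ) :
    Nonempty (CohB1.tensorMod M (c.twist n) ≅ c.modTwist M n) := by
  refine nonempty_tensorMod_iso_of_bijective (c.modPre M n) fun p => ?_
  obtain ⟨i, hi⟩ := c.exists_mem p
  refine ⟨c.D i, hi, fun W hW => ?_⟩
  let e : c.sect n W := c.base n i hW
  have hspan : ∀ z : TensorProduct Γ(X, W) Γ(M, W) (c.sect n W), ∃ μ : Γ(M, W), z = μ ⊗ₜ[Γ(X, W)] e := by
    intro z
    induction z with
    | zero => exact ⟨0, (TensorProduct.zero_tmul _ _).symm⟩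
    | tmul μ a =>
      refine ⟨res (le_inf le_rfl hW) (a.1 i) • μ, ?_⟩
      conv_lhs => rw [c.eq_smul_base i hW a]
      rw [TensorProduct.tmul_smul, TensorProduct.smul_tmul']
    | add z w hz hw =>
      obtain ⟨r, hr⟩ := hz
      obtain ⟨s, hs⟩ := hw
      exact ⟨r + s, by rw [hr, hs, TensorProduct.add_tmul]⟩
  have hmap : ∀ μ : Γ(M, W), (show c.msect M n W from ((c.modPre M n).app (op W)).hom (μ ⊗ₜ[Γ(X, W)] e)) =
      c.smulSect μ e := fun μ => rfl
  constructor
  · intro (z : TensorProduct Γ(X, W) Γ(M, W) (c.sect n W)) (w : TensorProduct Γ(X, W) Γ(M, W) (c.sect n W)) hzw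
    obtain ⟨μ, rfl⟩ := hspan z
    obtain ⟨ν, rfl⟩ := hspan w
    have h := congrArg (fun t : c.msect M n W => mres M (le_inf le_rfl hW) (t.1 i))
      ((hmap μ).symm.trans (hzw.trans (hmap ν)))
    simp only [smulSect_apply, e, base_self, one_smul, InvExt.mres_mres, InvExt.mres_self] at h
    rw [h]
  · intro (t : c.msect M n W)
    refine ⟨mres M (le_inf le_rfl hW) (t.1 i) ⊗ₜ[Γ(X, W)] e, ?_⟩
    refine (hmap _).trans (c.msect_ext_of_le hW ?_)
    rw [smulSect_apply, base_self, one_smul, InvExt.mres_mres, InvExt.mres_self]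

/-! ### Extension -/

/-- Transport along an equality of exponents. -/
def msectCast {V : X.Opens} (h : n = m) (a : c.msect M n V) : c.msect M m V := ⟨a.1, h ▸ a.2⟩

theorem msectCast_apply {V : X.Opens} (h : n = m) (a : c.msect M n V) (i : c.ι) :
    (c.msectCast h a).1 i = a.1 i := rfl

theorem msectRes_msectCast {V W : X.Opens} (h : W ≤ V) (e : n = m) (a : c.msect M n V) :
    c.msectRes h (c.msectCast e a) = c.msectCast e (c.msectRes h a) :=
  c.msect_ext fun _ => rfl

/-- Multiplication of a twisted section by a power of `a`. -/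
def mraise (a : c.sect k ⊤) {V : X.Opens} (b : c.msect M n V) (N : ℕ) : c.msect M (n + k * N) V :=
  ⟨fun i => res (inf_le_inf_right (c.D i) (le_top : V ≤ ⊤)) (a.1 i) ^ N • b.1 i, fun i j W hi hj => by
    simp only [mres_smul', map_pow, res_res]
    rw [c.msect_spec b i j hi hj, c.sect_spec a i j (hi.trans (inf_le_inf_right (c.D i) (le_top : V ≤ ⊤)))
      (hj.trans (inf_le_inf_right (c.D j) (le_top : V ≤ ⊤))), smul_smul, smul_smul, pow_add, mul_pow, pow_mul]
    congr 1
    ring⟩

theorem mraise_apply (a : c.sect k ⊤) {V : X.Opens} (b : c.msect M n V) (N : ℕ) (i : c.ι) :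
    (c.mraise a b N).1 i = res (inf_le_inf_right (c.D i) (le_top : V ≤ ⊤)) (a.1 i) ^ N • b.1 i := rfl

theorem msectRes_mraise (a : c.sect k ⊤) {V W : X.Opens} (h : W ≤ V) (b : c.msect M n V) (N : ℕ) :
    c.msectRes h (c.mraise a b N) = c.mraise a (c.msectRes h b) N :=
  c.msect_ext fun i => by simp only [msectRes_apply, mraise_apply, mres_smul', map_pow, res_res]

theorem mraise_mraise (a : c.sect k ⊤) {V : X.Opens} (b : c.msect M n V) (N N' : ℕ) :
    c.mraise a (c.mraise a b N) N' =
      c.msectCast (by rw [mul_add, add_assoc]) (c.mraise a b (N + N')) :=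
  c.msect_ext fun i => by simp only [mraise_apply, msectCast_apply, smul_smul, pow_add, mul_comm]

/-- An extension on an affine piece. -/
theorem exists_mextend_affine [M.IsQuasicoherent] (a : c.sect k ⊤) (β : c.msect M d (c.locus a)) {i : c.ι}
    {W : X.Opens} (hW : IsAffineOpen W) (hWD : W ≤ c.D i) :
    ∃ (m : ℕ) (b : c.msect M (d + k * m) W), c.msectRes (inf_le_left : W ⊓ c.locus a ≤ W) b =
      c.mraise a (c.msectRes (inf_le_right : W ⊓ c.locus a ≤ c.locus a) β) m := by
  let α : Γ(X, W) := res (le_inf le_top hWD) (a.1 i)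
  have hα : c.locus a ⊓ W = X.basicOpen α := c.locus_inf_eq_basicOpen a hWD
  have h1 : X.basicOpen α ≤ c.locus a ⊓ c.D i := le_inf (hα ▸ inf_le_left) ((X.basicOpen_le α).trans hWD)
  have h2 : W ⊓ c.locus a ≤ X.basicOpen α := (inf_comm _ _).le.trans hα.le
  obtain ⟨m, t, ht⟩ := (QCoh.smulLift_and_smulSep_of_isAffineOpen hW M α).1 (mres M h1 (β.1 i))
  change mres M (X.basicOpen_le α) t = res (X.basicOpen_le α) α ^ m • mres M h1 (β.1 i) at ht
  refine ⟨m, c.mbase (d + k * m) i hWD t, c.msect_ext_of_le (inf_le_left.trans hWD) ?_⟩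
  have e := congrArg (mres M (inf_le_left.trans h2 : (W ⊓ c.locus a) ⊓ c.D i ≤ X.basicOpen α)) ht
  simp only [α, mres_smul', map_pow, InvExt.mres_mres, res_res] at e
  simp only [msectRes_apply, mbase_self, mraise_apply, InvExt.mres_mres, e]

/-- Twisted sections agreeing on the locus agree after multiplication by a power. -/
theorem exists_mraise_eq [M.IsQuasicoherent] (a : c.sect k ⊤) {T : X.Opens} (hT : IsCompact (T : Set X))
    {i : c.ι} (hTD : T ≤ c.D i) (b b' : c.msect M n T)
    (h : c.msectRes (inf_le_left : T ⊓ c.locus a ≤ T) b = c.msectRes inf_le_left b') :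
    ∃ N₀, ∀ N, N₀ ≤ N → c.mraise a b N = c.mraise a b' N := by
  let α : Γ(X, T) := res (le_inf le_top hTD) (a.1 i)
  have hle : T ≤ T ⊓ c.D i := le_inf le_rfl hTD
  let δ : Γ(M, T) := mres M hle (b.1 i) - mres M hle (b'.1 i)
  have hδ : mres M (X.basicOpen_le α) δ = 0 := by
    have h1 : X.basicOpen α ≤ (T ⊓ c.locus a) ⊓ c.D i := by
      rw [← c.locus_inf_eq_basicOpen a hTD]
      exact le_inf (le_inf inf_le_right inf_le_left) (inf_le_right.trans hTD)
    have e := congrArg (fun x : c.msect M n _ => mres M h1 (x.1 i)) h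
    simp only [msectRes_apply, InvExt.mres_mres] at e
    simp only [δ, mres, map_sub, sub_eq_zero]
    exact (InvExt.mres_mres M hle (X.basicOpen_le α) _).trans
      (e.trans (InvExt.mres_mres M hle (X.basicOpen_le α) _).symm)
  obtain ⟨N₀, hN₀⟩ := QCoh.smulSep_of_isCompact M hT α δ hδ
  refine ⟨N₀, fun N hN => c.msect_ext_of_le hTD ?_⟩
  have e : α ^ N • δ = 0 := by
    rw [← Nat.sub_add_cancel hN, pow_add, mul_smul, hN₀, smul_zero]
  have e' : α ^ N • mres M hle (b.1 i) = α ^ N • mres M hle (b'.1 i) := by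
    rw [← sub_eq_zero, ← smul_sub]; exact e
  have e'' := congrArg (mres M (inf_le_left : T ⊓ c.D i ≤ T)) e'
  simp only [α, mres_smul', map_pow, InvExt.mres_mres, res_res, InvExt.mres_self] at e''
  simp only [mraise_apply]
  exact e''

/-- A twisted section on a locus times a power of the section extends. -/
theorem exists_mextend [CompactSpace X] [QuasiSeparatedSpace X] [M.IsQuasicoherent] (a : c.sect k ⊤)
    (β : c.msect M d (c.locus a)) :
    ∃ (m : ℕ) (b : c.msect M (d + k * m) ⊤),
      c.msectRes (le_top : c.locus a ≤ ⊤) b = c.mraise a β m := by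
  classical
  choose i W hpW hWD hW using c.exists_affine_le_D
  obtain ⟨t, ht⟩ := isCompact_univ.elim_finite_subcover (fun p => (W p : Set X)) (fun p => (W p).2)
    (fun p _ => Set.mem_iUnion.mpr ⟨p, hpW p⟩)
  have hcov : (⊤ : X.Opens) ≤ ⨆ p : t, W p.1 := fun x _ => by
    obtain ⟨p, hp, hx⟩ := Set.mem_iUnion₂.mp (ht (Set.mem_univ x))
    exact Opens.mem_iSup.mpr ⟨⟨p, hp⟩, hx⟩
  choose m₁ b₁ hb₁ using fun p : t => c.exists_mextend_affine a β (hW p.1) (hWD p.1)
  let m₀ := Finset.univ.sup m₁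
  have he : ∀ p : t, ∃ b : c.msect M (d + k * m₀) (W p.1),
      c.msectRes (inf_le_left : W p.1 ⊓ c.locus a ≤ W p.1) b =
        c.mraise a (c.msectRes (inf_le_right : W p.1 ⊓ c.locus a ≤ c.locus a) β) m₀ := by
    intro p
    have hle : m₁ p + (m₀ - m₁ p) = m₀ := Nat.add_sub_cancel' (Finset.le_sup (Finset.mem_univ p))
    refine ⟨c.msectCast (show d + k * m₁ p + k * (m₀ - m₁ p) = d + k * m₀ by rw [add_assoc, ← mul_add, hle])
      (c.mraise a (b₁ p) (m₀ - m₁ p)), ?_⟩
    rw [c.msectRes_msectCast, c.msectRes_mraise, hb₁ p, c.mraise_mraise]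
    refine c.msect_ext fun l => ?_
    simp only [msectCast_apply, mraise_apply, hle]
  choose b₀ hb₀ using he
  have hpair : ∀ p q : t, ∃ N₀, ∀ N, N₀ ≤ N →
      c.mraise a (c.msectRes (inf_le_left : W p.1 ⊓ W q.1 ≤ W p.1) (b₀ p)) N =
      c.mraise a (c.msectRes (inf_le_right : W p.1 ⊓ W q.1 ≤ W q.1) (b₀ q)) N := by
    intro p q
    refine c.exists_mraise_eq a ?_ (inf_le_left.trans (hWD p.1)) _ _ ?_
    · exact QuasiSeparatedSpace.inter_isCompact _ _ (W p.1).2 (hW p.1).isCompact (W q.1).2 (hW q.1).isCompact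
    · let T := W p.1 ⊓ W q.1 ⊓ c.locus a
      have hp : T ≤ W p.1 ⊓ c.locus a := inf_le_inf_right _ inf_le_left
      have hq : T ≤ W q.1 ⊓ c.locus a := inf_le_inf_right _ inf_le_right
      have ep := congrArg (c.msectRes hp) (hb₀ p)
      have eq := congrArg (c.msectRes hq) (hb₀ q)
      simp only [msectRes_msectRes, msectRes_mraise] at ep eq ⊢
      exact ep.trans eq.symm
  choose N₁ hN₁ using hpair
  let N := Finset.univ.sup fun pq : t × t => N₁ pq.1 pq.2
  have hdeg : d + k * m₀ + k * N = d + k * (m₀ + N) := by rw [mul_add, add_assoc]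
  let sf : ∀ p : t, Γ(c.modTwist M (d + k * (m₀ + N)), W p.1) := fun p => c.msectCast hdeg (c.mraise a (b₀ p) N)
  obtain ⟨B, hB, -⟩ := TopCat.Sheaf.existsUnique_gluing'
    ⟨(c.modTwist M (d + k * (m₀ + N))).presheaf, (c.modTwist M (d + k * (m₀ + N))).isSheaf⟩ (fun p : t => W p.1) ⊤
    (fun p => homOfLE le_top) hcov sf fun p q => by
      show c.msectRes inf_le_left (c.msectCast hdeg (c.mraise a (b₀ p) N)) =
        c.msectRes inf_le_right (c.msectCast hdeg (c.mraise a (b₀ q) N))
      rw [c.msectRes_msectCast, c.msectRes_msectCast, c.msectRes_mraise, c.msectRes_mraise]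
      exact congrArg (c.msectCast hdeg)
        (hN₁ p q N (Finset.le_sup (f := fun pq : t × t => N₁ pq.1 pq.2) (Finset.mem_univ (p, q))))
  let B' : c.msect M (d + k * (m₀ + N)) ⊤ := B
  refine ⟨m₀ + N, B', meq_of_cover (c.modTwist M (d + k * (m₀ + N))) (fun p : t => W p.1 ⊓ c.locus a)
    (fun _ => inf_le_right) (by rw [← iSup_inf_eq]; exact le_inf (le_top.trans hcov) le_rfl) fun p => ?_⟩
  show c.msectRes (inf_le_right : W p.1 ⊓ c.locus a ≤ c.locus a) (c.msectRes le_top B') =
    c.msectRes (inf_le_right : W p.1 ⊓ c.locus a ≤ c.locus a) (c.mraise a β (m₀ + N))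
  have e : c.msectRes (le_top : W p.1 ≤ ⊤) B' = c.msectCast hdeg (c.mraise a (b₀ p) N) := hB p
  have e' := congrArg (c.msectRes (inf_le_left : W p.1 ⊓ c.locus a ≤ W p.1)) e
  rw [c.msectRes_msectRes, c.msectRes_msectCast, c.msectRes_mraise, hb₀ p, c.mraise_mraise] at e'
  rw [c.msectRes_msectRes, e', c.msectRes_mraise]
  exact c.msect_ext fun l => rfl

/-- Extension with a uniform exponent, for every larger exponent. -/
theorem exists_mextend_uniform [CompactSpace X] [QuasiSeparatedSpace X] [M.IsQuasicoherent] {T : Type*}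
    [Finite T] (a : T → c.sect k ⊤) (β : ∀ t, c.msect M d (c.locus (a t))) :
    ∃ m₀ : ℕ, ∀ m, m₀ ≤ m → ∀ t, ∃ b : c.msect M (d + k * m) ⊤,
      c.msectRes (le_top : c.locus (a t) ≤ ⊤) b = c.mraise (a t) (β t) m := by
  classical
  haveI := Fintype.ofFinite T
  choose m₁ b₁ hb₁ using fun t => c.exists_mextend (a t) (β t)
  refine ⟨Finset.univ.sup m₁, fun m hm t => ?_⟩
  have hle : m₁ t + (m - m₁ t) = m := Nat.add_sub_cancel' ((Finset.le_sup (Finset.mem_univ t)).trans hm)
  refine ⟨c.msectCast (show d + k * m₁ t + k * (m - m₁ t) = d + k * m by rw [add_assoc, ← mul_add, hle])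
    (c.mraise (a t) (b₁ t) (m - m₁ t)), ?_⟩
  rw [c.msectRes_msectCast, c.msectRes_mraise, hb₁ t, c.mraise_mraise]
  exact c.msect_ext fun l => by simp only [msectCast_apply, mraise_apply, hle]

end Cocycle

end GrothLib.Ample
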