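import Groth.Prelude.Def_Twist2
import Groth.Agent.Lib.Ample.Frame

/-!
# `O(d)` on `Proj` of a graded algebra as a cocycle twist
-/

universe u

set_option backward.isDefEq.respectTransparency false

open AlgebraicGeometry CategoryTheory CategoryTheory.Limits TopologicalSpace Opposite
open GrothLib.InvExt (mres IsGen)

noncomputable section

namespace GrothLib.Ample.ProjTwist

variable {R A : Type u} [CommRing R] [CommRing A] [Algebra R A] (𝒜 : ℕ → Submodule R A) [GradedAlgebra 𝒜]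

theorem pow_mem {x : A} (hx : x ∈ 𝒜 1) (d : ℕ) : x ^ d ∈ 𝒜 d := by
  simpa using SetLike.pow_mem_graded d hx

theorem pow_notMem {x : A} (d : ℕ) {p : Proj 𝒜} (h : p ∈ Proj.basicOpen 𝒜 x) :
    x ^ d ∉ p.asHomogeneousIdeal.toIdeal :=
  fun hm => h (p.isPrime.mem_of_pow_mem d hm)

variable {𝒜}

/-- A fraction as a section of the structure sheaf. -/
def fracO {V : (Proj 𝒜).Opens} {j : ℕ} (a b : A) (ha : a ∈ 𝒜 j) (hb : b ∈ 𝒜 j)
    (nin : ∀ y : V, b ∉ y.1.asHomogeneousIdeal) : Γ(Proj 𝒜, V) :=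
  ⟨fun y => HomogeneousLocalization.mk ⟨j, ⟨a, ha⟩, ⟨b, hb⟩, nin y⟩,
    fun y => ⟨V, y.2, 𝟙 _, j, ⟨a, ha⟩, ⟨b, hb⟩, nin, fun _ => rfl⟩⟩

/-- The value of a section of the structure sheaf at a point, in the localization. -/
def ev {V : (Proj 𝒜).Opens} (y : V) (r : Γ(Proj 𝒜, V)) : Twist.Loc 𝒜 y.1 :=
  ((show Twist.O (op V) from r).1 y).val

/-- The value of a section of a twist at a point, in the localization. -/
def evT {n : ℤ} {V : (Proj 𝒜).Opens} (y : V) (m : Γ(Twist.twist 𝒜 n, V)) : Twist.Loc 𝒜 y.1 :=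
  ((show Twist.sectN n (op V) from m).1 y).1

theorem ev_fracO {V : (Proj 𝒜).Opens} {j : ℕ} (a b : A) (ha : a ∈ 𝒜 j) (hb : b ∈ 𝒜 j)
    (nin : ∀ y : V, b ∉ y.1.asHomogeneousIdeal) (y : V) :
    ev y (fracO a b ha hb nin) = Localization.mk a ⟨b, nin y⟩ :=
  HomogeneousLocalization.val_mk _

theorem ev_ext {V : (Proj 𝒜).Opens} {r r' : Γ(Proj 𝒜, V)} (h : ∀ y, ev y r = ev y r') : r = r' :=
  Subtype.ext (funext fun y => HomogeneousLocalization.val_injective _ (h y))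

theorem evT_ext {n : ℤ} {V : (Proj 𝒜).Opens} {m m' : Γ(Twist.twist 𝒜 n, V)} (h : ∀ y, evT y m = evT y m') :
    m = m' :=
  Subtype.ext (funext fun y => Subtype.ext (h y))

theorem ev_res {V W : (Proj 𝒜).Opens} (h : W ≤ V) (r : Γ(Proj 𝒜, V)) (y : W) :
    ev y (res h r) = ev ⟨y.1, h y.2⟩ r := rfl

theorem ev_mul {V : (Proj 𝒜).Opens} (r r' : Γ(Proj 𝒜, V)) (y : V) : ev y (r * r') = ev y r * ev y r' :=
  HomogeneousLocalization.val_mul _ _

theorem ev_one {V : (Proj 𝒜).Opens} (y : V) : ev y (1 : Γ(Proj 𝒜, V)) = 1 :=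
  HomogeneousLocalization.val_one

theorem ev_pow {V : (Proj 𝒜).Opens} (r : Γ(Proj 𝒜, V)) (d : ℕ) (y : V) : ev y (r ^ d) = ev y r ^ d :=
  HomogeneousLocalization.val_pow _ _

theorem evT_mres {n : ℤ} {V W : (Proj 𝒜).Opens} (h : W ≤ V) (m : Γ(Twist.twist 𝒜 n, V)) (y : W) :
    evT y (mres (Twist.twist 𝒜 n) h m) = evT ⟨y.1, h y.2⟩ m := rfl

theorem evT_smul {n : ℤ} {V : (Proj 𝒜).Opens} (r : Γ(Proj 𝒜, V)) (m : Γ(Twist.twist 𝒜 n, V)) (y : V) :
    evT y (r • m) = ev y r * evT y m :=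
  Twist.coe_smul_val n y.1 _ _

variable (𝒜) in
/-- The section `a` of `O(d)`. -/
def gsec {d : ℕ} (a : A) (ha : a ∈ 𝒜 d) : Γ(Twist.twist 𝒜 (d : ℤ), ⊤) := Twist.globalOf 𝒜 ⟨a, ha⟩

theorem evT_gsec {d : ℕ} (a : A) (ha : a ∈ 𝒜 d) (y : (⊤ : (Proj 𝒜).Opens)) :
    evT y (gsec 𝒜 a ha) = algebraMap A _ a := by
  rw [← Localization.mk_one_eq_algebraMap]
  rfl

theorem isGen_gsec {x : A} (hx : x ∈ 𝒜 1) (d : ℕ) :
    IsGen (Twist.twist 𝒜 (d : ℤ)) (Proj.basicOpen 𝒜 x)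
      (mres (Twist.twist 𝒜 (d : ℤ)) le_top (gsec 𝒜 (x ^ d) (pow_mem 𝒜 hx d))) := by
  intro W hW
  have hu : ∀ y : W, IsUnit (algebraMap A (Twist.Loc 𝒜 y.1) (x ^ d)) := fun y =>
    IsLocalization.map_units _ (⟨x ^ d, pow_notMem 𝒜 d (hW y.2)⟩ : y.1.asHomogeneousIdeal.toIdeal.primeCompl)
  have hv : ∀ (r : Γ(Proj 𝒜, W)) (y : W), evT y (r • mres (Twist.twist 𝒜 (d : ℤ)) hW
      (mres (Twist.twist 𝒜 (d : ℤ)) le_top (gsec 𝒜 (x ^ d) (pow_mem 𝒜 hx d)))) =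
      ev y r * algebraMap A _ (x ^ d) := fun r y => by
    rw [evT_smul, evT_mres, evT_mres, evT_gsec]
  constructor
  · intro r r' h
    refine ev_ext fun y => (hu y).mul_left_injective ?_
    have := congrArg (evT y) h
    rwa [hv, hv] at this
  · intro m
    let m' : Twist.sectN (d : ℤ) (op W) := m
    have hloc : ∀ y : W, ∃ (V : (Proj 𝒜).Opens) (_ : y.1 ∈ V) (hV : V ≤ W) (i : ℕ) (a s : A)
        (ha : a ∈ 𝒜 i) (hs : s ∈ 𝒜 i) (nin : ∀ z : V, s ∉ z.1.asHomogeneousIdeal),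
        ∀ z : V, (HomogeneousLocalization.mk
          (⟨i, ⟨a, ha⟩, ⟨s, hs⟩, nin z⟩ : HomogeneousLocalization.NumDenSameDeg 𝒜 z.1.asHomogeneousIdeal.toIdeal.primeCompl)).val *
            algebraMap A _ (x ^ d) = evT ⟨z.1, hV z.2⟩ m := by
      intro y
      obtain ⟨V, hyV, iV, p, q, ⟨a, ha⟩, ⟨s, hs⟩, nin, hdeg, hw⟩ := m'.2 y
      replace hdeg : (p : ℤ) = q + d ∨ a = 0 := hdeg
      by_cases ha0 : a = 0
      · refine ⟨V, hyV, leOfHom iV, 0, 0, 1, zero_mem _, SetLike.GradedOne.one_mem,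
          fun z h => z.1.isPrime.ne_top ((Ideal.eq_top_iff_one _).mpr h), fun z => ?_⟩
        refine Eq.trans ?_ (hw z).symm
        subst ha0
        rw [HomogeneousLocalization.val_mk, Localization.mk_zero, zero_mul, Localization.mk_zero]
      · have hpq : p = q + d := by
          have := hdeg.resolve_right ha0; omega
        subst hpq
        refine ⟨V, hyV, leOfHom iV, q + d, a, s * x ^ d, ha, SetLike.mul_mem_graded hs (pow_mem 𝒜 hx d),
          fun z h => (z.1.isPrime.mem_or_mem h).elim (nin z) (pow_notMem 𝒜 d (hW (leOfHom iV z.2))), fun z => ?_⟩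
        refine Eq.trans ?_ (hw z).symm
        rw [HomogeneousLocalization.val_mk, ← Localization.mk_one_eq_algebraMap, Localization.mk_mul,
          Localization.mk_eq_mk_iff, Localization.r_iff_exists]
        exact ⟨1, by simp only [OneMemClass.coe_one, one_mul, Submonoid.coe_mul, mul_one]; ring⟩
    choose V hyV hVW i a s ha hs nin hval using hloc
    let r : ∀ y : W, Twist.A0 𝒜 y.1 := fun y =>
      HomogeneousLocalization.mk ⟨i y, ⟨a y, ha y⟩, ⟨s y, hs y⟩, nin y ⟨y.1, hyV y⟩⟩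
    refine ⟨⟨r, fun y => ⟨V y, hyV y, homOfLE (hVW y), i y, ⟨a y, ha y⟩, ⟨s y, hs y⟩, nin y, fun z => ?_⟩⟩, ?_⟩
    · refine HomogeneousLocalization.val_injective _ ((hu ⟨z.1, hVW y z.2⟩).mul_left_injective ?_)
      exact (hval _ ⟨z.1, hyV ⟨z.1, hVW y z.2⟩⟩).trans (hval y z).symm
    · refine evT_ext fun y => ?_
      refine (hv _ y).trans ?_
      exact hval y ⟨y.1, hyV y⟩

variable (𝒜) {ι : Type u} (x : ι → A) (hx : ∀ i, x i ∈ 𝒜 1) (hcov : ⨆ i, Proj.basicOpen 𝒜 (x i) = ⊤)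

/-- The cocycle of the ratios `x j / x i`. -/
def cocycle : Cocycle (Proj 𝒜) where
  ι := ι
  D i := Proj.basicOpen 𝒜 (x i)
  g i j := fracO (x j) (x i) (hx j) (hx i) fun y => y.2.1
  cover := hcov
  self i W h := by
    refine ev_ext fun y => ?_
    rw [ev_res, ev_fracO, ev_one]
    exact Localization.mk_self (⟨x i, h y.2⟩ : y.1.asHomogeneousIdeal.toIdeal.primeCompl)
  change i j k W hi hj hk := by
    refine ev_ext fun y => ?_
    rw [ev_mul, ev_res, ev_res, ev_res, ev_fracO, ev_fracO, ev_fracO, Localization.mk_mul,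
      Localization.mk_eq_mk_iff, Localization.r_iff_exists]
    exact ⟨1, by simp only [OneMemClass.coe_one, one_mul, Submonoid.coe_mul]; ring⟩

theorem ev_G (i j : ι) {W : (Proj 𝒜).Opens} (hi : W ≤ (cocycle 𝒜 x hx hcov).D i)
    (hj : W ≤ (cocycle 𝒜 x hx hcov).D j) (y : W) :
    ev y ((cocycle 𝒜 x hx hcov).G i j hi hj) = Localization.mk (x j) ⟨x i, hi y.2⟩ :=
  (ev_res _ _ _).trans (ev_fracO _ _ _ _ _ _)

/-- The generator of `O(d)` on a chart. -/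
def gen (d : ℕ) (i : ι) : Γ(Twist.twist 𝒜 (d : ℤ), (cocycle 𝒜 x hx hcov).D i) :=
  mres (Twist.twist 𝒜 (d : ℤ)) le_top (gsec 𝒜 (x i ^ d) (pow_mem 𝒜 (hx i) d))

theorem isFamily_gen (d : ℕ) : (cocycle 𝒜 x hx hcov).IsFamily d (gen 𝒜 x hx hcov d) := by
  intro i j W hi hj
  refine evT_ext fun y => ?_
  rw [evT_smul, ev_pow, ev_G, gen, gen, evT_mres, evT_mres, evT_mres, evT_mres, evT_gsec, evT_gsec,
    ← Localization.mk_one_eq_algebraMap, ← Localization.mk_one_eq_algebraMap, Localization.mk_pow,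
    Localization.mk_mul, Localization.mk_eq_mk_iff, Localization.r_iff_exists]
  exact ⟨1, by simp only [OneMemClass.coe_one, one_mul, Submonoid.coe_mul, SubmonoidClass.coe_pow]; ring⟩

/-- The comparison map. -/
def toTwist (d : ℕ) : (cocycle 𝒜 x hx hcov).twist d ⟶ Twist.twist 𝒜 (d : ℤ) :=
  (cocycle 𝒜 x hx hcov).homOfFamily (isFamily_gen 𝒜 x hx hcov d)

theorem toTwist_base (d : ℕ) (i : ι) :
    (toTwist 𝒜 x hx hcov d).app ((cocycle 𝒜 x hx hcov).D i)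
      ((cocycle 𝒜 x hx hcov).base d i le_rfl) = gen 𝒜 x hx hcov d i := by
  refine ((cocycle 𝒜 x hx hcov).homOfFamily_base (isFamily_gen 𝒜 x hx hcov d) i le_rfl).trans ?_
  exact InvExt.mres_self _ _

instance isIso_toTwist (d : ℕ) : IsIso (toTwist 𝒜 x hx hcov d) :=
  (cocycle 𝒜 x hx hcov).isIso_homOfFamily _ fun i => isGen_gsec (hx i) d

include hx hcov in
theorem isInvertible_twist (d : ℕ) : PicF.IsInvertible (Twist.twist 𝒜 (d : ℤ)) :=
  InvExt.isInvertible_of_gens fun p => by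
    obtain ⟨i, hi⟩ := Opens.mem_iSup.mp (hcov ▸ Opens.mem_top p : p ∈ ⨆ i, Proj.basicOpen 𝒜 (x i))
    exact ⟨_, _, hi, isGen_gsec (hx i) d⟩

end GrothLib.Ample.ProjTwist
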