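import Groth.Agent.Lib.Ample.Functorial

/-!
# Cocycles on disjoint unions
-/

universe u

set_option backward.isDefEq.respectTransparency false

open AlgebraicGeometry CategoryTheory CategoryTheory.Limits TopologicalSpace Opposite
open GrothLib.InvExt (mres IsGen)

noncomputable section

namespace GrothLib.Ample

variable {X Y Z : Scheme.{u}}

namespace Cocycle

variable (c c' : Cocycle X)

/-- A cocycle finer than another one presents the same module. -/
theorem nonempty_refine_iso (σ : c.ι → c'.ι) (hD : ∀ i, c.D i ≤ c'.D (σ i))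
    (hG : ∀ (i k : c.ι) (W : X.Opens) (hi : W ≤ c.D i) (hk : W ≤ c.D k),
      c.G i k hi hk = c'.G (σ i) (σ k) (hi.trans (hD i)) (hk.trans (hD k))) (n : ℕ) :
    Nonempty (c.twist n ≅ c'.twist n) := by
  let m : ∀ i, Γ(c'.twist n, c.D i) := fun i => c'.base n (σ i) (hD i)
  have hm : c.IsFamily n m := by
    intro i k W hi hk
    show c'.sectRes hk (c'.base n (σ k) (hD k)) = _ ^ n • c'.sectRes hi (c'.base n (σ i) (hD i))
    rw [c'.sectRes_base, c'.sectRes_base, hG]
    exact c'.base_eq_smul_base n (σ i) (σ k) _ _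
  haveI := c.isIso_homOfFamily hm fun i => c'.isGen_base n (σ i) (hD i)
  exact ⟨asIso (c.homOfFamily hm)⟩

end Cocycle

section Push

variable (j : Y ⟶ X) [IsOpenImmersion j] (c : Cocycle Y)

theorem exists_imageG (i k : c.ι) : ∃ g : Γ(X, j ''ᵁ c.D i ⊓ j ''ᵁ c.D k),
    (j.appLE (j ''ᵁ c.D i ⊓ j ''ᵁ c.D k) (c.D i ⊓ c.D k) (le_inf (inf_le_left.trans (j.preimage_image_eq (c.D i)).ge)
      (inf_le_right.trans (j.preimage_image_eq (c.D k)).ge))).hom g = c.g i k :=
  (bijective_appLE_of_eq j (inf_le_left.trans (j.image_le_opensRange _))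
    (by rw [Scheme.Hom.preimage_inf, j.preimage_image_eq, j.preimage_image_eq])).2 (c.g i k)

/-- The transition function of a cocycle, transported to the image. -/
def imageG (i k : c.ι) : Γ(X, j ''ᵁ c.D i ⊓ j ''ᵁ c.D k) := (exists_imageG j c i k).choose

theorem appLE_imageG (i k : c.ι) {W : Y.Opens} (hi : W ≤ c.D i) (hk : W ≤ c.D k)
    (e : W ≤ j ⁻¹ᵁ (j ''ᵁ c.D i ⊓ j ''ᵁ c.D k)) :
    (j.appLE _ W e).hom (imageG j c i k) = c.G i k hi hk := by
  have h := congrArg (res (le_inf hi hk)) (exists_imageG j c i k).choose_spec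
  rw [res_appLE] at h
  exact h

theorem imageG_self (i : c.ι) {W : X.Opens} (h : W ≤ j ''ᵁ c.D i) :
    res (le_inf h h) (imageG j c i i) = 1 := by
  have hW : j ⁻¹ᵁ W ≤ c.D i := (j.preimage_mono h).trans (j.preimage_image_eq _).le
  refine (bijective_appLE_of_eq j (h.trans (j.image_le_opensRange _)) rfl).1 ?_
  rw [appLE_res, appLE_imageG j c i i hW hW, c.G_self, map_one]

theorem imageG_trans (i k l : c.ι) {W : X.Opens} (hi : W ≤ j ''ᵁ c.D i) (hk : W ≤ j ''ᵁ c.D k)
    (hl : W ≤ j ''ᵁ c.D l) :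
    res (le_inf hi hl) (imageG j c i l) =
      res (le_inf hi hk) (imageG j c i k) * res (le_inf hk hl) (imageG j c k l) := by
  have hi' : j ⁻¹ᵁ W ≤ c.D i := (j.preimage_mono hi).trans (j.preimage_image_eq _).le
  have hk' : j ⁻¹ᵁ W ≤ c.D k := (j.preimage_mono hk).trans (j.preimage_image_eq _).le
  have hl' : j ⁻¹ᵁ W ≤ c.D l := (j.preimage_mono hl).trans (j.preimage_image_eq _).le
  refine (bijective_appLE_of_eq j (hi.trans (j.image_le_opensRange _)) rfl).1 ?_
  rw [map_mul, appLE_res, appLE_res, appLE_res, appLE_imageG j c i l hi' hl', appLE_imageG j c i k hi' hk',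
    appLE_imageG j c k l hk' hl', ← c.G_trans]

end Push

variable {X' : Scheme.{u}} (c₁ : Cocycle X) (c₂ : Cocycle X')

theorem image_inl_inf_image_inr (A : X.Opens) (B : X'.Opens) :
    (coprod.inl : X ⟶ X ⨿ X') ''ᵁ A ⊓ (coprod.inr : X' ⟶ X ⨿ X') ''ᵁ B = ⊥ := by
  rw [eq_bot_iff]
  rintro z ⟨⟨a, -, ha⟩, ⟨b, -, hb⟩⟩
  exact absurd (ha.trans hb.symm) (inl_ne_inr X X' a b)

theorem subsingleton_of_le_bot {W : X.Opens} (h : W ≤ ⊥) : Subsingleton Γ(X, W) := by
  rw [le_bot_iff.mp h]; infer_instance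

/-- The cocycle on a disjoint union. -/
def coprodCocycle : Cocycle (X ⨿ X') where
  ι := c₁.ι ⊕ c₂.ι
  D p := p.elim (fun i => (coprod.inl : X ⟶ X ⨿ X') ''ᵁ c₁.D i) (fun i => (coprod.inr : X' ⟶ X ⨿ X') ''ᵁ c₂.D i)
  g p q := match p, q with
    | .inl i, .inl k => imageG coprod.inl c₁ i k
    | .inr i, .inr k => imageG coprod.inr c₂ i k
    | .inl _, .inr _ => 1
    | .inr _, .inl _ => 1
  cover := eq_top_iff.mpr fun z _ => by
    obtain ⟨(x | x), rfl⟩ := (coprodMk X X').surjective z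
    · obtain ⟨i, hi⟩ := c₁.exists_mem x
      exact Opens.mem_iSup.mpr ⟨.inl i, by rw [coprodMk_inl]; exact ⟨x, hi, rfl⟩⟩
    · obtain ⟨i, hi⟩ := c₂.exists_mem x
      exact Opens.mem_iSup.mpr ⟨.inr i, by rw [coprodMk_inr]; exact ⟨x, hi, rfl⟩⟩
  self p W h := by
    rcases p with i | i
    · exact imageG_self _ c₁ i h
    · exact imageG_self _ c₂ i h
  change p q r W hp hq hr := by
    have hbot : ∀ (a : c₁.ι) (b : c₂.ι), W ≤ (coprod.inl : X ⟶ X ⨿ X') ''ᵁ c₁.D a →
        W ≤ (coprod.inr : X' ⟶ X ⨿ X') ''ᵁ c₂.D b → ∀ x y : Γ((X ⨿ X' : Scheme.{u}), W), x = y := fun a b ha hb => by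
      haveI := subsingleton_of_le_bot ((le_inf ha hb).trans (image_inl_inf_image_inr (c₁.D a) (c₂.D b)).le)
      exact fun x y => Subsingleton.elim x y
    rcases p with i | i <;> rcases q with k | k
    · rcases r with l | l
      · exact imageG_trans _ c₁ i k l hp hq hr
      · exact hbot i l hp hr _ _
    · exact hbot i k hp hq _ _
    · exact hbot k i hq hp _ _
    · rcases r with l | l
      · exact hbot l i hr hp _ _
      · exact imageG_trans _ c₂ i k l hp hq hr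

theorem nonempty_pullback_inl (n : ℕ) :
    Nonempty ((Scheme.Modules.pullback (coprod.inl : X ⟶ X ⨿ X')).obj ((coprodCocycle c₁ c₂).twist n) ≅
      c₁.twist n) := by
  obtain ⟨e⟩ := (coprodCocycle c₁ c₂).nonempty_pullback_twist (coprod.inl : X ⟶ X ⨿ X') n
  obtain ⟨e'⟩ := c₁.nonempty_refine_iso ((coprodCocycle c₁ c₂).comap (coprod.inl : X ⟶ X ⨿ X')) Sum.inl
    (fun i => (Scheme.Hom.preimage_image_eq _ (c₁.D i)).ge) (fun i k W hi hk => by
      rw [Cocycle.comap_G]
      exact (appLE_imageG _ c₁ i k hi hk _).symm) n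
  exact ⟨e ≪≫ e'.symm⟩

theorem nonempty_pullback_inr (n : ℕ) :
    Nonempty ((Scheme.Modules.pullback (coprod.inr : X' ⟶ X ⨿ X')).obj ((coprodCocycle c₁ c₂).twist n) ≅
      c₂.twist n) := by
  obtain ⟨e⟩ := (coprodCocycle c₁ c₂).nonempty_pullback_twist (coprod.inr : X' ⟶ X ⨿ X') n
  obtain ⟨e'⟩ := c₂.nonempty_refine_iso ((coprodCocycle c₁ c₂).comap (coprod.inr : X' ⟶ X ⨿ X')) Sum.inr
    (fun i => (Scheme.Hom.preimage_image_eq _ (c₂.D i)).ge) (fun i k W hi hk => by
      rw [Cocycle.comap_G]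
      exact (appLE_imageG _ c₂ i k hi hk _).symm) n
  exact ⟨e ≪≫ e'.symm⟩

end GrothLib.Ample
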