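import Groth.Agent.Lib.Ample.Generation
import Groth.Agent.Lib.Ample.Coprod

/-!
# Ampleness and generation of high twists
-/

universe u

set_option backward.isDefEq.respectTransparency false

open AlgebraicGeometry CategoryTheory CategoryTheory.Limits TopologicalSpace Opposite
open GrothLib.InvExt (mres)

noncomputable section

namespace GrothLib.Ample

variable {X : Scheme.{u}}

namespace Cocycle

variable (c c' : Cocycle X) {n : ℕ}

/-- A pointwise generated twist is globally generated. -/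
theorem isGloballyGenerated_of_generated (h : ∀ x : X, ∃ B : c.sect n ⊤, x ∈ c.locus B) :
    Curv2.IsGloballyGenerated (c.twist n) := by
  refine isGloballyGenerated_of_local _ fun O (m : c.sect n O) x hx => ?_
  obtain ⟨B, hB⟩ := h x
  let W := O ⊓ c.locus B
  obtain ⟨(r : Γ(X, W)), hr⟩ := (c.bijective_hom_app B (inf_le_right : W ≤ c.locus B)).2 (c.sectRes inf_le_left m)
  refine ⟨W, inf_le_left, ⟨hx, hB⟩, ?_⟩
  show c.sectRes inf_le_left m ∈
    Submodule.span Γ(X, W) (Set.range fun s : c.sect n ⊤ => c.sectRes (le_top : W ≤ ⊤) s)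
  have e : c.sectRes (inf_le_left : W ≤ O) m = r • c.sectRes (le_top : W ≤ ⊤) B :=
    hr.symm.trans (c.hom_app_apply B W r)
  rw [e]
  exact Submodule.smul_mem _ _ (Submodule.subset_span ⟨B, rfl⟩)

theorem nonempty_prod_pow_iso (n : ℕ) :
    Nonempty (((c.pow (n + 1)).prod c').twist 1 ≅ (c.prod ((c.pow n).prod c')).twist 1) := by
  refine ((c.pow (n + 1)).prod c').nonempty_refine_iso (c.prod ((c.pow n).prod c')) (fun p => (p.1, (p.1, p.2)))
    (fun p => le_inf inf_le_left (le_inf inf_le_left inf_le_right))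
    (fun (p : c.ι × c'.ι) (q : c.ι × c'.ι) W hp hq => ?_) 1
  erw [prod_G, prod_G, prod_G, pow_G, pow_G]
  rw [pow_succ', mul_assoc]

/-- High powers of an ample cocycle times any cocycle are ample. -/
theorem eventually_isAmple_prod [CompactSpace X] (hc : c.IsAmp) :
    ∃ n₀ : ℕ, ∀ n, n₀ ≤ n → CohB1.IsAmple (((c.pow n).prod c').twist 1) ∧
      Curv2.IsGloballyGenerated (((c.pow n).prod c').twist 1) := by
  obtain ⟨n₀, h⟩ := c.eventually_isGenerated c' hc
  refine ⟨n₀ + 1, fun n hn => ⟨?_, isGloballyGenerated_of_generated _ (h n (by omega))⟩⟩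
  obtain ⟨l, rfl⟩ : ∃ l, n = l + 1 := ⟨n - 1, by omega⟩
  obtain ⟨e⟩ := c.nonempty_prod_pow_iso c' l
  exact ((c.prod ((c.pow l).prod c')).isAmple_iff e).mpr ⟨inferInstance,
    c.isAmp_prod _ hc fun x => ⟨0, h l (by omega) x⟩⟩

end Cocycle

end GrothLib.Ample
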