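import Groth.Agent.Lib.Ample.Tensor

/-!
# Pulling back coordinate ratios
-/

universe u

set_option backward.isDefEq.respectTransparency false

open AlgebraicGeometry CategoryTheory CategoryTheory.Limits TopologicalSpace Opposite

noncomputable section

namespace GrothLib.Ample

variable {X Y : Scheme.{u}}

theorem appLE_res (j : Y ⟶ X) {U U' : X.Opens} {V : Y.Opens} (h : U' ≤ U) (e : V ≤ j ⁻¹ᵁ U') (a : Γ(X, U)) :
    (j.appLE U' V e).hom (res h a) = (j.appLE U V (e.trans (j.preimage_mono h))).hom a := by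
  rw [res, ← CommRingCat.comp_apply, Scheme.Hom.map_appLE]

theorem res_appLE (j : Y ⟶ X) {U : X.Opens} {V V' : Y.Opens} (h : V' ≤ V) (e : V ≤ j ⁻¹ᵁ U) (a : Γ(X, U)) :
    res h ((j.appLE U V e).hom a) = (j.appLE U V' (h.trans e)).hom a := by
  rw [res, ← CommRingCat.comp_apply, Scheme.Hom.appLE_map]

theorem bijective_appLE_of_eq (j : Y ⟶ X) [IsOpenImmersion j] {U : X.Opens} {V : Y.Opens}
    (hU : U ≤ j.opensRange) (hV : V = j ⁻¹ᵁ U) :
    Function.Bijective (j.appLE U V hV.le).hom := by
  haveI : IsIso (j.app U) := j.isIso_app _ hU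
  haveI : IsIso (Y.presheaf.map (homOfLE hV.le).op) := by
    rw [show (homOfLE hV.le).op = eqToHom (congrArg op hV.symm) from Subsingleton.elim _ _]
    infer_instance
  exact (ConcreteCategory.isIso_iff_bijective (j.app U ≫ Y.presheaf.map (homOfLE hV.le).op)).mp inferInstance

namespace LineData

variable {N : ℕ} (c : LineData X N)

/-- Pullback of coordinate ratios along a morphism. -/
def comap (j : Y ⟶ X) : LineData Y N where
  D i := j ⁻¹ᵁ c.D i
  x i k := (j.appLE (c.D i) (j ⁻¹ᵁ c.D i) le_rfl).hom (c.x i k)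
  cover := by rw [← Scheme.Hom.preimage_iSup, c.cover, Scheme.Hom.preimage_top]
  self i := by rw [c.self, map_one]
  basic i k := by
    rw [Scheme.basicOpen_appLE, c.basic, Scheme.Hom.preimage_inf]
    exact le_antisymm inf_le_right (le_inf inf_le_left le_rfl)
  change i k l := by
    have e : j ⁻¹ᵁ c.D i ⊓ j ⁻¹ᵁ c.D k ≤ j ⁻¹ᵁ (c.D i ⊓ c.D k) := le_rfl
    have h := congrArg (j.appLE _ _ e).hom (c.change i k l)
    simp only [map_mul, appLE_res] at h
    simp only [res_appLE]
    exact h

theorem comap_D (j : Y ⟶ X) (i : Fin (N + 1)) : (c.comap j).D i = j ⁻¹ᵁ c.D i := rfl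

/-- Pullback of families along a morphism. -/
def pullSect (j : Y ⟶ X) {n : ℕ} {U : X.Opens} {V : Y.Opens} (h : V ≤ j ⁻¹ᵁ U) :
    c.sect n U →+ (c.comap j).sect n V where
  toFun a := ⟨fun i => (j.appLE (U ⊓ c.D i) (V ⊓ j ⁻¹ᵁ c.D i) (inf_le_inf_right _ h)).hom (a.1 i),
    fun i k W hi hk => by
      have hW : W ≤ j ⁻¹ᵁ ((U ⊓ c.D i) ⊓ (U ⊓ c.D k)) :=
        le_inf (hi.trans (inf_le_inf_right _ h)) (hk.trans (inf_le_inf_right _ h))
      have e := congrArg (j.appLE _ _ hW).hom
        (c.sect_spec a i k (inf_le_left : (U ⊓ c.D i) ⊓ (U ⊓ c.D k) ≤ _) inf_le_right)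
      simp only [map_mul, map_pow, appLE_res] at e
      simp only [comap, res_appLE]
      exact e⟩
  map_zero' := (c.comap j).sect_ext fun i => map_zero (j.appLE _ _ _).hom
  map_add' a b := (c.comap j).sect_ext fun i => map_add (j.appLE _ _ _).hom _ _

theorem pullSect_apply (j : Y ⟶ X) {n : ℕ} {U : X.Opens} {V : Y.Opens} (h : V ≤ j ⁻¹ᵁ U)
    (a : c.sect n U) (i : Fin (N + 1)) :
    (c.pullSect j h a).1 i =
      (j.appLE (U ⊓ c.D i) (V ⊓ j ⁻¹ᵁ c.D i) (inf_le_inf_right _ h)).hom (a.1 i) := rfl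

theorem pullSect_smul (j : Y ⟶ X) {n : ℕ} {U : X.Opens} {V : Y.Opens} (h : V ≤ j ⁻¹ᵁ U)
    (r : Γ(X, U)) (a : c.sect n U) :
    c.pullSect j h (r • a) = (j.appLE U V h).hom r • c.pullSect j h a := by
  refine (c.comap j).sect_ext fun i => ?_
  simp only [pullSect_apply, smul_apply, map_mul, appLE_res, res_appLE]
  rfl

theorem le_preimage_image (j : Y ⟶ X) [IsOpenImmersion j] (V : Y.Opens) : V ≤ j ⁻¹ᵁ (j ''ᵁ V) :=
  (j.preimage_image_eq V).ge

/-- Restriction of a twist along an open immersion, to the twist of the pulled-back ratios. -/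
def restrictHom (j : Y ⟶ X) [IsOpenImmersion j] (n : ℕ) : (c.twist n).restrict j ⟶ (c.comap j).twist n :=
  ⟨{
    app := fun V => ModuleCat.ofHom
      (X := (((c.twist n).restrict j).val.obj V : Type u))
      (Y := (((c.comap j).twist n).val.obj V : Type u))
      { toFun := fun (a : c.sect n (j ''ᵁ V.unop)) => c.pullSect j (le_preimage_image j V.unop) a
        map_add' := fun a b => map_add (c.pullSect j (le_preimage_image j V.unop)) a b
        map_smul' := fun (r : Γ(Y, V.unop)) (a : c.sect n (j ''ᵁ V.unop)) => by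
          have h1 : (j.appLE (j ''ᵁ V.unop) V.unop (le_preimage_image j V.unop)).hom
              ((j.appIso V.unop).inv.hom r) = r := by
            rw [← CommRingCat.comp_apply, Scheme.Hom.appLE, Scheme.Hom.appIso_inv_app_assoc, ← Functor.map_comp]
            rw [show (eqToHom _).op ≫ (homOfLE _).op = 𝟙 (op V.unop) from Subsingleton.elim _ _,
              CategoryTheory.Functor.map_id]
            rfl
          refine (c.pullSect_smul j (le_preimage_image j V.unop) ((j.appIso V.unop).inv.hom r) a).trans ?_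
          rw [h1]
          rfl }
    naturality := fun {V W} f => by
      ext (a : c.sect n (j ''ᵁ V.unop))
      refine (c.comap j).sect_ext fun i => ?_
      exact (appLE_res j (inf_le_inf_right _ (j.image_mono (leOfHom f.unop)))
        (inf_le_inf_right _ (le_preimage_image j W.unop)) _).trans
        (res_appLE j (inf_le_inf_right _ (leOfHom f.unop))
          (inf_le_inf_right _ (le_preimage_image j V.unop)) _).symm }⟩

theorem bijective_pullSect (j : Y ⟶ X) [IsOpenImmersion j] {n : ℕ} (V : Y.Opens) :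
    Function.Bijective (c.pullSect (n := n) j (le_preimage_image j V)) := by
  have hb : ∀ i : Fin (N + 1), Function.Bijective
      (j.appLE (j ''ᵁ V ⊓ c.D i) (V ⊓ j ⁻¹ᵁ c.D i) (inf_le_inf_right _ (le_preimage_image j V))).hom :=
    fun i => bijective_appLE_of_eq j (inf_le_left.trans (j.image_le_opensRange V))
      (by rw [Scheme.Hom.preimage_inf, j.preimage_image_eq])
  constructor
  · intro a b h
    exact c.sect_ext fun i => (hb i).1 (congrArg (fun t : (c.comap j).sect n V => t.1 i) h)
  · intro t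
    choose a ha using fun i => (hb i).2 (t.1 i)
    refine ⟨⟨a, fun i k W hi hk => ?_⟩, (c.comap j).sect_ext ha⟩
    have hWr : W ≤ j.opensRange := hi.trans (inf_le_left.trans (j.image_le_opensRange V))
    apply (bijective_appLE_of_eq j hWr rfl).1
    have hW' : j ⁻¹ᵁ W ≤ V ⊓ j ⁻¹ᵁ c.D i := by
      refine (j.preimage_mono hi).trans ?_
      rw [Scheme.Hom.preimage_inf, j.preimage_image_eq]
    have hW'' : j ⁻¹ᵁ W ≤ V ⊓ j ⁻¹ᵁ c.D k := by
      refine (j.preimage_mono hk).trans ?_
      rw [Scheme.Hom.preimage_inf, j.preimage_image_eq]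
    have h := (c.comap j).sect_spec t i k hW' hW''
    rw [← ha i, ← ha k] at h
    simp only [comap, res_appLE] at h
    simp only [map_mul, map_pow, appLE_res]
    exact h

theorem isIso_restrictHom (j : Y ⟶ X) [IsOpenImmersion j] (n : ℕ) : IsIso (c.restrictHom j n) := by
  rw [Scheme.Modules.Hom.isIso_iff_isIso_app]
  intro V
  rw [ConcreteCategory.isIso_iff_bijective]
  exact c.bijective_pullSect j V

/-- Restriction of a twist along an open immersion. -/
def restrictIso (j : Y ⟶ X) [IsOpenImmersion j] (n : ℕ) : (c.twist n).restrict j ≅ (c.comap j).twist n :=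
  haveI := c.isIso_restrictHom j n
  asIso (c.restrictHom j n)

end LineData

end GrothLib.Ample
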