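import Groth.Prelude.Def_ProjUP
import Groth.Agent.Lib.ProjPt.Basic
import Groth.Agent.Lib.Ample.ProjTwist
import Groth.Agent.Lib.Ample.Comap

/-!
# Morphisms to projective space over a ring given by ratios on a cover
-/

universe u

set_option backward.isDefEq.respectTransparency false

open AlgebraicGeometry CategoryTheory CategoryTheory.Limits TopologicalSpace Opposite MvPolynomial
  HomogeneousLocalization
open GrothLib.InvExt (mres IsGen)

noncomputable section

namespace GrothLib.Ample.ProjMap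

variable {n : ℕ} {R : Type u} [CommRing R]

local notation "P" => CohB1.polyGrading n R

theorem X_mem (i : Fin (n + 1)) : (X i : MvPolynomial (Fin (n + 1)) R) ∈ P 1 := isHomogeneous_X R i

variable (n R) in
theorem iSup_basicOpen_X :
    ⨆ i : Fin (n + 1), Proj.basicOpen (CohB1.polyGrading n R) (X i) = ⊤ := by
  refine Proj.iSup_basicOpen_eq_top' (CohB1.polyGrading n R) (fun i => X i)
    (fun i => ⟨1, X_mem i⟩) (top_le_iff.mp fun p _ => ?_)
  induction p using MvPolynomial.induction_on with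
  | C r => exact Subalgebra.algebraMap_mem _ (⟨C r, isHomogeneous_C _ r⟩ : CohB1.polyGrading n R 0)
  | add p q hp hq => exact add_mem (hp trivial) (hq trivial)
  | mul_X p i hp => exact mul_mem (hp trivial) (Algebra.subset_adjoin ⟨i, rfl⟩)

theorem eval₂_mul_of_isHomogeneous {S : Type*} [CommRing S] (f : R →+* S) (c : S) (g : Fin (n + 1) → S)
    {m : ℕ} {a : MvPolynomial (Fin (n + 1)) R} (ha : a.IsHomogeneous m) :
    eval₂ f (fun k => c * g k) a = c ^ m * eval₂ f g a := by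
  rw [eval₂_eq, eval₂_eq, Finset.mul_sum]
  refine Finset.sum_congr rfl fun d hd => ?_
  have hm : ∑ k ∈ d.support, d k = m := by
    have h := ha (mem_support_iff.mp hd)
    rw [Finsupp.weight_apply] at h
    simpa [Finsupp.sum] using h
  simp only [mul_pow, Finset.prod_mul_distrib, Finset.prod_pow_eq_pow_sum, hm]
  ring

theorem map_eq_pow_mul {S : Type*} [CommRing S] (f g : MvPolynomial (Fin (n + 1)) R →+* S) (c : S)
    (hC : ∀ r, g (C r) = f (C r)) (hX : ∀ k, g (X k) = c * f (X k)) :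
    ∀ m, ∀ a ∈ CohB1.polyGrading n R m, g a = c ^ m * f a := by
  intro m a ha
  have hg : g = eval₂Hom (f.comp C) fun k => c * f (X k) :=
    MvPolynomial.ringHom_ext (fun r => by simp [hC]) fun k => by simp [hX]
  have hf : f = eval₂Hom (f.comp C) fun k => f (X k) :=
    MvPolynomial.ringHom_ext (fun r => by simp) fun k => by simp
  conv_lhs => rw [hg]
  conv_rhs => arg 2; rw [hf]
  exact eval₂_mul_of_isHomogeneous _ _ _ ha

/-- The constants in a chart. -/
def cst (x : MvPolynomial (Fin (n + 1)) R) : R →+* Away P x :=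
  (HomogeneousLocalization.fromZeroRingHom P _).comp (algebraMap R (P 0))

theorem cst_val (x : MvPolynomial (Fin (n + 1)) R) (r : R) :
    (cst x r).val = algebraMap (MvPolynomial (Fin (n + 1)) R) (Localization.Away x) (C r) := by
  rw [← Localization.mk_one_eq_algebraMap]
  rfl

/-- `X k / X i`. -/
def ratio (i k : Fin (n + 1)) : Away P (X i) :=
  Away.mk P (X_mem i) 1 (X k) (by simpa using X_mem k)

theorem ratio_val (i k : Fin (n + 1)) :
    (ratio (R := R) i k).val *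
      algebraMap (MvPolynomial (Fin (n + 1)) R) (Localization.Away (X i : MvPolynomial (Fin (n + 1)) R)) (X i) =
      algebraMap (MvPolynomial (Fin (n + 1)) R) _ (X k) := by
  rw [ratio, Away.val_mk, Localization.mk_eq_mk']
  have := IsLocalization.mk'_spec (Localization.Away (X i : MvPolynomial (Fin (n + 1)) R)) (X k)
    (⟨X i ^ 1, 1, rfl⟩ : Submonoid.powers (X i : MvPolynomial (Fin (n + 1)) R))
  simpa [pow_one] using this

/-- Every element of a chart is a polynomial in the ratios. -/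
theorem exists_eval_ratio (i : Fin (n + 1)) (z : Away P (X i)) :
    ∃ a, eval₂Hom (cst (X i)) (ratio i) a = z := by
  obtain ⟨m, a, ha, rfl⟩ := Away.mk_surjective P (X_mem i) z
  refine ⟨a, HomogeneousLocalization.val_injective _ ?_⟩
  let V : Away P (X i) →+* Localization.Away (X i : MvPolynomial (Fin (n + 1)) R) := algebraMap _ _
  let F : MvPolynomial (Fin (n + 1)) R →+* Localization.Away (X i : MvPolynomial (Fin (n + 1)) R) :=
    V.comp (eval₂Hom (cst (X i)) (ratio i))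
  have hF : ∀ k, algebraMap _ _ (X k) =
      algebraMap _ (Localization.Away (X i : MvPolynomial (Fin (n + 1)) R)) (X i) * F (X k) := fun k => by
    simp only [F, V, RingHom.comp_apply, eval₂Hom_X']
    rw [mul_comm]
    exact (ratio_val i k).symm
  have h := map_eq_pow_mul F (algebraMap _ _) _ (fun r => by
    simp only [F, V, RingHom.comp_apply, eval₂Hom_C]
    exact (cst_val _ r).symm) hF m a (by simpa using ha)
  show F a = _
  rw [Away.val_mk, Localization.mk_eq_mk', IsLocalization.eq_mk'_iff_mul_eq, map_pow, mul_comm]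
  exact h.symm

theorem awayHom_ext {S : Type*} [CommRing S] {i : Fin (n + 1)} {g g' : Away P (X i) →+* S}
    (hc : g.comp (cst (X i)) = g'.comp (cst (X i))) (h : ∀ k, g (ratio i k) = g' (ratio i k)) : g = g' := by
  refine RingHom.ext fun z => ?_
  obtain ⟨a, rfl⟩ := exists_eval_ratio i z
  have : g.comp (eval₂Hom (cst (X i)) (ratio i)) = g'.comp (eval₂Hom (cst (X i)) (ratio i)) :=
    MvPolynomial.ringHom_ext (fun r => by simpa using RingHom.congr_fun hc r) fun k => by simp [h]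
  exact RingHom.congr_fun this a

theorem evalAway_cst {S : Type u} [CommRing S] (f : MvPolynomial (Fin (n + 1)) R →+* S) (i : Fin (n + 1))
    (hf : IsUnit (f (X i))) (r : R) :
    ProjPt.evalAway P f (X i) hf (cst (X i) r) = f (C r) := by
  rw [ProjPt.evalAway, RingHom.comp_apply]
  rw [show algebraMap (Away P (X i)) (Localization.Away (X i : MvPolynomial (Fin (n + 1)) R)) (cst (X i) r) =
      (cst (X i) r).val from rfl, cst_val, IsLocalization.Away.lift_eq]

theorem evalAway_ratio {S : Type u} [CommRing S] (f : MvPolynomial (Fin (n + 1)) R →+* S) (i k : Fin (n + 1))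
    (hf : IsUnit (f (X i))) :
    ProjPt.evalAway P f (X i) hf (ratio i k) * f (X i) = f (X k) := by
  have h := ProjPt.evalAway_mk_spec P f (X_mem i) hf 1 (X k) (by simpa using X_mem k)
  rwa [pow_one] at h

theorem awayι_toSpec (i : Fin (n + 1)) :
    Proj.awayι P (X i) (X_mem i) one_pos ≫ CohB1.ProjSpace.toSpec n R =
      Spec.map (CommRingCat.ofHom (cst (X i))) := by
  refine (Proj.awayι_toSpecZero_assoc _ _ _ _ _).trans ?_
  rw [← Spec.map_comp, ← CommRingCat.ofHom_comp]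
  rfl

theorem eq_toSpecΓ_toGlobal {T : Scheme.{u}} (q : T ⟶ Spec (CommRingCat.of R)) :
    q = T.toSpecΓ ≫ Spec.map (CommRingCat.ofHom (ProjUP.toGlobal q)) :=
  ext_to_Spec (by simp [ProjUP.toGlobal])

theorem pt_toSpec {T : Scheme.{u}} (i : Fin (n + 1)) (g : Away P (X i) →+* Γ(T, ⊤)) :
    ProjPt.pt P (X_mem i) one_pos g ≫ CohB1.ProjSpace.toSpec n R =
      T.toSpecΓ ≫ Spec.map (CommRingCat.ofHom (g.comp (cst (X i)))) := by
  refine (Category.assoc _ _ _).trans ?_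
  refine congrArg (T.toSpecΓ ≫ ·) ((Category.assoc _ _ _).trans ?_)
  refine (congrArg (Spec.map (CommRingCat.ofHom g) ≫ ·) (awayι_toSpec i)).trans ?_
  rw [← Spec.map_comp, ← CommRingCat.ofHom_comp]

theorem awayι_appLE_awayToSection {σ A : Type u} [CommRing A] [SetLike σ A] [AddSubgroupClass σ A]
    (𝒜 : ℕ → σ) [GradedRing 𝒜] {x : A} {d : ℕ} (hx : x ∈ 𝒜 d) (hd : 0 < d) (z : Away 𝒜 x)
    (e : ⊤ ≤ Proj.awayι 𝒜 x hx hd ⁻¹ᵁ Proj.basicOpen 𝒜 x) :
    ((Proj.awayι 𝒜 x hx hd).appLE (Proj.basicOpen 𝒜 x) ⊤ e).hom (Proj.awayToSection 𝒜 x z) =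
      (Scheme.ΓSpecIso (.of (Away 𝒜 x))).inv z := by
  have hb : Proj.basicOpenToSpec 𝒜 x ≫ Proj.awayι 𝒜 x hx hd = (Proj.basicOpen 𝒜 x).ι := by
    rw [← Proj.basicOpenIsoSpec_hom 𝒜 x hx hd]
    exact Iso.hom_inv_id_assoc _ _
  have h1 : (Proj.awayι 𝒜 x hx hd).appLE (Proj.basicOpen 𝒜 x) ⊤ e ≫ (Proj.basicOpenToSpec 𝒜 x).app ⊤ =
      (Proj.basicOpen 𝒜 x).topIso.inv := by
    rw [Scheme.Hom.app_eq_appLE, Scheme.Hom.appLE_comp_appLE]
    have : ∀ (φ : ((Proj.basicOpen 𝒜 x).toScheme ⟶ Proj 𝒜)) (e' : _ ≤ φ ⁻¹ᵁ Proj.basicOpen 𝒜 x),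
        φ = (Proj.basicOpen 𝒜 x).ι →
        φ.appLE (Proj.basicOpen 𝒜 x) ⊤ e' = (Proj.basicOpen 𝒜 x).topIso.inv := by
      rintro _ e' rfl
      rw [Scheme.Opens.ι_appLE]
      rfl
    exact this _ _ hb
  have h2 := congrArg (fun f => (f ≫ (Proj.basicOpen 𝒜 x).topIso.hom).hom (Proj.awayToSection 𝒜 x z)) h1
  simp only [Proj.basicOpenToSpec_app_top, Category.assoc, Iso.inv_hom_id, Category.comp_id,
    CommRingCat.comp_apply] at h2
  have h3 := (ConcreteCategory.bijective_of_isIso (Proj.basicOpenIsoAway 𝒜 x hx hd).hom).1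
  rw [Proj.basicOpenIsoAway_hom] at h3
  have h4 := congrArg (Scheme.ΓSpecIso (.of (Away 𝒜 x))).inv (h3 h2)
  rw [Iso.hom_inv_id_apply] at h4
  exact h4

theorem pt_appLE_awayToSection {σ A : Type u} [CommRing A] [SetLike σ A] [AddSubgroupClass σ A]
    (𝒜 : ℕ → σ) [GradedRing 𝒜] {T : Scheme.{u}} {x : A} {d : ℕ} (hx : x ∈ 𝒜 d) (hd : 0 < d)
    (g : Away 𝒜 x →+* Γ(T, ⊤)) (z : Away 𝒜 x)
    (e : ⊤ ≤ ProjPt.pt 𝒜 hx hd g ⁻¹ᵁ Proj.basicOpen 𝒜 x) :
    ((ProjPt.pt 𝒜 hx hd g).appLE (Proj.basicOpen 𝒜 x) ⊤ e).hom (Proj.awayToSection 𝒜 x z) = g z := by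
  have he : (⊤ : (Spec (CommRingCat.of (Away 𝒜 x))).Opens) ≤
      Proj.awayι 𝒜 x hx hd ⁻¹ᵁ Proj.basicOpen 𝒜 x := by
    rw [← Proj.opensRange_awayι 𝒜 x hx hd, Scheme.Hom.preimage_opensRange]
  have h : (T.toSpecΓ ≫ Spec.map (CommRingCat.ofHom g)).appTop =
      (Scheme.ΓSpecIso (.of (Away 𝒜 x))).hom ≫ CommRingCat.ofHom g := by
    rw [Scheme.Hom.comp_appTop, Scheme.toSpecΓ_appTop]
    exact Scheme.ΓSpecIso_naturality _
  unfold ProjPt.pt
  have key : ∀ (φ : T ⟶ Proj 𝒜) (e' : _ ≤ φ ⁻¹ᵁ Proj.basicOpen 𝒜 x),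
      φ = (T.toSpecΓ ≫ Spec.map (CommRingCat.ofHom g)) ≫ Proj.awayι 𝒜 x hx hd →
      (φ.appLE (Proj.basicOpen 𝒜 x) ⊤ e').hom (Proj.awayToSection 𝒜 x z) = g z := by
    rintro _ e' rfl
    rw [← Scheme.Hom.appLE_comp_appLE _ _ _ ⊤ ⊤ he (fun _ _ => trivial), CommRingCat.comp_apply]
    erw [awayι_appLE_awayToSection]
    rw [show (T.toSpecΓ ≫ Spec.map (CommRingCat.ofHom g)).appLE ⊤ ⊤ (fun _ _ => trivial) =
      (T.toSpecΓ ≫ Spec.map (CommRingCat.ofHom g)).appTop by rw [Scheme.Hom.appTop, Scheme.Hom.app_eq_appLE]; rfl]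
    rw [h, CommRingCat.comp_apply, Iso.inv_hom_id_apply]
    rfl
  exact key _ _ (Category.assoc _ _ _).symm

/-- Ratios on an open cover defining a morphism to projective space. -/
structure Data (n : ℕ) {X : Scheme.{u}} (q : X ⟶ Spec (CommRingCat.of R)) where
  /-- the preimages of the charts -/
  U : Fin (n + 1) → X.Opens
  /-- the ratios -/
  φ : ∀ i, Fin (n + 1) → Γ(X, U i)
  cover : ⨆ i, U i = ⊤
  self : ∀ i, φ i i = 1
  change : ∀ (i j k : Fin (n + 1)) (W : X.Opens) (hi : W ≤ U i) (hj : W ≤ U j),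
    res hi (φ i k) = res hi (φ i j) * res hj (φ j k)
  basicOpen_eq : ∀ i j, X.basicOpen (φ i j) = U i ⊓ U j

namespace Data

variable {Y : Scheme.{u}} {q : Y ⟶ Spec (CommRingCat.of R)} (D : Data n q)

/-- Evaluation on the `i`th piece. -/
def evalU (i : Fin (n + 1)) : MvPolynomial (Fin (n + 1)) R →+* Γ(Y, D.U i) :=
  eval₂Hom ((res (le_top : D.U i ≤ ⊤)).comp (ProjUP.toGlobal q)) (D.φ i)

theorem isUnit_evalU (i : Fin (n + 1)) : IsUnit (D.evalU i (X i)) := by
  simp [evalU, D.self]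

/-- The chart homomorphism. -/
def g (i : Fin (n + 1)) : Away P (X i) →+* Γ(Y, D.U i) :=
  ProjPt.evalAway P (D.evalU i) (X i) (D.isUnit_evalU i)

theorem g_cst (i : Fin (n + 1)) (r : R) : D.g i (cst (X i) r) = res le_top (ProjUP.toGlobal q r) := by
  rw [g, evalAway_cst]
  simp [evalU]

theorem g_ratio (i k : Fin (n + 1)) : D.g i (ratio i k) = D.φ i k := by
  have h := evalAway_ratio (D.evalU i) i k (D.isUnit_evalU i)
  simp only [evalU, coe_eval₂Hom, eval₂_X, D.self, mul_one] at h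
  exact h

/-- The morphism on the `i`th piece. -/
def piece (i : Fin (n + 1)) : (D.U i : Scheme.{u}) ⟶ CohB1.ProjSpace n R :=
  ProjPt.pt P (X_mem i) one_pos ((D.U i).topIso.inv.hom.comp (D.g i))

theorem appTop_topIso_inv {T : Scheme.{u}} {U : Y.Opens} (a : T ⟶ U) (t : T ⟶ Y) (ht : a ≫ U.ι = t)
    (e : ⊤ ≤ t ⁻¹ᵁ U) (z : Γ(Y, U)) : a.appTop (U.topIso.inv z) = (t.appLE U ⊤ e).hom z := by
  subst ht
  rw [← Scheme.Hom.appLE_comp_appLE a U.ι U ⊤ ⊤ U.ι_preimage_self.ge le_rfl, CommRingCat.comp_apply]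
  rw [Scheme.Opens.ι_appLE, Scheme.Hom.appTop, Scheme.Hom.app_eq_appLE]
  rfl

theorem piece_agree {T : Scheme.{u}} (i j : Fin (n + 1)) (a : T ⟶ D.U i) (b : T ⟶ D.U j)
    (h : a ≫ (D.U i).ι = b ≫ (D.U j).ι) : a ≫ D.piece i = b ≫ D.piece j := by
  let t := a ≫ (D.U i).ι
  have hi : (⊤ : T.Opens) ≤ t ⁻¹ᵁ D.U i := fun x _ => (a x).2
  have hj : (⊤ : T.Opens) ≤ t ⁻¹ᵁ D.U j := fun x _ => by
    show t x ∈ D.U j
    rw [show t = b ≫ (D.U j).ι from h]
    exact (b x).2
  let fi := (t.appLE (D.U i) ⊤ hi).hom.comp (D.evalU i)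
  let fj := (t.appLE (D.U j) ⊤ hj).hom.comp (D.evalU j)
  have hij : (⊤ : T.Opens) ≤ t ⁻¹ᵁ (D.U i ⊓ D.U j) := le_inf hi hj
  let w := (t.appLE (D.U i) ⊤ hi).hom (D.φ i j)
  have hw : IsUnit w := by
    refine T.toRingedSpace.isUnit_of_isUnit_germ ⊤ w fun x _ => ?_
    refine (Scheme.mem_basicOpen T w x (Opens.mem_top x)).mp ?_
    rw [Scheme.basicOpen_appLE, D.basicOpen_eq]
    exact ⟨trivial, hij trivial⟩
  have hrel : ∀ m, ∀ p ∈ P m, fi p = w ^ m * fj p := map_eq_pow_mul fj fi w (fun r => by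
      simp only [fi, fj, RingHom.comp_apply, evalU, eval₂Hom_C]
      rw [appLE_res, appLE_res]) fun k => by
    simp only [fi, fj, RingHom.comp_apply, evalU, eval₂Hom_X']
    have e := congrArg (t.appLE (D.U i ⊓ D.U j) ⊤ hij).hom (D.change i j k _ inf_le_left inf_le_right)
    rw [map_mul, appLE_res, appLE_res, appLE_res] at e
    exact e
  have hfii : IsUnit (fi (X i)) := (D.isUnit_evalU i).map (t.appLE (D.U i) ⊤ hi).hom
  have hfjj : IsUnit (fj (X j)) := (D.isUnit_evalU j).map (t.appLE (D.U j) ⊤ hj).hom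
  have hfij : IsUnit (fi (X j)) := by
    rw [hrel 1 _ (X_mem j)]
    exact (hw.pow 1).mul hfjj
  rw [piece, piece, ProjPt.comp_pt, ProjPt.comp_pt]
  have ei : a.appTop.hom.comp ((D.U i).topIso.inv.hom.comp (D.g i)) = ProjPt.evalAway P fi (X i) hfii := by
    rw [g, ← RingHom.comp_assoc, ProjPt.comp_evalAway P _ _ (X_mem i)]
    congr 1
    exact RingHom.ext fun p => appTop_topIso_inv a t rfl hi _
  have ej : b.appTop.hom.comp ((D.U j).topIso.inv.hom.comp (D.g j)) = ProjPt.evalAway P fj (X j) hfjj := by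
    rw [g, ← RingHom.comp_assoc, ProjPt.comp_evalAway P _ _ (X_mem j)]
    congr 1
    exact RingHom.ext fun p => appTop_topIso_inv b t h.symm hj _
  rw [ei, ej, ProjPt.pt_evalAway_eq P (X_mem i) one_pos fi hfii (X_mem j) one_pos hfij,
    ProjPt.evalAway_eq_of_twist P fj fi (X_mem j) hfjj hfij w hrel]

/-- The cover by the pieces. -/
def cover' : Y.OpenCover := Y.openCoverOfIsOpenCover D.U (IsOpenCover.mk D.cover)

/-- The morphism to projective space. -/
def map : Y ⟶ CohB1.ProjSpace n R :=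
  D.cover'.glueMorphisms D.piece fun i j => D.piece_agree i j _ _ pullback.condition

theorem ι_map (i : Fin (n + 1)) : (D.U i).ι ≫ D.map = D.piece i :=
  D.cover'.ι_glueMorphisms _ _ i

theorem map_toSpec : D.map ≫ CohB1.ProjSpace.toSpec n R = q := by
  refine D.cover'.hom_ext _ _ fun i => ?_
  show (D.U i).ι ≫ D.map ≫ _ = (D.U i).ι ≫ q
  rw [← Category.assoc, ι_map, piece, pt_toSpec, eq_toSpecΓ_toGlobal ((D.U i).ι ≫ q)]
  congr 3
  refine RingHom.ext fun r => ?_
  rw [RingHom.comp_apply, RingHom.comp_apply, g_cst]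
  rw [show ProjUP.toGlobal ((D.U i).ι ≫ q) r = (D.U i).ι.appTop (ProjUP.toGlobal q r) by
    simp [ProjUP.toGlobal], Scheme.Opens.ι_appTop]
  exact res_res _ _ _

theorem map_preimage (k : Fin (n + 1)) : D.map ⁻¹ᵁ Proj.basicOpen P (X k) = D.U k := by
  ext x
  obtain ⟨i, hi⟩ := Opens.mem_iSup.mp (D.cover ▸ Opens.mem_top x : x ∈ ⨆ i, D.U i)
  have h : (⟨x, hi⟩ : D.U i) ∈ D.piece i ⁻¹ᵁ Proj.basicOpen P (X k) ↔ x ∈ D.U k := by
    rw [piece, ProjPt.pt_preimage_basicOpen P (X_mem i) one_pos _ (X_mem k) one_pos, RingHom.comp_apply]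
    have e : D.g i (Away.isLocalizationElem (X_mem i) (X_mem k)) = D.φ i k := by
      rw [← g_ratio]
      congr 1
      exact HomogeneousLocalization.val_injective _ (by simp [ratio, Away.val_mk])
    rw [e, show (D.U i).topIso.inv.hom (D.φ i k) =
      ((D.U i).ι.appLE (D.U i) ⊤ (D.U i).ι_preimage_self.ge).hom (D.φ i k) by rw [Scheme.Opens.ι_appLE]; rfl,
      Scheme.basicOpen_appLE, D.basicOpen_eq]
    exact ⟨fun h => h.2.2, fun h => ⟨trivial, hi, h⟩⟩
  simp only [SetLike.mem_coe]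
  rw [← h, ← ι_map]
  rfl

theorem map_appLE_ratio (i k : Fin (n + 1)) {W : Y.Opens} (hW : W ≤ D.U i)
    (e : W ≤ D.map ⁻¹ᵁ Proj.basicOpen P (X i)) :
    (D.map.appLE (Proj.basicOpen P (X i)) W e).hom (Proj.awayToSection P (X i) (ratio i k)) =
      res hW (D.φ i k) := by
  have e0 : D.U i ≤ D.map ⁻¹ᵁ Proj.basicOpen P (X i) := (D.map_preimage i).ge
  have h0 : (D.map.appLE (Proj.basicOpen P (X i)) (D.U i) e0).hom
      (Proj.awayToSection P (X i) (ratio i k)) = D.φ i k := by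
    refine (ConcreteCategory.bijective_of_isIso (D.U i).topIso.inv).1 ?_
    have e1 : ⊤ ≤ D.piece i ⁻¹ᵁ Proj.basicOpen P (X i) := (ProjPt.pt_preimage_self P _ _ _).ge
    have h1 := pt_appLE_awayToSection P (X_mem i) one_pos ((D.U i).topIso.inv.hom.comp (D.g i)) (ratio i k) e1
    rw [RingHom.comp_apply, g_ratio] at h1
    refine Eq.trans ?_ h1
    have : ∀ (φ : (D.U i : Scheme.{u}) ⟶ CohB1.ProjSpace n R) (e' : _ ≤ φ ⁻¹ᵁ Proj.basicOpen P (X i)),
        φ = (D.U i).ι ≫ D.map →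
        (D.U i).topIso.inv ((D.map.appLE (Proj.basicOpen P (X i)) (D.U i) e0).hom
          (Proj.awayToSection P (X i) (ratio i k))) =
        (φ.appLE (Proj.basicOpen P (X i)) ⊤ e').hom (Proj.awayToSection P (X i) (ratio i k)) := by
      rintro _ e' rfl
      rw [← Scheme.Hom.appLE_comp_appLE (D.U i).ι D.map _ (D.U i) ⊤ e0 (D.U i).ι_preimage_self.ge,
        CommRingCat.comp_apply, Scheme.Opens.ι_appLE]
      rfl
    exact this _ e1 (D.ι_map i).symm
  rw [← h0, res_appLE]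

end Data

end GrothLib.Ample.ProjMap
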