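import Groth.Agent.Lib.Ample.ModTwistMap
import Groth.Agent.Lib.IdealModSec.Basic
import Groth.Agent.Lib.Euler.TensorSupport
import Groth.Agent.Lib.Euler.Basic
import Groth.Agent.Lib.ProjCoh.Generic
import Groth.Agent.Lib.QCoh.Extension
import Groth.Agent.Lib.QCoh.Killed

/-!
# Ampleness from the vanishing of twisted first cohomology of ideals
-/

set_option linter.style.haveILetI false
set_option backward.isDefEq.respectTransparency false

universe u

open AlgebraicGeometry CategoryTheory CategoryTheory.Limits TopologicalSpace Opposite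
open GrothLib.InvExt (mres)

noncomputable section

namespace GrothLib.Ample

variable {X : Scheme.{u}}

/-- The ideal module of a closed set. -/
abbrev vMod (T : Closeds X) : X.Modules := ClSub.idealMod (Scheme.IdealSheafData.vanishingIdeal T)

theorem vMod_quasicoherent (T : Closeds X) : (vMod T).IsQuasicoherent := by
  haveI := Cohom.isQuasicoherent_structureModule X
  haveI := Cohom.isQuasicoherent_structureModule (Scheme.IdealSheafData.vanishingIdeal T).subscheme
  haveI : ((Scheme.Modules.pushforward (Scheme.IdealSheafData.vanishingIdeal T).subschemeι).obj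
      (Coh.structureModule (Scheme.IdealSheafData.vanishingIdeal T).subscheme)).IsQuasicoherent :=
    QCoh.isQuasicoherent_pushforward _ _
  exact QCoh.isQuasicoherent_kernel _

theorem subschemeι_comp_zero {T₀ T : Closeds X} (h : T₀ ≤ T) :
    ClSub.idealModι (Scheme.IdealSheafData.vanishingIdeal T) ≫
      ClSub.toSubscheme (Scheme.IdealSheafData.vanishingIdeal T₀) = 0 := by
  refine Scheme.Modules.hom_ext _ _ fun V => ?_
  ext (κ : Γ(vMod T, V))
  choose W hW hxW hWV using fun x : V => exists_isAffineOpen_mem_and_subset (x := (x : X)) (U := V) x.2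
  refine meq_of_cover _ W (fun x => hWV x) (fun x hx => Opens.mem_iSup.2 ⟨⟨x, hx⟩, hxW ⟨x, hx⟩⟩) fun x => ?_
  rw [← app_mres, ← app_mres]
  let κ' : Γ(vMod T, W x) := mres _ (hWV x) κ
  have hmem := IdealModSec.val_mem _ ⟨W x, hW x⟩ κ'
  rw [QCoh.mem_vanishingIdeal_iff] at hmem
  have h0 : IdealModSec.val _ (W x) κ' ∈
      (Scheme.IdealSheafData.vanishingIdeal T₀).ideal ⟨W x, hW x⟩ :=
    (QCoh.mem_vanishingIdeal_iff _ _ _).2 fun y hy hy0 => hmem y hy (h hy0)
  rw [← Scheme.IdealSheafData.ker_subschemeι_app] at h0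
  exact h0

/-- The inclusion of the ideal of a larger closed set. -/
def vIncl {T₀ T : Closeds X} (h : T₀ ≤ T) : vMod T ⟶ vMod T₀ :=
  kernel.lift _ (ClSub.idealModι (Scheme.IdealSheafData.vanishingIdeal T)) (subschemeι_comp_zero h)

theorem val_vIncl {T₀ T : Closeds X} (h : T₀ ≤ T) (V : X.Opens) (κ : Γ(vMod T, V)) :
    IdealModSec.val _ V ((vIncl h).app V κ) = IdealModSec.val _ V κ := by
  show ((vIncl h) ≫ ClSub.idealModι _).app V κ = _
  exact congrArg (fun f : vMod T ⟶ Coh.structureModule X => f.app V κ) (kernel.lift_ι _ _ (subschemeι_comp_zero h))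

theorem vIncl_app_injective {T₀ T : Closeds X} (h : T₀ ≤ T) (V : X.Opens) :
    Function.Injective ((vIncl h).app V) := fun a b e =>
  IdealModSec.val_injective _ V (by rw [← val_vIncl h, ← val_vIncl h, e])

namespace Cocycle

variable (c : Cocycle X)

theorem msectMap_mbase {M N : X.Modules} (φ : M ⟶ N) {n : ℕ} {V : X.Opens} (i : c.ι) (hV : V ≤ c.D i)
    (μ : Γ(M, V)) : c.msectMap φ (c.mbase n i hV μ) = c.mbase n i hV (φ.app V μ) :=
  c.msect_ext_of_le hV (by
    show φ.app _ ((c.mbase n i hV μ).1 i) = _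
    rw [mbase_self, mbase_self, app_mres])

theorem value_eq {T : Closeds X} {n : ℕ} (a : c.msect (vMod T) n ⊤) (l : c.ι) {W : X.Opens}
    (hWD : W ≤ c.D l) :
    res (le_inf le_top hWD) ((c.toSect (c.msectMap (ClSub.idealModι _) a)).1 l) =
      IdealModSec.val _ W (mres (vMod T) (le_inf le_top hWD) (a.1 l)) :=
  (IdealModSec.val_mres _ _ _).symm

/-- A twisted section of the ideal of a closed set has its locus outside of it. -/
theorem locus_le_compl {T : Closeds X} {n : ℕ} (a : c.msect (vMod T) n ⊤) :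
    (c.locus (c.toSect (c.msectMap (ClSub.idealModι _) a)) : Set X) ⊆ (T : Set X)ᶜ := by
  intro y hy hyT
  obtain ⟨l, W, hyW, hWD, hW⟩ := c.exists_affine_le_D y
  have h1 : y ∈ c.locus (c.toSect (c.msectMap (ClSub.idealModι _) a)) ⊓ W := ⟨hy, hyW⟩
  rw [c.locus_inf_eq_basicOpen _ hWD, c.value_eq a l hWD] at h1
  exact (QCoh.mem_vanishingIdeal_iff _ ⟨W, hW⟩ _).1 (IdealModSec.val_mem _ ⟨W, hW⟩ _) y hyW hyT h1

/-- If some twist of the ideal of every closed set has no first cohomology, the cocycle is ample. -/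
theorem isAmp_of_subsingleton_H1 [CompactSpace X]
    (h : ∀ T : Closeds X, ∃ n : ℕ, Subsingleton (Coh.HH X (c.modTwist (vMod T) (n + 1)) 1)) : c.IsAmp := by
  letI : X.Over (Spec (CommRingCat.of Γ(X, ⊤))) := ⟨X.toSpecΓ⟩
  suffices hcl : ∀ x : X, IsClosed ({x} : Set X) →
      ∃ (n : ℕ) (a : c.sect (n + 1) ⊤), x ∈ c.locus a ∧ IsAffineOpen (c.locus a) by
    intro p
    obtain ⟨x, hxp, hx⟩ := (isClosed_closure (s := ({p} : Set X))).exists_closed_singleton
      (closure_nonempty_iff.2 (Set.singleton_nonempty p))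
    obtain ⟨n, a, hxa, ha⟩ := hcl x hx
    exact ⟨n, a, (specializes_iff_mem_closure.2 hxp).mem_open (c.locus a).2 hxa, ha⟩
  intro x hx
  obtain ⟨i, U, hxU, hUD, hU⟩ := c.exists_affine_le_D x
  let T₀ : Closeds X := ⟨(U : Set X)ᶜ, U.2.isClosed_compl⟩
  let T : Closeds X := ⟨(U : Set X)ᶜ ∪ {x}, U.2.isClosed_compl.union hx⟩
  have hT : T₀ ≤ T := Set.subset_union_left
  obtain ⟨n, hn⟩ := h T
  let φ := c.mtwistMap (vIncl hT) (n + 1)
  haveI : Mono φ := QCoh.mono_of_app_injective φ fun V =>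
    c.mtwistMap_app_injective _ _ (fun W => vIncl_app_injective hT W) V
  let S := ShortComplex.mk φ (cokernel.π φ) (cokernel.condition φ)
  have hS : S.ShortExact :=
    ShortComplex.ShortExact.mk' (ShortComplex.exact_cokernel φ) inferInstance inferInstance
  have hsupp : CohB1.support (cokernel φ) ⊆ {x} := by
    intro y hy
    by_contra hyx
    refine QCoh.notMem_support_cokernel_of_surjective φ ?_ hy
    intro e
    obtain ⟨V, hyV, (t : c.msect (vMod T₀) (n + 1) V), rfl⟩ := TopCat.Presheaf.exists_germ_eq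
      (c.modTwist (vMod T₀) (n + 1)).presheaf e
    obtain ⟨l, hl⟩ := c.exists_mem y
    obtain ⟨W, hW, hyW, hWO⟩ := exists_isAffineOpen_mem_and_subset (x := y)
      (U := V ⊓ c.D l ⊓ ⟨({x} : Set X)ᶜ, hx.isOpen_compl⟩) ⟨⟨hyV, hl⟩, hyx⟩
    have hWV : W ≤ V := fun z hz => (hWO hz).1.1
    have hWD : W ≤ c.D l := fun z hz => (hWO hz).1.2
    let μ : Γ(vMod T₀, W) := mres _ (le_inf le_rfl hWD) ((c.msectRes hWV t).1 l)
    have hμ : IdealModSec.val _ W μ ∈ (Scheme.IdealSheafData.vanishingIdeal T).ideal ⟨W, hW⟩ := by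
      refine (QCoh.mem_vanishingIdeal_iff _ _ _).2 fun z hz hzT => ?_
      rcases hzT with hzT | hzT
      · exact (QCoh.mem_vanishingIdeal_iff _ _ _).1 (IdealModSec.val_mem _ ⟨W, hW⟩ μ) z hz hzT
      · exact absurd hzT (hWO hz).2
    obtain ⟨ν, hν⟩ := IdealModSec.exists_val_eq _ ⟨W, hW⟩ hμ
    have hνμ : (vIncl hT).app W ν = μ := IdealModSec.val_injective _ W ((val_vIncl hT W ν).trans hν)
    refine ⟨(c.modTwist (vMod T) (n + 1)).presheaf.germ W y hyW (c.mbase (n + 1) l hWD ν), ?_⟩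
    rw [QCoh.stalkLin_germ]
    refine Eq.trans ?_ (TopCat.Presheaf.germ_res_apply (c.modTwist (vMod T₀) (n + 1)).presheaf
      (homOfLE hWV) y hyW t)
    refine congrArg ((c.modTwist (vMod T₀) (n + 1)).presheaf.germ W y hyW) ?_
    show c.msectMap (vIncl hT) (c.mbase (n + 1) l hWD ν) = c.msectRes hWV t
    rw [c.msectMap_mbase, hνμ]
    exact (c.eq_mbase l hWD _).symm
  have hfin : (CohB1.support (cokernel φ)).Finite := (Set.finite_singleton x).subset hsupp
  have hcl' : ∀ y ∈ CohB1.support (cokernel φ), IsClosed ({y} : Set X) := fun y hy => by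
    rw [Set.mem_singleton_iff.1 (hsupp hy)]; exact hx
  have h1 : (1 : Γ(X, U)) ∈ (Scheme.IdealSheafData.vanishingIdeal T₀).ideal ⟨U, hU⟩ :=
    (QCoh.mem_vanishingIdeal_iff _ _ _).2 fun z hz hz0 => absurd hz hz0
  obtain ⟨μ₁, hμ₁⟩ := IdealModSec.exists_val_eq _ ⟨U, hU⟩ h1
  let e₁ : Γ(c.modTwist (vMod T₀) (n + 1), U) := c.mbase (n + 1) i hUD μ₁
  let q : Γ(cokernel φ, U) := (cokernel.π φ).app U e₁
  obtain ⟨s, hs⟩ := (Euler.bijective_germs (cokernel φ) hfin hcl').2 fun y =>
    (cokernel φ).presheaf.germ U (y : X) (by rw [Set.mem_singleton_iff.1 (hsupp y.2)]; exact hxU) q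
  obtain ⟨η, hη⟩ : ∃ η : Coh.HH X S.X₂ 0, Cohom.hhMap Γ(X, ⊤) S.g 0 η = (ProjCoh.H0top _).symm s :=
    (Cohom.exact₃ hS 0 _).1 (@Subsingleton.elim _ hn _ _)
  let b : Γ(c.modTwist (vMod T₀) (n + 1), ⊤) := ProjCoh.H0top _ η
  have hb : (cokernel.π φ).app ⊤ b = s := by
    refine ((ProjCoh.H0top_map ((QCoh.toAbFun X).map S.g) η).symm).trans ?_
    rw [← Cohom.hhMap_apply (A := Γ(X, ⊤)), hη, AddEquiv.apply_symm_apply]
  have hgerm : (cokernel φ).presheaf.germ ⊤ x trivial s = (cokernel φ).presheaf.germ U x hxU q := by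
    by_cases hxs : x ∈ CohB1.support (cokernel φ)
    · exact congrFun hs ⟨x, hxs⟩
    · exact @Subsingleton.elim _ (QCoh.stalk_subsingleton_of_notMem hxs) _ _
  obtain ⟨W₀, hxW₀, i₁, i₂, heq⟩ := TopCat.Presheaf.germ_eq (cokernel φ).presheaf x (U := ⊤) (V := U)
    trivial hxU _ _ hgerm
  obtain ⟨W, hW, hxW, hWO⟩ := exists_isAffineOpen_mem_and_subset (x := x) (U := W₀) hxW₀
  have hWU : W ≤ U := le_trans hWO (leOfHom i₂)
  let d : Γ(c.modTwist (vMod T₀) (n + 1), W) := mres _ (le_top : W ≤ ⊤) b - mres _ hWU e₁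
  have hd : S.g.app W d = 0 := by
    show (cokernel.π φ).app W d = 0
    rw [map_sub, app_mres, app_mres, hb, sub_eq_zero]
    have := congrArg (mres (cokernel φ) (show W ≤ W₀ from hWO)) heq
    exact ((InvExt.mres_mres (cokernel φ) (leOfHom i₁) _ s).symm.trans this).trans
      (InvExt.mres_mres (cokernel φ) (leOfHom i₂) _ q)
  obtain ⟨(κ : c.msect (vMod T) (n + 1) W), hκ⟩ := QCoh.app_exact hS W d hd
  refine ⟨n, c.toSect (c.msectMap (ClSub.idealModι _) (b : c.msect (vMod T₀) (n + 1) ⊤)), ?_, ?_⟩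
  · have hWD : W ≤ c.D i := hWU.trans hUD
    have key : IdealModSec.val _ W (mres (vMod T₀) (le_inf le_top hWD) ((b : c.msect (vMod T₀) (n + 1) ⊤).1 i)) =
        1 + IdealModSec.val _ W (mres (vMod T) (le_inf le_rfl hWD) (κ.1 i)) := by
      have e : (c.msectMap (vIncl hT) κ : c.msect (vMod T₀) (n + 1) W) =
          c.msectRes (le_top : W ≤ ⊤) b - c.msectRes hWU e₁ := hκ
      have e' := congrArg (fun t : c.msect (vMod T₀) (n + 1) W =>
        IdealModSec.val _ W (mres (vMod T₀) (le_inf le_rfl hWD) (t.1 i))) e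
      have hsub : ∀ (u v : Γ(vMod T₀, W)),
          IdealModSec.val _ W (u - v) = IdealModSec.val _ W u - IdealModSec.val _ W v :=
        fun u v => map_sub ((ClSub.idealModι _).app W).hom u v
      have e1 : IdealModSec.val _ W (mres (vMod T₀) (le_inf le_rfl hWD) ((c.msectMap (vIncl hT) κ).1 i)) =
          IdealModSec.val _ W (mres (vMod T) (le_inf le_rfl hWD) (κ.1 i)) := by
        show IdealModSec.val _ W (mres (vMod T₀) _ ((vIncl hT).app _ (κ.1 i))) = _
        rw [← app_mres, val_vIncl]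
      have e2 : IdealModSec.val _ W (mres (vMod T₀) (le_inf le_rfl hWD) ((c.msectRes hWU e₁).1 i)) = 1 := by
        rw [msectRes_apply, InvExt.mres_mres]
        show IdealModSec.val _ W (mres (vMod T₀) _ ((c.mbase (n + 1) i hUD μ₁).1 i)) = 1
        rw [mbase_self, InvExt.mres_mres, IdealModSec.val_mres, hμ₁]
        exact map_one _
      simp only [AddSubgroup.coe_sub, Pi.sub_apply] at e'
      rw [e1, show mres (vMod T₀) (le_inf le_rfl hWD)
          ((c.msectRes (le_top : W ≤ ⊤) b).1 i - (c.msectRes hWU e₁).1 i) =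
          mres (vMod T₀) (le_inf le_rfl hWD) ((c.msectRes (le_top : W ≤ ⊤) b).1 i) -
          mres (vMod T₀) (le_inf le_rfl hWD) ((c.msectRes hWU e₁).1 i) from map_sub _ _ _, hsub, e2,
        msectRes_apply, InvExt.mres_mres] at e'
      rw [e']
      ring
    have hmem := (QCoh.mem_vanishingIdeal_iff _ ⟨W, hW⟩ _).1
      (IdealModSec.val_mem _ ⟨W, hW⟩ (mres (vMod T) (le_inf le_rfl hWD) (κ.1 i))) x hxW (Or.inr rfl)
    suffices hx' : x ∈ c.locus (c.toSect (c.msectMap (ClSub.idealModι _) (b : c.msect (vMod T₀) (n + 1) ⊤))) ⊓ W from hx'.1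
    rw [c.locus_inf_eq_basicOpen _ hWD, c.value_eq _ i hWD, key]
    rw [X.mem_basicOpen _ x hxW] at hmem ⊢
    rw [map_add, map_one]
    exact (IsLocalRing.isUnit_or_isUnit_of_add_one (add_neg_cancel_right (1 : X.presheaf.stalk x)
      (X.presheaf.germ W x hxW (IdealModSec.val _ W (mres (vMod T) (le_inf le_rfl hWD) (κ.1 i)))))).resolve_right
      fun hu => hmem ((IsUnit.neg_iff _).1 hu)
  · exact c.isAffineOpen_locus_of_le _ hU fun y hy => not_not.1 (c.locus_le_compl _ hy)

end Cocycle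

end GrothLib.Ample
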