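import Groth.Agent.Lib.Ample.ModTwist
import Groth.Agent.Lib.Ample.Generation
import Groth.Agent.Lib.QCoh.Affine

/-!
# Twisting by a cocycle preserves quasi-coherence and finite type
-/

universe u

set_option backward.isDefEq.respectTransparency false

open AlgebraicGeometry CategoryTheory TopologicalSpace Opposite
open GrothLib.InvExt (mres)

noncomputable section

namespace GrothLib.Ample.Cocycle

variable {X : Scheme.{u}} (c : Cocycle X) (M : X.Modules) {n : ℕ}

/-- Over a piece of `D i` twisting does nothing. -/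
def mbaseEquiv (n : ℕ) {V : X.Opens} (i : c.ι) (hV : V ≤ c.D i) : Γ(M, V) ≃ₗ[Γ(X, V)] c.msect M n V where
  toFun μ := c.mbase n i hV μ
  invFun a := mres M (le_inf le_rfl hV) (a.1 i)
  map_add' μ ν := c.msect_ext_of_le hV (by
    show _ = (c.mbase n i hV μ).1 i + (c.mbase n i hV ν).1 i
    rw [mbase_self, mbase_self, mbase_self]
    exact map_add _ _ _)
  map_smul' r μ := c.msect_ext_of_le hV (by
    rw [RingHom.id_apply, msmul_apply, mbase_self, mbase_self, InvExt.mres_smul])
  left_inv μ := by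
    show mres M _ ((c.mbase n i hV μ).1 i) = μ
    rw [mbase_self, InvExt.mres_mres, InvExt.mres_self]
  right_inv a := (c.eq_mbase i hV a).symm

theorem msectRes_mbase {V W : X.Opens} (i : c.ι) (hV : V ≤ c.D i) (h : W ≤ V) (μ : Γ(M, V)) :
    c.msectRes h (c.mbase n i hV μ) = c.mbase n i (h.trans hV) (mres M h μ) :=
  c.msect_ext_of_le (h.trans hV) (by rw [msectRes_apply, mbase_self, mbase_self, InvExt.mres_mres, InvExt.mres_mres])

theorem isQuasicoherent_modTwist [M.IsQuasicoherent] (n : ℕ) : (c.modTwist M n).IsQuasicoherent := by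
  refine QCoh.isQuasicoherent_of_smulLift_of_smulSep _
    (fun p : Σ i, {W : X.Opens // IsAffineOpen W ∧ W ≤ c.D i} => p.2.1) (top_le_iff.mp fun x _ => ?_)
    (fun p => p.2.2.1) fun p g => ?_
  · obtain ⟨i, hi⟩ := c.exists_mem x
    obtain ⟨W, hW, hxW, hWD⟩ := exists_isAffineOpen_mem_and_subset hi
    exact Opens.mem_iSup.mpr ⟨⟨i, W, hW, hWD⟩, hxW⟩
  · obtain ⟨i, W, hW, hWD⟩ := p
    obtain ⟨hl, hs⟩ := QCoh.smulLift_and_smulSep_of_isAffineOpen hW M g
    have hgD : X.basicOpen g ≤ c.D i := (X.basicOpen_le g).trans hWD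
    constructor
    · intro (s : c.msect M n (X.basicOpen g))
      obtain ⟨N, t, ht⟩ := hl ((c.mbaseEquiv M n i hgD).symm s)
      refine ⟨N, c.mbaseEquiv M n i hWD t, ?_⟩
      refine (c.msectRes_mbase M i hWD (X.basicOpen_le g) t).trans ?_
      refine (congrArg (c.mbase n i hgD) ht).trans ?_
      exact ((c.mbaseEquiv M n i hgD).map_smul _ _).trans
        (congrArg (_ • ·) ((c.mbaseEquiv M n i hgD).apply_symm_apply s))
    · intro (t : c.msect M n W) (ht : c.msectRes (X.basicOpen_le g) t = 0)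
      obtain ⟨N, hN⟩ := hs ((c.mbaseEquiv M n i hWD).symm t) (by
        refine (c.mbaseEquiv M n i hgD).injective ?_
        refine (c.msectRes_mbase M i hWD (X.basicOpen_le g) _).symm.trans ?_
        rw [show c.mbase n i hWD ((c.mbaseEquiv M n i hWD).symm t) = t from
          (c.mbaseEquiv M n i hWD).apply_symm_apply t, ht]
        exact (map_zero _).symm)
      refine ⟨N, ?_⟩
      have h := congrArg (c.mbaseEquiv M n i hWD) hN
      rw [map_smul, LinearEquiv.apply_symm_apply, map_zero] at h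
      exact h

theorem finite_modTwist (n : ℕ) (hM : ∀ p : X, ∃ O : X.Opens, p ∈ O ∧ ∀ W : X.Opens, IsAffineOpen W → W ≤ O →
      Module.Finite Γ(X, W) Γ(M, W)) (p : X) :
    ∃ O : X.Opens, p ∈ O ∧ ∀ W : X.Opens, IsAffineOpen W → W ≤ O →
      Module.Finite Γ(X, W) Γ(c.modTwist M n, W) := by
  obtain ⟨i, hi⟩ := c.exists_mem p
  obtain ⟨O, hpO, hO⟩ := hM p
  refine ⟨c.D i ⊓ O, ⟨hi, hpO⟩, fun W hW hle => ?_⟩
  haveI := hO W hW (hle.trans inf_le_right)
  exact Module.Finite.of_surjective (c.mbaseEquiv M n i (hle.trans inf_le_left)).toLinearMap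
    (c.mbaseEquiv M n i (hle.trans inf_le_left)).surjective

end GrothLib.Ample.Cocycle
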