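import Groth.Agent.Lib.Ample.ProjSections

/-!
# A morphism to projective space is determined by the pulled-back coordinates
-/

universe u

set_option backward.isDefEq.respectTransparency false

open AlgebraicGeometry CategoryTheory CategoryTheory.Limits TopologicalSpace Opposite MvPolynomial
open GrothLib.InvExt (mres IsGen)

noncomputable section

namespace GrothLib.Ample.ProjMap

variable {n : ℕ} {R : Type u} [CommRing R] {Z : Scheme.{u}} (r : Z ⟶ CohB1.ProjSpace n R)

/-- The pulled-back ratio `X i / X k`. -/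
def pullRatio (k i : Fin (n + 1)) : Γ(Z, r ⁻¹ᵁ (pcoc n R).D ⟨k⟩) :=
  (r.appLE ((pcoc n R).D ⟨k⟩) (r ⁻¹ᵁ (pcoc n R).D ⟨k⟩) le_rfl).hom
    (Proj.awayToSection (CohB1.polyGrading n R) (X k) (ratio k i))

/-- The pulled-back coordinate. -/
abbrev pullCoord (i : Fin (n + 1)) : ProjUP.Γm ((Scheme.Modules.pullback r).obj (Twist.twistProjSpace n R 1)) :=
  ProjUP.pullSec r (Twist.twistProjSpace n R 1) (ProjUP.coord n R i)

theorem mres_coord_self (k : ULift.{u} (Fin (n + 1))) :
    mres (Twist.twistProjSpace n R 1) (le_top : (pcoc n R).D k ≤ ⊤) (ProjUP.coord n R k.down) =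
      (pcocIso n R).inv.app ((pcoc n R).D k) ((pcoc n R).base 1 k le_rfl) := by
  rw [coord_eq_smul_base k.down k]
  have h : (show Γ(Proj (CohB1.polyGrading n R), (pcoc n R).D k) from
      Proj.awayToSection (CohB1.polyGrading n R) (X k.down) (ratio k.down k.down)) = 1 := by
    refine ProjTwist.ev_ext fun y => ?_
    rw [ev_awayToSection_ratio, ProjTwist.ev_one]
    exact Localization.mk_self (⟨X k.down, y.2⟩ : y.1.asHomogeneousIdeal.toIdeal.primeCompl)
  refine (congrArg (fun t : Γ(Proj (CohB1.polyGrading n R), (pcoc n R).D k) =>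
    t • (pcocIso n R).inv.app ((pcoc n R).D k) ((pcoc n R).base 1 k le_rfl)) h).trans ?_
  exact one_smul _ _

theorem mres_pullCoord (k : ULift.{u} (Fin (n + 1))) (i : Fin (n + 1)) :
    mres ((Scheme.Modules.pullback r).obj (Twist.twistProjSpace n R 1)) (le_top : r ⁻¹ᵁ (pcoc n R).D k ≤ ⊤)
        (pullCoord r i) =
      pullRatio r k.down i • mres ((Scheme.Modules.pullback r).obj (Twist.twistProjSpace n R 1))
        (le_top : r ⁻¹ᵁ (pcoc n R).D k ≤ ⊤) (pullCoord r k.down) := by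
  let η := (Scheme.Modules.pullbackPushforwardAdjunction r).unit.app (Twist.twistProjSpace n R 1)
  have h : ∀ j, mres ((Scheme.Modules.pullback r).obj (Twist.twistProjSpace n R 1))
      (le_top : r ⁻¹ᵁ (pcoc n R).D k ≤ ⊤) (pullCoord r j) =
      η.app ((pcoc n R).D k) (mres (Twist.twistProjSpace n R 1) (le_top : (pcoc n R).D k ≤ ⊤) (ProjUP.coord n R j)) :=
    fun j => (app_mres η (le_top : (pcoc n R).D k ≤ ⊤) (ProjUP.coord n R j)).symm
  refine (h i).trans ?_
  refine (congrArg (η.app ((pcoc n R).D k)) ((coord_eq_smul_base i k).trans (congrArg (_ • ·)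
    (mres_coord_self k).symm))).trans ?_
  refine (app_smul η _ _).trans ?_
  exact (pushforward_smul r _ _ _).trans (congrArg (pullRatio r k.down i • ·) (h k.down).symm)

theorem isGen_pullCoord (k : ULift.{u} (Fin (n + 1))) :
    IsGen ((Scheme.Modules.pullback r).obj (Twist.twistProjSpace n R 1)) (r ⁻¹ᵁ (pcoc n R).D k)
      (mres _ (le_top : r ⁻¹ᵁ (pcoc n R).D k ≤ ⊤) (pullCoord r k.down)) := by
  let P : Cocycle (CohB1.ProjSpace n R) := pcoc n R
  let φ : Twist.twistProjSpace n R 1 ≅ P.twist 1 := pcocIso n R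
  haveI := P.isIso_pullHom r 1
  let θ := P.pullHom r 1 ≫ (Scheme.Modules.pullback r).map φ.inv
  have h1 := InvExt.IsGen.map θ ((P.comap r).isGen_base 1 (V := r ⁻¹ᵁ P.D k) k le_rfl) fun W _ =>
    ConcreteCategory.bijective_of_isIso (θ.app W)
  have h2 : θ.app (r ⁻¹ᵁ P.D k) ((P.comap r).base 1 (V := r ⁻¹ᵁ P.D k) k le_rfl) =
      mres _ (le_top : r ⁻¹ᵁ P.D k ≤ ⊤) (pullCoord r k.down) := by
    refine (congrArg (((Scheme.Modules.pullback r).map φ.inv).app (r ⁻¹ᵁ P.D k)) (P.pullHom_base r 1 k)).trans ?_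
    have h3 := congrArg (fun f : P.twist 1 ⟶ _ => f.app (P.D k) (P.base 1 k le_rfl))
      ((Scheme.Modules.pullbackPushforwardAdjunction r).unit.naturality φ.inv)
    refine h3.symm.trans ?_
    let η := (Scheme.Modules.pullbackPushforwardAdjunction r).unit.app (Twist.twistProjSpace n R 1)
    exact (congrArg (η.app (P.D k)) (mres_coord_self k).symm).trans
      (app_mres η (le_top : P.D k ≤ ⊤) (ProjUP.coord n R k.down))
  exact h2 ▸ h1

theorem basicOpen_pullRatio_le (k i : Fin (n + 1)) :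
    Z.basicOpen (pullRatio r k i) ≤ r ⁻¹ᵁ (pcoc n R).D ⟨i⟩ := by
  rw [pullRatio, Scheme.basicOpen_appLE]
  refine inf_le_right.trans (r.preimage_mono fun y hy => ?_)
  let s : Γ(Proj (CohB1.polyGrading n R), Proj.basicOpen (CohB1.polyGrading n R) (X k)) :=
    Proj.awayToSection (CohB1.polyGrading n R) (X k) (ratio k i)
  have hu := RingedSpace.isUnit_res_basicOpen (Proj (CohB1.polyGrading n R)).toRingedSpace s
  obtain ⟨v, hv⟩ := hu.exists_right_inv
  let y' : (Proj (CohB1.polyGrading n R)).basicOpen s := ⟨y, hy⟩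
  have h1 := congrArg (ProjTwist.ev y') hv
  have hyk : y ∈ Proj.basicOpen (CohB1.polyGrading n R) (X k) := (Proj (CohB1.polyGrading n R)).basicOpen_le s hy
  have h2 : ProjTwist.ev ⟨y, hyk⟩ s * ProjTwist.ev y' v = 1 :=
    ((ProjTwist.ev_mul _ v y').symm.trans h1).trans (ProjTwist.ev_one y')
  rw [ev_awayToSection_ratio, Localization.mk_eq_mk'] at h2
  exact fun hm => (IsLocalization.AtPrime.isUnit_mk'_iff _ y.asHomogeneousIdeal.toIdeal _ _).mp
    (IsUnit.of_mul_eq_one _ h2) hm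

theorem pullRatio_spec (k : Fin (n + 1)) :
    ∃ g : HomogeneousLocalization.Away (CohB1.polyGrading n R) (X k) →+* Γ((r ⁻¹ᵁ (pcoc n R).D ⟨k⟩ : Z.Opens), ⊤),
      (r ⁻¹ᵁ (pcoc n R).D ⟨k⟩).ι ≫ r = ProjPt.pt (CohB1.polyGrading n R) (X_mem k) one_pos g ∧
      ∀ j, g (ratio k j) = (r ⁻¹ᵁ (pcoc n R).D ⟨k⟩).topIso.inv (pullRatio r k j) := by
  let U : Z.Opens := r ⁻¹ᵁ (pcoc n R).D ⟨k⟩
  obtain ⟨g, hg⟩ := ProjPt.exists_eq_pt (CohB1.polyGrading n R) (X_mem k) one_pos (U.ι ≫ r)
    (top_le_iff.mp fun z _ => z.2)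
  refine ⟨g, hg, fun j => ?_⟩
  have key : ∀ (φ : (U : Scheme.{u}) ⟶ CohB1.ProjSpace n R) (e : _ ≤ φ ⁻¹ᵁ (pcoc n R).D ⟨k⟩), φ = U.ι ≫ r →
      (φ.appLE ((pcoc n R).D ⟨k⟩) ⊤ e).hom (Proj.awayToSection (CohB1.polyGrading n R) (X k) (ratio k j)) =
        U.topIso.inv (pullRatio r k j) := by
    rintro _ e rfl
    rw [← Scheme.Hom.appLE_comp_appLE U.ι r _ U ⊤ le_rfl U.ι_preimage_self.ge, CommRingCat.comp_apply,
      Scheme.Opens.ι_appLE]
    rfl
  refine (pt_appLE_awayToSection (CohB1.polyGrading n R) (X_mem k) one_pos g (ratio k j)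
    (ProjPt.pt_preimage_self _ _ _ _).ge).symm.trans ?_
  exact key _ _ hg.symm

theorem ext_of_iso (r r' : Z ⟶ CohB1.ProjSpace n R)
    (hrr' : r ≫ CohB1.ProjSpace.toSpec n R = r' ≫ CohB1.ProjSpace.toSpec n R)
    (τ : (Scheme.Modules.pullback r).obj (Twist.twistProjSpace n R 1) ≅
      (Scheme.Modules.pullback r').obj (Twist.twistProjSpace n R 1))
    (hτ : ∀ i, τ.hom.app ⊤ (pullCoord r i) = pullCoord r' i) : r = r' := by
  let L' := (Scheme.Modules.pullback r').obj (Twist.twistProjSpace n R 1)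
  let U : ULift.{u} (Fin (n + 1)) → Z.Opens := fun k => r ⁻¹ᵁ (pcoc n R).D k
  let U' : ULift.{u} (Fin (n + 1)) → Z.Opens := fun k => r' ⁻¹ᵁ (pcoc n R).D k
  have hgen : ∀ k, IsGen L' (U k) (mres L' (le_top : U k ≤ ⊤) (pullCoord r' k.down)) := fun k => by
    have h := InvExt.IsGen.map τ.hom (isGen_pullCoord r k) fun W _ =>
      ConcreteCategory.bijective_of_isIso (τ.hom.app W)
    rw [app_mres, hτ] at h
    exact h
  have hrel : ∀ k i, mres L' (le_top : U k ≤ ⊤) (pullCoord r' i) =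
      pullRatio r k.down i • mres L' (le_top : U k ≤ ⊤) (pullCoord r' k.down) := fun k i => by
    have h := congrArg (τ.hom.app (U k)) (mres_pullCoord r k i)
    rw [app_smul, app_mres, app_mres, hτ, hτ] at h
    exact h
  have hle : ∀ i, U i ≤ U' i := fun i x hx => by
    obtain ⟨k, hk⟩ := (pcoc n R).exists_mem (r' x)
    have hx' : x ∈ U i ⊓ U' k := ⟨hx, hk⟩
    obtain ⟨a, ha⟩ := (hgen i).exists_smul_eq (inf_le_left : U i ⊓ U' k ≤ U i)
      (mres L' (le_top : U i ⊓ U' k ≤ ⊤) (pullCoord r' k.down))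
    have h1 := congrArg (mres L' (inf_le_right : U i ⊓ U' k ≤ U' k)) (mres_pullCoord r' k i.down)
    rw [mres_smul', InvExt.mres_mres, InvExt.mres_mres] at h1
    have h2 : res (inf_le_right : U i ⊓ U' k ≤ U' k) (pullRatio r' k.down i.down) * a = 1 := by
      refine (hgen i).smul_left_injective (inf_le_left : U i ⊓ U' k ≤ U i) ?_
      rw [mul_smul, one_smul, InvExt.mres_mres]
      rw [InvExt.mres_mres] at ha
      exact (congrArg (res (inf_le_right : U i ⊓ U' k ≤ U' k) (pullRatio r' k.down i.down) • ·) ha.symm).trans h1.symm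
    have h3 : x ∈ Z.basicOpen (res (inf_le_right : U i ⊓ U' k ≤ U' k) (pullRatio r' k.down i.down)) := by
      rw [Scheme.basicOpen_of_isUnit _ (IsUnit.of_mul_eq_one _ h2)]; exact hx'
    rw [res, Scheme.basicOpen_res] at h3
    exact basicOpen_pullRatio_le r' k.down i.down h3.2
  refine Scheme.hom_ext_of_forall _ _ fun x => ?_
  obtain ⟨(k : ULift.{u} (Fin (n + 1))), hk⟩ := (pcoc n R).exists_mem (r x)
  refine ⟨U k, hk, ?_⟩
  have heq : ∀ j, pullRatio r k.down j = res (hle k) (pullRatio r' k.down j) := fun j => by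
    refine (hgen k).smul_left_injective le_rfl ?_
    rw [InvExt.mres_mres]
    refine (hrel k j).symm.trans ?_
    have h := congrArg (mres L' (hle k)) (mres_pullCoord r' k j)
    rw [mres_smul', InvExt.mres_mres, InvExt.mres_mres] at h
    exact h
  obtain ⟨g, hg, hgr⟩ := pullRatio_spec r k.down
  obtain ⟨g', hg', hgr'⟩ := pullRatio_spec r' k.down
  let j : (U k : Scheme.{u}) ⟶ U' k := Z.homOfLE (hle k)
  have e : (U k).ι ≫ r' = ProjPt.pt (CohB1.polyGrading n R) (X_mem k.down) one_pos (j.appTop.hom.comp g') := by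
    rw [← ProjPt.comp_pt, ← hg', ← Category.assoc]
    congr 1
    exact (Scheme.homOfLE_ι _ _).symm
  rw [e]
  refine hg.trans ?_
  congr 1
  refine awayHom_ext ?_ fun i => ?_
  · have h0 : (U k).ι ≫ r ≫ CohB1.ProjSpace.toSpec n R = (U k).ι ≫ r' ≫ CohB1.ProjSpace.toSpec n R :=
      congrArg ((U k).ι ≫ ·) hrr'
    have h : ProjPt.pt (CohB1.polyGrading n R) (X_mem k.down) one_pos g ≫ CohB1.ProjSpace.toSpec n R =
        ProjPt.pt (CohB1.polyGrading n R) (X_mem k.down) one_pos (j.appTop.hom.comp g') ≫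
          CohB1.ProjSpace.toSpec n R :=
      ((congrArg (· ≫ CohB1.ProjSpace.toSpec n R) hg).symm.trans (Category.assoc _ _ _)).trans
        (h0.trans ((Category.assoc _ _ _).symm.trans (congrArg (· ≫ CohB1.ProjSpace.toSpec n R) e)))
    exact congrArg CommRingCat.Hom.hom (ProjPt.toSpecΓ_comp_SpecMap_injective
      ((pt_toSpec k.down g).symm.trans (h.trans (pt_toSpec k.down (j.appTop.hom.comp g')))))
  · refine (hgr i).trans (Eq.trans ?_ (congrArg j.appTop.hom (hgr' i)).symm)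
    rw [heq]
    refine Eq.symm ((Data.appTop_topIso_inv (Y := Z) j (U k).ι (Scheme.homOfLE_ι _ _)
      (fun z _ => hle k z.2) _).trans ?_)
    rw [Scheme.Opens.ι_appLE]
    exact (res_res _ _ _).symm

end GrothLib.Ample.ProjMap
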