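import Groth.Agent.Lib.Ample.ProjSections
import Groth.Prelude.Def_LCI2
import Mathlib.AlgebraicGeometry.Morphisms.Immersion

/-!
# Very ampleness from sections with affine loci and generating ratios
-/

universe u

set_option backward.isDefEq.respectTransparency false

open AlgebraicGeometry CategoryTheory CategoryTheory.Limits TopologicalSpace Opposite
open GrothLib.InvExt (mres IsGen)

noncomputable section

namespace GrothLib.Ample

/-- An immersion criterion on affine opens of the target meeting the image. -/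
theorem isImmersion_of_affine_pieces {X P : Scheme.{u}} (i : X ⟶ P) {J : Type*} (O : J → P.Opens)
    (hO : ∀ j, IsAffineOpen (O j)) (hcov : ∀ x, ∃ j, i x ∈ O j) (haff : ∀ j, IsAffineOpen (i ⁻¹ᵁ O j))
    (hsurj : ∀ j, Function.Surjective (i.appLE (O j) (i ⁻¹ᵁ O j) le_rfl).hom) : IsImmersion i := by
  haveI : MorphismProperty.RespectsRight @IsImmersion.{u} @IsOpenImmersion.{u} :=
    ⟨fun i hi f hf => by haveI := hi; haveI := hf; exact inferInstance⟩
  refine IsZariskiLocalAtTarget.of_range_subset_iSup (P := @IsImmersion) O ?_ fun j => ?_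
  · rintro _ ⟨x, rfl⟩
    exact Opens.mem_iSup.mpr (hcov x)
  haveI : IsAffine (O j : Scheme.{u}) := hO j
  haveI : IsAffine (i ⁻¹ᵁ O j : Scheme.{u}) := haff j
  have key : ∀ (U : P.Opens) (V : X.Opens) (h : V ≤ i ⁻¹ᵁ U), U = O j → V = i ⁻¹ᵁ O j →
      Function.Surjective (i.appLE U V h).hom := by
    rintro _ _ h rfl rfl
    exact hsurj j
  haveI : IsClosedImmersion (i ∣_ O j) := IsClosedImmersion.of_surjective_of_isAffine _ (by
    rw [Scheme.Hom.appTop, morphismRestrict_app']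
    exact key _ _ _ (O j).ι_image_top (i ⁻¹ᵁ O j).ι_image_top)
  exact inferInstance

theorem isAffineOpen_inf_preimage {P P' Y : Scheme.{u}} (a : P' ⟶ P) (b : Y ⟶ P) [IsAffine P] {D : P'.Opens}
    {O : Y.Opens} (hD : IsAffineOpen D) (hO : IsAffineOpen O) :
    IsAffineOpen (pullback.fst a b ⁻¹ᵁ D ⊓ pullback.snd a b ⁻¹ᵁ O) := by
  let ι : pullback (hD.fromSpec ≫ a) (hO.fromSpec ≫ b) ⟶ pullback a b :=
    pullback.map _ _ _ _ hD.fromSpec hO.fromSpec (𝟙 _) (Category.comp_id _) (Category.comp_id _)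
  have h := isAffineOpen_opensRange ι
  have e : ι.opensRange = pullback.fst a b ⁻¹ᵁ D ⊓ pullback.snd a b ⁻¹ᵁ O := by
    apply Opens.ext
    change Set.range ι = _
    erw [Scheme.Pullback.range_map]
    rw [hD.range_fromSpec, hO.range_fromSpec]
    rfl
  rwa [e] at h

/-- Very ampleness from sections with affine loci lying over affine opens of the base. -/
theorem isRelVeryAmplePn_of_local_sections {X Y : Scheme.{u}} (f : X ⟶ Y) (c : Cocycle X) {L : X.Modules}
    (e : L ≅ c.twist 1) {N : ℕ} (a : Fin (N + 1) → c.sect 1 ⊤) (J : Set (Fin (N + 1)))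
    (hcov : ∀ x : X, ∃ j ∈ J, x ∈ c.locus (a j)) (haff : ∀ j ∈ J, IsAffineOpen (c.locus (a j)))
    (hgen : ∀ j ∈ J, ∃ (O : Y.Opens) (h : c.locus (a j) ≤ f ⁻¹ᵁ O), IsAffineOpen O ∧
      ∀ b : Γ(X, c.locus (a j)), b ∈ Subring.closure
        (Set.range (f.appLE O (c.locus (a j)) h).hom ∪
          {g | ∃ k, g • c.sectRes (le_top : c.locus (a j) ≤ ⊤) (a j) = c.sectRes le_top (a k)})) :
    RelAmple.IsRelVeryAmplePn f L := by
  choose O' hO'le hO'aff hgen using fun j : J => hgen j.1 j.2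
  let s : Fin (N + 1) → ProjUP.Γm L := fun k => e.inv.app ⊤ (a k)
  have hsec : ∀ k, ProjMap.sec c e s k = a k := fun k =>
    congrArg (fun φ : c.twist 1 ⟶ c.twist 1 => φ.app ⊤ (a k)) e.inv_hom_id
  have hs : ⨆ i, c.locus (ProjMap.sec c e s i) = ⊤ := eq_top_iff.mpr fun x _ => by
    obtain ⟨j, -, hx⟩ := hcov x
    exact Opens.mem_iSup.mpr ⟨j, by rw [hsec]; exact hx⟩
  let q : X ⟶ Spec (CommRingCat.of (ULift.{u} ℤ)) := specULiftZIsTerminal.from X
  let D := ProjMap.dataOfSections c e s hs q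
  obtain ⟨τ, -⟩ := ProjMap.exists_iso_pullback_map c e s hs q
  let i : X ⟶ CohB1.ProjSpaceOver N Y := pullback.lift D.map f (specULiftZIsTerminal.hom_ext _ _)
  let p1 : CohB1.ProjSpaceOver N Y ⟶ CohB1.ProjSpace N (ULift.{u} ℤ) := pullback.fst _ _
  have hfst : i ≫ p1 = D.map := pullback.lift_fst _ _ _
  have hsnd : i ≫ CohB1.ProjSpaceOver.toBase N Y = f := pullback.lift_snd _ _ _
  refine ⟨N, i, ?_, hsnd, ⟨τ.symm ≪≫ (Scheme.Modules.pullbackCongr hfst.symm).app _ ≪≫
    ((Scheme.Modules.pullbackComp i p1).app _).symm⟩⟩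
  let P := CohB1.polyGrading N (ULift.{u} ℤ)
  let Dp : Fin (N + 1) → (CohB1.ProjSpace N (ULift.{u} ℤ)).Opens := fun k => Proj.basicOpen P (MvPolynomial.X k)
  let O : J → (CohB1.ProjSpaceOver N Y).Opens := fun j =>
    p1 ⁻¹ᵁ Dp j.1 ⊓ CohB1.ProjSpaceOver.toBase N Y ⁻¹ᵁ O' j
  have hU : ∀ k, D.U k = c.locus (a k) := fun k => congrArg c.locus (hsec k)
  have hpre : ∀ j : J, i ⁻¹ᵁ O j = D.U j.1 := fun j => by
    rw [Scheme.Hom.preimage_inf, ← Scheme.Hom.comp_preimage, ← Scheme.Hom.comp_preimage, hfst, hsnd]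
    exact (congrArg (· ⊓ f ⁻¹ᵁ O' j) (D.map_preimage j.1)).trans (inf_eq_left.mpr ((hU j.1).le.trans (hO'le j)))
  refine isImmersion_of_affine_pieces i O
    (fun j => isAffineOpen_inf_preimage _ _ (Proj.isAffineOpen_basicOpen P _ (ProjMap.X_mem j.1) one_pos) (hO'aff j))
    (fun x => by
      obtain ⟨j, hj, hx⟩ := hcov x
      exact ⟨⟨j, hj⟩, show x ∈ i ⁻¹ᵁ O ⟨j, hj⟩ by rw [hpre, hU]; exact hx⟩)
    (fun j => by rw [hpre, hU]; exact haff j.1 j.2) fun j => ?_
  have hle : c.locus (a j.1) ≤ i ⁻¹ᵁ O j := by rw [hpre, hU]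
  suffices h : Function.Surjective (i.appLE (O j) (c.locus (a j.1)) hle).hom by
    have key : ∀ (V : X.Opens) (hV : V ≤ i ⁻¹ᵁ O j), V = c.locus (a j.1) →
        Function.Surjective (i.appLE (O j) V hV).hom := by
      rintro _ hV rfl
      exact h
    exact key _ _ ((hpre j).trans (hU j.1))
  intro b
  have hb : b ∈ (i.appLE (O j) (c.locus (a j.1)) hle).hom.range := by
    refine (Subring.closure_le.mpr ?_) (hgen j b)
    rintro g (⟨y, rfl⟩ | ⟨k, hk⟩)
    · refine ⟨((CohB1.ProjSpaceOver.toBase N Y).appLE (O' j) (O j) inf_le_right).hom y, ?_⟩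
      rw [← CommRingCat.comp_apply, Scheme.Hom.appLE_comp_appLE]
      have key : ∀ (φ : X ⟶ Y) (h : c.locus (a j.1) ≤ φ ⁻¹ᵁ O' j), φ = f →
          (φ.appLE (O' j) (c.locus (a j.1)) h).hom y = (f.appLE (O' j) (c.locus (a j.1)) (hO'le j)).hom y := by
        rintro _ h rfl; rfl
      exact key _ _ hsnd
    · refine ⟨(p1.appLE (Dp j.1) (O j) inf_le_left).hom (Proj.awayToSection P (MvPolynomial.X j.1) (ProjMap.ratio j.1 k)), ?_⟩
      rw [← CommRingCat.comp_apply, Scheme.Hom.appLE_comp_appLE]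
      have key : ∀ (φ : X ⟶ CohB1.ProjSpace N (ULift.{u} ℤ)) (h : c.locus (a j.1) ≤ φ ⁻¹ᵁ Dp j.1), φ = D.map →
          (φ.appLE (Dp j.1) (c.locus (a j.1)) h).hom
            (Proj.awayToSection P (MvPolynomial.X j.1) (ProjMap.ratio j.1 k)) = g := by
        rintro _ h rfl
        rw [D.map_appLE_ratio j.1 k (hU j.1).ge h]
        refine c.smul_injective_of_le_locus (a j.1) le_rfl (Eq.trans ?_ hk.symm)
        have h0 := congrArg (c.sectRes (show c.locus (a j.1) ≤ c.locus (ProjMap.sec c e s j.1) from (hU j.1).ge))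
          (c.exists_ratio (ProjMap.sec c e s j.1) (ProjMap.sec c e s k)).choose_spec.1
        rw [c.sectRes_smul, c.sectRes_sectRes, c.sectRes_sectRes] at h0
        exact (congrArg (res (hU j.1).ge (D.φ j.1 k) • ·) (congrArg (c.sectRes le_top) (hsec j.1).symm)).trans
          (h0.symm.trans (congrArg (c.sectRes le_top) (hsec k)))
      exact key _ _ hfst
  exact hb

/-- Very ampleness over an affine base from sections. -/
theorem isRelVeryAmplePn_of_sections {X Y : Scheme.{u}} [IsAffine Y] (f : X ⟶ Y) (c : Cocycle X) {L : X.Modules}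
    (e : L ≅ c.twist 1) {N : ℕ} (a : Fin (N + 1) → c.sect 1 ⊤) (J : Set (Fin (N + 1)))
    (hcov : ∀ x : X, ∃ j ∈ J, x ∈ c.locus (a j)) (haff : ∀ j ∈ J, IsAffineOpen (c.locus (a j)))
    (hgen : ∀ j ∈ J, ∀ b : Γ(X, c.locus (a j)), b ∈ Subring.closure
      (Set.range (f.appLE ⊤ (c.locus (a j)) le_top).hom ∪
        {g | ∃ k, g • c.sectRes (le_top : c.locus (a j) ≤ ⊤) (a j) = c.sectRes le_top (a k)})) :
    RelAmple.IsRelVeryAmplePn f L :=
  isRelVeryAmplePn_of_local_sections f c e a J hcov haff fun j hj => ⟨⊤, le_top, isAffineOpen_top Y, hgen j hj⟩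

end GrothLib.Ample
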