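import Groth.Agent.Lib.Ample.Criterion
import Groth.Agent.Lib.Ample.Comap

/-!
# Pulling back cocycles, twists and ampleness
-/

universe u

set_option backward.isDefEq.respectTransparency false

open AlgebraicGeometry CategoryTheory CategoryTheory.Limits TopologicalSpace Opposite
open GrothLib.InvExt (mres IsGen)

noncomputable section

namespace GrothLib.Ample

variable {X Y : Scheme.{u}}

theorem pushforward_smul (j : Y ⟶ X) (M : Y.Modules) {V : X.Opens} (r : Γ(X, V)) (m : Γ(M, j ⁻¹ᵁ V)) :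
    (show Γ(M, j ⁻¹ᵁ V) from r • (show Γ((Scheme.Modules.pushforward j).obj M, V) from m)) =
      (j.appLE V (j ⁻¹ᵁ V) le_rfl).hom r • m := by
  rw [← Scheme.Hom.app_eq_appLE]
  rfl

namespace Cocycle

variable (c : Cocycle X) (j : Y ⟶ X) {n : ℕ}

/-- Pullback of a cocycle. -/
def comap : Cocycle Y where
  ι := c.ι
  D i := j ⁻¹ᵁ c.D i
  g i k := (j.appLE (c.D i ⊓ c.D k) (j ⁻¹ᵁ c.D i ⊓ j ⁻¹ᵁ c.D k) le_rfl).hom (c.g i k)
  cover := by rw [← Scheme.Hom.preimage_iSup, c.cover, Scheme.Hom.preimage_top]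
  self i W h := by
    have h' := congrArg (j.appLE (c.D i) W h).hom (c.self i (c.D i) le_rfl)
    rw [appLE_res, map_one] at h'
    rw [res_appLE]
    exact h'
  change i k l W hi hk hl := by
    have e : W ≤ j ⁻¹ᵁ (c.D i ⊓ c.D k ⊓ c.D l) := le_inf (le_inf hi hk) hl
    have h := congrArg (j.appLE _ W e).hom (c.change i k l (c.D i ⊓ c.D k ⊓ c.D l)
      (inf_le_left.trans inf_le_left) (inf_le_left.trans inf_le_right) inf_le_right)
    rw [map_mul, appLE_res, appLE_res, appLE_res] at h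
    rw [res_appLE, res_appLE, res_appLE]
    exact h

theorem comap_G (i k : c.ι) {W : Y.Opens} (hi : W ≤ j ⁻¹ᵁ c.D i) (hk : W ≤ j ⁻¹ᵁ c.D k) :
    (c.comap j).G i k hi hk = (j.appLE (c.D i ⊓ c.D k) W (le_inf hi hk)).hom (c.g i k) :=
  res_appLE _ _ _ _

theorem appLE_G (i k : c.ι) {V : X.Opens} (hi : V ≤ c.D i) (hk : V ≤ c.D k) {W : Y.Opens}
    (e : W ≤ j ⁻¹ᵁ V) :
    (j.appLE V W e).hom (c.G i k hi hk) =
      (c.comap j).G i k (e.trans (j.preimage_mono hi)) (e.trans (j.preimage_mono hk)) := by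
  rw [comap_G]
  exact appLE_res _ _ _ _

/-- Pullback of families along a morphism. -/
def pullSect {U : X.Opens} {V : Y.Opens} (h : V ≤ j ⁻¹ᵁ U) : c.sect n U →+ (c.comap j).sect n V where
  toFun a := ⟨fun i => (j.appLE (U ⊓ c.D i) (V ⊓ j ⁻¹ᵁ c.D i) (inf_le_inf_right _ h)).hom (a.1 i),
    fun i k W hi hk => by
      have hW : W ≤ j ⁻¹ᵁ ((U ⊓ c.D i) ⊓ (U ⊓ c.D k)) :=
        le_inf (hi.trans (inf_le_inf_right _ h)) (hk.trans (inf_le_inf_right _ h))
      have e := congrArg (j.appLE _ _ hW).hom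
        (c.sect_spec a i k (inf_le_left : (U ⊓ c.D i) ⊓ (U ⊓ c.D k) ≤ _) inf_le_right)
      rw [map_mul, map_pow, appLE_res, appLE_res, appLE_G] at e
      erw [res_appLE, res_appLE]
      exact e⟩
  map_zero' := (c.comap j).sect_ext fun i => map_zero (j.appLE _ _ _).hom
  map_add' a b := (c.comap j).sect_ext fun i => map_add (j.appLE _ _ _).hom _ _

theorem pullSect_apply {U : X.Opens} {V : Y.Opens} (h : V ≤ j ⁻¹ᵁ U) (a : c.sect n U) (i : c.ι) :
    (c.pullSect j h a).1 i =
      (j.appLE (U ⊓ c.D i) (V ⊓ j ⁻¹ᵁ c.D i) (inf_le_inf_right _ h)).hom (a.1 i) := rfl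

theorem locus_pullSect (a : c.sect n ⊤) :
    (c.comap j).locus (c.pullSect j (le_top : (⊤ : Y.Opens) ≤ j ⁻¹ᵁ ⊤) a) = j ⁻¹ᵁ c.locus a := by
  ext p
  simp only [SetLike.mem_coe]
  obtain ⟨i, hi⟩ := (c.comap j).exists_mem p
  rw [(c.comap j).mem_locus_iff _ hi, Scheme.Hom.mem_preimage, c.mem_locus_iff a (i := i) hi]
  show p ∈ Y.basicOpen ((j.appLE _ _ _).hom (a.1 i)) ↔ _
  rw [Scheme.basicOpen_appLE]
  exact ⟨fun h => h.2, fun h => ⟨⟨trivial, hi⟩, h⟩⟩

theorem bijective_pullSect [IsOpenImmersion j] (V : Y.Opens) :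
    Function.Bijective (c.pullSect (n := n) j (LineData.le_preimage_image j V)) := by
  have hb : ∀ i : c.ι, Function.Bijective
      (j.appLE (j ''ᵁ V ⊓ c.D i) (V ⊓ j ⁻¹ᵁ c.D i) (inf_le_inf_right _ (LineData.le_preimage_image j V))).hom :=
    fun i => bijective_appLE_of_eq j (inf_le_left.trans (j.image_le_opensRange V))
      (by rw [Scheme.Hom.preimage_inf, j.preimage_image_eq])
  constructor
  · intro a b h
    exact c.sect_ext fun i => (hb i).1 (congrArg (fun t : (c.comap j).sect n V => t.1 i) h)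
  · intro t
    choose a ha using fun i => (hb i).2 (t.1 i)
    refine ⟨⟨a, fun i k W hi hk => ?_⟩, (c.comap j).sect_ext ha⟩
    have hWr : W ≤ j.opensRange := hi.trans (inf_le_left.trans (j.image_le_opensRange V))
    apply (bijective_appLE_of_eq j hWr rfl).1
    have hW' : j ⁻¹ᵁ W ≤ V ⊓ j ⁻¹ᵁ c.D i := by
      refine (j.preimage_mono hi).trans ?_
      rw [Scheme.Hom.preimage_inf, j.preimage_image_eq]
    have hW'' : j ⁻¹ᵁ W ≤ V ⊓ j ⁻¹ᵁ c.D k := by
      refine (j.preimage_mono hk).trans ?_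
      rw [Scheme.Hom.preimage_inf, j.preimage_image_eq]
    have h := (c.comap j).sect_spec t i k hW' hW''
    rw [← ha i, ← ha k] at h
    erw [res_appLE, res_appLE] at h
    rw [map_mul, map_pow, appLE_res, appLE_res, appLE_G]
    exact h

theorem isFamily_push (n : ℕ) :
    c.IsFamily n (M := (Scheme.Modules.pushforward j).obj ((c.comap j).twist n))
      fun i => (c.comap j).base n (V := j ⁻¹ᵁ c.D i) i le_rfl := by
  intro i k W hi hk
  refine Eq.trans ?_ (pushforward_smul j ((c.comap j).twist n) (V := W) (c.G i k hi hk ^ n)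
    ((c.comap j).sectRes (j.preimage_mono hi) ((c.comap j).base n (V := j ⁻¹ᵁ c.D i) i le_rfl))).symm
  rw [map_pow, appLE_G, sectRes_base]
  refine Eq.trans ?_ ((c.comap j).base_eq_smul_base n i k (j.preimage_mono hi) (j.preimage_mono hk))
  exact (c.comap j).sectRes_base n k (V := j ⁻¹ᵁ c.D k) le_rfl (j.preimage_mono hk)

/-- The comparison map of a twist with the pushforward of the pulled-back twist. -/
def pushHom (n : ℕ) : c.twist n ⟶ (Scheme.Modules.pushforward j).obj ((c.comap j).twist n) :=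
  c.homOfFamily (c.isFamily_push j n)

theorem pushHom_base (n : ℕ) (i : c.ι) :
    (c.pushHom j n).app (c.D i) (c.base n i le_rfl) = (c.comap j).base n (V := j ⁻¹ᵁ c.D i) i le_rfl := by
  refine (c.homOfFamily_base _ i le_rfl).trans ?_
  exact InvExt.mres_self _ _

/-- The value of the unit on a base section, as a section of the pullback. -/
def pullBase (n : ℕ) (i : c.ι) : Γ((Scheme.Modules.pullback j).obj (c.twist n), j ⁻¹ᵁ c.D i) :=
  ((Scheme.Modules.pullbackPushforwardAdjunction j).unit.app (c.twist n)).app (c.D i) (c.base n i le_rfl)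

theorem mres_pullBase (n : ℕ) (i : c.ι) {W : X.Opens} (h : W ≤ c.D i) :
    mres ((Scheme.Modules.pullback j).obj (c.twist n)) (j.preimage_mono h) (c.pullBase j n i) =
      ((Scheme.Modules.pullbackPushforwardAdjunction j).unit.app (c.twist n)).app W (c.base n i h) := by
  rw [← c.sectRes_base n i le_rfl h]
  exact (app_mres ((Scheme.Modules.pullbackPushforwardAdjunction j).unit.app (c.twist n)) h
    (c.base n i le_rfl)).symm

theorem isFamily_pull (n : ℕ) : (c.comap j).IsFamily n (c.pullBase j n) := by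
  intro (i : c.ι) (k : c.ι) W (hi : W ≤ j ⁻¹ᵁ c.D i) (hk : W ≤ j ⁻¹ᵁ c.D k)
  let P := (Scheme.Modules.pullback j).obj (c.twist n)
  let V : X.Opens := c.D i ⊓ c.D k
  have hW : W ≤ j ⁻¹ᵁ V := le_inf hi hk
  let η := (Scheme.Modules.pullbackPushforwardAdjunction j).unit.app (c.twist n)
  have h1 : η.app V (c.base n k (inf_le_right : V ≤ c.D k)) =
      c.G i k (inf_le_left : V ≤ c.D i) inf_le_right ^ n • η.app V (c.base n i (inf_le_left : V ≤ c.D i)) := by
    rw [c.base_eq_smul_base n i k (inf_le_left : V ≤ c.D i) inf_le_right]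
    exact app_smul η _ _
  have h2 : mres P (j.preimage_mono (inf_le_right : V ≤ c.D k)) (c.pullBase j n k) =
      (j.appLE V (j ⁻¹ᵁ V) le_rfl).hom (c.G i k (inf_le_left : V ≤ c.D i) inf_le_right ^ n) •
        mres P (j.preimage_mono (inf_le_left : V ≤ c.D i)) (c.pullBase j n i) := by
    rw [c.mres_pullBase j n k (inf_le_right : V ≤ c.D k), c.mres_pullBase j n i (inf_le_left : V ≤ c.D i)]
    exact h1.trans (pushforward_smul j P _ _)
  have h3 := congrArg (mres P hW) h2
  rw [InvExt.mres_mres, mres_smul', InvExt.mres_mres, res_appLE, map_pow, appLE_G] at h3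
  exact h3

/-- The comparison map from the pulled-back twist. -/
def pullHom (n : ℕ) : (c.comap j).twist n ⟶ (Scheme.Modules.pullback j).obj (c.twist n) :=
  (c.comap j).homOfFamily (c.isFamily_pull j n)

theorem pullHom_base (n : ℕ) (i : c.ι) :
    (c.pullHom j n).app (j ⁻¹ᵁ c.D i) ((c.comap j).base n (V := j ⁻¹ᵁ c.D i) i le_rfl) = c.pullBase j n i :=
  ((c.comap j).homOfFamily_base _ i le_rfl).trans (InvExt.mres_self _ _)

/-- The pullback of a twist is the twist of the pullback. -/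
theorem nonempty_pullback_twist (n : ℕ) :
    Nonempty ((Scheme.Modules.pullback j).obj (c.twist n) ≅ (c.comap j).twist n) := by
  let adj := Scheme.Modules.pullbackPushforwardAdjunction j
  let θ := (adj.homEquiv (c.twist n) ((c.comap j).twist n)).symm (c.pushHom j n)
  have hθ : adj.unit.app (c.twist n) ≫ (Scheme.Modules.pushforward j).map θ = c.pushHom j n := by
    exact (adj.homEquiv_unit (c.twist n) ((c.comap j).twist n) θ).symm.trans (Equiv.apply_symm_apply _ _)
  have e1 : c.pullHom j n ≫ θ = 𝟙 _ := by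
    refine (c.comap j).hom_ext fun i => ?_
    show θ.app _ ((c.pullHom j n).app (j ⁻¹ᵁ c.D i) ((c.comap j).base n (V := j ⁻¹ᵁ c.D i) i le_rfl)) = _
    rw [c.pullHom_base]
    have h := congrArg (fun f : c.twist n ⟶ _ => f.app (c.D i) (c.base n i le_rfl)) hθ
    exact h.trans (c.pushHom_base j n i)
  have e2 : θ ≫ c.pullHom j n = 𝟙 _ := by
    refine (adj.homEquiv _ _).injective ?_
    rw [adj.homEquiv_unit, adj.homEquiv_unit, Functor.map_comp, ← Category.assoc, hθ,
      CategoryTheory.Functor.map_id]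
    refine Eq.trans ?_ (Category.comp_id (adj.unit.app (c.twist n))).symm
    refine c.hom_ext fun i => ?_
    show (c.pullHom j n).app (j ⁻¹ᵁ c.D i) ((c.pushHom j n).app (c.D i) (c.base n i le_rfl)) = _
    rw [c.pushHom_base]
    exact c.pullHom_base j n i
  exact ⟨⟨θ, c.pullHom j n, e2, e1⟩⟩

theorem nonempty_pullback_iso {L : X.Modules} (e : L ≅ c.twist n) :
    Nonempty ((Scheme.Modules.pullback j).obj L ≅ (c.comap j).twist n) :=
  ⟨(Scheme.Modules.pullback j).mapIso e ≪≫ (c.nonempty_pullback_twist j n).some⟩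

theorem nonempty_restrict_iso [IsOpenImmersion j] {L : X.Modules} (e : L ≅ c.twist n) :
    Nonempty (L.restrict j ≅ (c.comap j).twist n) :=
  ⟨(Scheme.Modules.restrictFunctorIsoPullback j).app L ≪≫ (c.nonempty_pullback_iso j e).some⟩

end Cocycle

theorem isInvertible_pullback (j : Y ⟶ X) {L : X.Modules} (hL : PicF.IsInvertible L) :
    PicF.IsInvertible ((Scheme.Modules.pullback j).obj L) := by
  obtain ⟨c, ⟨e⟩⟩ := exists_cocycle hL
  obtain ⟨d⟩ := c.nonempty_pullback_iso j e
  exact (c.comap j).isInvertible_of_iso d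

end GrothLib.Ample
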