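import Groth.Agent.Lib.Ample.Twisting

/-!
# Ampleness of a relatively ample module twisted by high powers of an ample one
-/

universe u

set_option backward.isDefEq.respectTransparency false

open AlgebraicGeometry CategoryTheory CategoryTheory.Limits TopologicalSpace Opposite
open GrothLib.InvExt (mres)

noncomputable section

namespace GrothLib.Ample

variable {X : Scheme.{u}}

theorem mem_basicOpen_res {V W : X.Opens} (h : W ≤ V) (f : Γ(X, V)) {y : X} :
    y ∈ X.basicOpen (res h f) ↔ y ∈ W ∧ y ∈ X.basicOpen f := by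
  rw [res, Scheme.basicOpen_res]
  exact Iff.rfl

namespace Cocycle

variable (c c' : Cocycle X) {d e k : ℕ}

theorem combine_aux {R : Type*} [CommRing R] (A B u v : R) {d e k r n : ℕ}
    (h : e * k + k * r = n * (d * k)) :
    ((A ^ e * B ^ d) ^ 1 * u) ^ k * (A ^ k * v) ^ r = (B * A ^ n) ^ (d * k) * (u ^ k * v ^ r) := by
  rw [pow_one, mul_pow, mul_pow, mul_pow, mul_pow, ← pow_mul A n, ← h]
  ring

/-- A mixed section to the power `k` times a power of a section of the second cocycle. -/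
def combine (b : c'.msect ((c.pow d).twist 1) e ⊤) (a : c'.sect k ⊤) (r n : ℕ)
    (h : e * k + k * r = n * (d * k)) : (c.prod (c'.pow n)).sect (d * k) ⊤ :=
  ⟨fun p => res (inf_le_inf_left (⊤ : X.Opens) (le_inf inf_le_right inf_le_left))
        ((c'.mixSect (c.pow d) b).1 (p.2, p.1)) ^ k *
      res (inf_le_inf_left (⊤ : X.Opens) inf_le_right) (a.1 p.2) ^ r,
    fun (p : c.ι × c'.ι) (q : c.ι × c'.ι) W hp hq => by
      have hcomm : ∀ p : c.ι × c'.ι, (c.prod (c'.pow n)).D p ≤ c'.D p.2 ⊓ c.D p.1 :=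
        fun p => le_inf inf_le_right inf_le_left
      have hp' := hp.trans (inf_le_inf_left _ (hcomm p))
      have hq' := hq.trans (inf_le_inf_left _ (hcomm q))
      have h1 := ((c'.pow e).prod (c.pow d)).sect_spec (c'.mixSect (c.pow d) b) (p.2, p.1) (q.2, q.1) hp' hq'
      have h2 := c'.sect_spec a p.2 q.2 (hp'.trans (inf_le_inf_left _ inf_le_left))
        (hq'.trans (inf_le_inf_left _ inf_le_left))
      erw [prod_G, pow_G, pow_G] at h1
      erw [prod_G, pow_G]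
      simp only [map_mul, map_pow] at h1 h2 ⊢
      refine (congrArg₂ (fun x y : Γ(X, W) => x ^ k * y ^ r) ((res_res _ hp _).trans h1)
        ((res_res _ hp _).trans h2)).trans ?_
      refine Eq.trans ?_ (congrArg (_ * ·) (congrArg₂ (fun x y : Γ(X, W) => x ^ k * y ^ r)
        (res_res _ hq _).symm (res_res _ hq _).symm))
      exact combine_aux _ _ _ _ h⟩

theorem locus_combine (b : c'.msect ((c.pow d).twist 1) e ⊤) (a : c'.sect k ⊤) {r n : ℕ} (hk : 0 < k)
    (hr : 0 < r) (h : e * k + k * r = n * (d * k)) :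
    (c.prod (c'.pow n)).locus (c.combine c' b a r n h) =
      ((c'.pow e).prod (c.pow d)).locus (c'.mixSect (c.pow d) b) ⊓ c'.locus a := by
  ext x
  obtain ⟨i, hi⟩ := c.exists_mem x
  obtain ⟨l, hl⟩ := c'.exists_mem x
  have h1 : x ∈ (c.prod (c'.pow n)).D (i, l) := ⟨hi, hl⟩
  have h2 : x ∈ ((c'.pow e).prod (c.pow d)).D (l, i) := ⟨hl, hi⟩
  simp only [SetLike.mem_coe, Opens.mem_inf]
  rw [(c.prod (c'.pow n)).mem_locus_iff _ h1, ((c'.pow e).prod (c.pow d)).mem_locus_iff _ h2,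
    c'.mem_locus_iff a hl]
  show x ∈ X.basicOpen (res _ _ ^ k * res _ _ ^ r) ↔ _
  rw [Scheme.basicOpen_mul, Scheme.basicOpen_pow _ _ hk, Scheme.basicOpen_pow _ _ hr, Opens.mem_inf]
  exact and_congr ((mem_basicOpen_res _ _).trans (and_iff_right ⟨trivial, hi, hl⟩))
    ((mem_basicOpen_res _ _).trans (and_iff_right ⟨trivial, hi, hl⟩))

/-- If `c` is ample on each member of a cover by loci of `c'`, then `c` twisted by a high power of `c'` is ample. -/
theorem eventually_isAmp_prod_pow [CompactSpace X] (hk : 0 < k) {T : Type*} [Finite T]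
    (a : T → c'.sect k ⊤) (hcov : ∀ x : X, ∃ t, x ∈ c'.locus (a t))
    (hA : ∀ t, CohB1.IsAmple ((c.twist 1).restrict (c'.locus (a t)).ι)) :
    ∃ n₀ : ℕ, ∀ n, n₀ ≤ n → (c.prod (c'.pow n)).IsAmp := by
  classical
  haveI : QuasiSeparatedSpace X := by
    refine QuasiSeparatedSpace.of_isOpenCover (U := fun t => c'.locus (a t))
      (IsOpenCover.mk (eq_top_iff.mpr fun x _ => Opens.mem_iSup.mpr (hcov x))) (fun t => ?_) fun t => ?_
    · haveI := c'.isAffineHom_locus_ι (a t)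
      exact IsRetrocompact_iff_isSpectralMap_subtypeVal.mpr (c'.locus (a t)).ι.isSpectralMap
    · exact (isQuasiSeparated_iff_quasiSeparatedSpace _ (c'.locus (a t)).2).mpr
        (quasiSeparatedSpace_of_isAmple (hA t))
  choose tx htx using hcov
  have hex : ∀ x : X, ∃ (m : ℕ) (a' : (c.comap (c'.locus (a (tx x))).ι).sect (m + 1) ⊤),
      (⟨x, htx x⟩ : (c'.locus (a (tx x)) : X.Opens)) ∈ (c.comap (c'.locus (a (tx x))).ι).locus a' ∧
      IsAffineOpen ((c.comap (c'.locus (a (tx x))).ι).locus a') := fun x => by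
    obtain ⟨f⟩ := c.nonempty_restrict_iso (c'.locus (a (tx x))).ι (Iso.refl (c.twist 1))
    exact (((c.comap _).isAmple_iff f).mp (hA (tx x))).2 _
  choose deg a' hmem haff using hex
  obtain ⟨s, hs⟩ := isCompact_univ.elim_finite_subcover
    (fun x => (((c'.locus (a (tx x))).ι ''ᵁ (c.comap _).locus (a' x) : X.Opens) : Set X))
    (fun x => ((c'.locus (a (tx x))).ι ''ᵁ (c.comap _).locus (a' x)).2)
    (fun x _ => Set.mem_iUnion.mpr ⟨x, _, hmem x, rfl⟩)
  let d := ∏ x ∈ s, (deg x + 1)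
  have hd : 0 < d := Finset.prod_pos fun x _ => Nat.succ_pos _
  have hdvd : ∀ x : s, deg x.1 + 1 ∣ d := fun x => Finset.dvd_prod_of_mem _ x.2
  choose q hq using hdvd
  have hq0 : ∀ x : s, 0 < q x := fun x => pos_of_mul_pos_right (hq x ▸ hd) (Nat.zero_le _)
  let A : ∀ x : s, (c.comap (c'.locus (a (tx x.1))).ι).sect d ⊤ := fun x =>
    (c.comap _).sectCast (hq x).symm ((c.comap _).sectPow (a' x.1) (q x))
  have hAl : ∀ x : s, (c.comap _).locus (A x) = (c.comap _).locus (a' x.1) := fun x =>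
    ((c.comap _).locus_sectCast _ _).trans ((c.comap _).locus_sectPow _ (hq0 x))
  choose β₀ hβ₀ using fun x : s => (c.bijective_pullSect (c'.locus (a (tx x.1))).ι (n := d) ⊤).2 (A x)
  let M := (c.pow d).twist 1
  haveI : M.IsQuasicoherent := InvExt.isQuasicoherent_of_isInvertible ((c.pow d).isInvertible_twist 1)
  have hle : ∀ x : s, c'.locus (a (tx x.1)) ≤ (c'.locus (a (tx x.1))).ι ''ᵁ ⊤ := fun x => by
    rw [Scheme.Opens.ι_image_top]
  let β₁ : ∀ x : s, (c.pow d).sect 1 (c'.locus (a (tx x.1))) := fun x =>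
    c.toPow d (c.sectCast (mul_one d).symm (c.sectRes (hle x) (β₀ x)))
  let β : ∀ x : s, c'.msect M 0 (c'.locus (a (tx x.1))) := fun x =>
    ⟨fun l => (c.pow d).sectRes inf_le_left (β₁ x), fun i j W hi hj => by
      rw [pow_zero, one_smul]
      exact ((c.pow d).sectRes_sectRes _ hi (β₁ x)).trans ((c.pow d).sectRes_sectRes _ hj (β₁ x)).symm⟩
  obtain ⟨m₀, hext⟩ := c'.exists_mextend_uniform (M := M) (d := 0) (fun x : s => a (tx x.1)) β
  let m := m₀ + 1
  refine ⟨k * m + 1, fun n hn p => ?_⟩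
  obtain ⟨x, hxs, hp⟩ := Set.mem_iUnion₂.mp (hs (Set.mem_univ p))
  obtain ⟨b, hb⟩ := hext m (Nat.le_succ m₀) ⟨x, hxs⟩
  have hnd : k * m < n * d := lt_of_lt_of_le hn (Nat.le_mul_of_pos_right n hd)
  have heq : (0 + k * m) * k + k * (n * d - k * m) = n * (d * k) := by
    rw [zero_add, mul_comm (k * m) k, ← mul_add, Nat.add_sub_cancel' hnd.le]; ring
  obtain ⟨N, hN⟩ : ∃ N, d * k = N + 1 := ⟨d * k - 1, by have := Nat.mul_pos hd hk; omega⟩
  refine ⟨N, (c.prod (c'.pow n)).sectCast hN (c.combine c' b (a (tx x)) _ n heq), ?_⟩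
  have key : (c.prod (c'.pow n)).locus (c.combine c' b (a (tx x)) _ n heq) =
      (c'.locus (a (tx x))).ι ''ᵁ (c.comap _).locus (a' x) := by
    rw [locus_combine _ _ _ _ hk (Nat.sub_pos_of_lt hnd)]
    ext y
    simp only [SetLike.mem_coe, Opens.mem_inf]
    by_cases hy : y ∈ c'.locus (a (tx x))
    swap
    · exact ⟨fun h => absurd h.2 hy, fun h => absurd
        (show y ∈ c'.locus (a (tx x)) from
          ((c'.locus (a (tx x))).ι.image_mono le_top).trans_eq (c'.locus (a (tx x))).ι_image_top h) hy⟩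
    obtain ⟨i, hi⟩ := c.exists_mem y
    obtain ⟨l, hl⟩ := c'.exists_mem y
    have hli : y ∈ ((c'.pow (0 + k * m)).prod (c.pow d)).D (l, i) := ⟨hl, hi⟩
    rw [((c'.pow (0 + k * m)).prod (c.pow d)).mem_locus_iff _ hli]
    have hpow : y ∈ X.basicOpen ((res (inf_le_inf_right (c'.D l) (le_top : c'.locus (a (tx x)) ≤ ⊤))
        ((a (tx x)).1 l)) ^ m) := by
      rw [Scheme.basicOpen_pow _ _ (Nat.succ_pos _), Scheme.basicOpen_res]
      exact ⟨⟨hy, hl⟩, (c'.mem_locus_iff _ hl).mp hy⟩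
    have hbase : y ∈ (c'.locus (a (tx x))).ι ''ᵁ (c.comap _).locus (a' x) ↔
        y ∈ X.basicOpen ((β₀ ⟨x, hxs⟩).1 i) := by
      rw [← hAl ⟨x, hxs⟩]
      constructor
      · rintro ⟨z, hz, rfl⟩
        have hzi : z ∈ (c.comap (c'.locus (a (tx x))).ι).D i := hi
        have := ((c.comap _).mem_locus_iff (A ⟨x, hxs⟩) hzi).mp hz
        rw [← hβ₀] at this
        erw [Scheme.basicOpen_appLE] at this
        exact this.2
      · intro hyb
        refine ⟨⟨y, hy⟩, ?_, rfl⟩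
        have hzi : (⟨y, hy⟩ : (c'.locus (a (tx x)) : X.Opens)) ∈ (c.comap (c'.locus (a (tx x))).ι).D i := hi
        refine ((c.comap _).mem_locus_iff (A ⟨x, hxs⟩) hzi).mpr ?_
        rw [← hβ₀]
        erw [Scheme.basicOpen_appLE]
        exact ⟨⟨trivial, hzi⟩, hyb⟩
    have e0 := congrArg (fun t : c'.msect M (0 + k * m) (c'.locus (a (tx x))) => t.1 l) hb
    simp only [msectRes_apply, mraise_apply] at e0
    have e1 : res (inf_le_inf_right (c.D i)
          (inf_le_inf_right (c'.D l) (le_top : c'.locus (a (tx x)) ≤ ⊤))) ((c'.comp2 (c.pow d) b l).1 i) =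
        res (inf_le_left : c'.locus (a (tx x)) ⊓ c'.D l ⊓ c.D i ≤ c'.locus (a (tx x)) ⊓ c'.D l)
            (res (inf_le_inf_right (c'.D l) (le_top : c'.locus (a (tx x)) ≤ ⊤)) ((a (tx x)).1 l) ^ m) *
          res (inf_le_inf_right (c.D i) (inf_le_left : c'.locus (a (tx x)) ⊓ c'.D l ≤ c'.locus (a (tx x))))
            ((β₁ ⟨x, hxs⟩).1 i) :=
      congrArg (fun t : (c.pow d).sect 1 (c'.locus (a (tx x)) ⊓ c'.D l) => t.1 i) e0
    have hb₁ : y ∈ X.basicOpen ((β₁ ⟨x, hxs⟩).1 i) ↔ y ∈ X.basicOpen ((β₀ ⟨x, hxs⟩).1 i) := by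
      show y ∈ X.basicOpen (res (inf_le_inf_right (c.D i) (hle ⟨x, hxs⟩)) ((β₀ ⟨x, hxs⟩).1 i)) ↔ _
      rw [mem_basicOpen_res]
      exact and_iff_right ⟨hy, hi⟩
    have e2 := SetLike.ext_iff.mp (congrArg X.basicOpen e1) y
    rw [Scheme.basicOpen_mul, Opens.mem_inf, mem_basicOpen_res, mem_basicOpen_res, mem_basicOpen_res] at e2
    have hmix : y ∈ X.basicOpen ((c'.mixSect (c.pow d) b).1 (l, i)) ↔
        y ∈ X.basicOpen ((c'.comp2 (c.pow d) b l).1 i) := by
      rw [c'.mixSect_apply]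
      erw [mem_basicOpen_res]
      exact and_iff_right ⟨trivial, hl, hi⟩
    rw [hmix, hbase]
    constructor
    · rintro ⟨h1, -⟩
      exact hb₁.mp (e2.mp ⟨⟨⟨hy, hl⟩, hi⟩, h1⟩).2.2
    · intro h1
      exact ⟨(e2.mpr ⟨⟨⟨⟨hy, hl⟩, hi⟩, hpow⟩, ⟨⟨hy, hl⟩, hi⟩, hb₁.mpr h1⟩).2, hy⟩
  rw [(c.prod (c'.pow n)).locus_sectCast, key]
  exact ⟨hp, (haff x).image_of_isOpenImmersion _⟩

end Cocycle

theorem eventually_isAmple_restrict_of_rel {Y : Scheme.{u}} (f : X ⟶ Y) {L : X.Modules} {K : Y.Modules}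
    (hL : RelAmple.IsRelAmple f L) (hK : PicF.IsInvertible K) {V : Y.Opens}
    (hV : CohB1.IsAmple (K.restrict V.ι)) :
    ∃ n₀ : ℕ, ∀ n, n₀ ≤ n → CohB1.IsAmple
      ((CohB1.tensorMod L ((Scheme.Modules.pullback f).obj (CohB1.tensorPow K n))).restrict (f ⁻¹ᵁ V).ι) := by
  haveI := hL.1
  let U : X.Opens := f ⁻¹ᵁ V
  let q : (U : Scheme.{u}) ⟶ V := f.resLE V U le_rfl
  haveI : CompactSpace (V : Scheme.{u}) := compactSpace_of_isAmple hV
  haveI : CompactSpace (U : Scheme.{u}) :=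
    isCompact_iff_compactSpace.mp (f.isCompact_preimage ((isCompact_iff_compactSpace (s := (V : Set Y))).mpr ‹_›))
  haveI : QuasiCompact q := by
    show QuasiCompact (f.resLE V (f ⁻¹ᵁ V) le_rfl)
    rw [Scheme.Hom.resLE_eq_morphismRestrict]
    infer_instance
  have hLi := isInvertible_of_isRelAmple hL
  obtain ⟨cL, ⟨eL⟩⟩ := exists_cocycle hLi
  obtain ⟨cK, ⟨eK⟩⟩ := exists_cocycle hK
  let c := cL.comap U.ι
  let cV := cK.comap V.ι
  let c' := cV.comap q
  obtain ⟨dK⟩ := cK.nonempty_restrict_iso V.ι eK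
  choose deg a ha haff using ((cV.isAmple_iff dK).mp hV).2
  obtain ⟨s, hs⟩ := isCompact_univ.elim_finite_subcover (fun y => (cV.locus (a y) : Set V))
    (fun y => (cV.locus (a y)).2) (fun y _ => Set.mem_iUnion.mpr ⟨y, ha y⟩)
  let k := ∏ y ∈ s, (deg y + 1)
  have hk : 0 < k := Finset.prod_pos fun y _ => Nat.succ_pos _
  have hdvd : ∀ y : s, deg y.1 + 1 ∣ k := fun y => Finset.dvd_prod_of_mem _ y.2
  choose e he using hdvd
  have he0 : ∀ y : s, 0 < e y := fun y => pos_of_mul_pos_right (he y ▸ hk) (Nat.zero_le _)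
  let A : s → cV.sect k ⊤ := fun y => cV.sectCast (he y).symm (cV.sectPow (a y.1) (e y))
  have hAl : ∀ y, cV.locus (A y) = cV.locus (a y.1) := fun y =>
    (cV.locus_sectCast _ _).trans (cV.locus_sectPow _ (he0 y))
  let a' : s → c'.sect k ⊤ := fun y => cV.pullSect q (le_top : (⊤ : (U : Scheme.{u}).Opens) ≤ q ⁻¹ᵁ ⊤) (A y)
  have ha' : ∀ y, c'.locus (a' y) = q ⁻¹ᵁ cV.locus (a y.1) := fun y => by
    rw [cV.locus_pullSect, hAl]
  obtain ⟨n₀, h⟩ := c.eventually_isAmp_prod_pow c' hk a' (fun z => by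
      obtain ⟨y, hy, hz⟩ := Set.mem_iUnion₂.mp (hs (Set.mem_univ (q z)))
      exact ⟨⟨y, hy⟩, by rw [ha']; exact hz⟩) fun y => by
      let O : Y.Opens := V.ι ''ᵁ cV.locus (a y.1)
      have hO : IsAffineOpen O := (haff y.1).image_of_isOpenImmersion V.ι
      obtain ⟨dL⟩ := cL.nonempty_pullback_iso U.ι eL
      haveI : CompactSpace (c'.locus (a' y) : Scheme.{u}) :=
        isCompact_iff_compactSpace.mp (by rw [ha']; exact q.isCompact_preimage (haff y.1).isCompact)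
      rw [isAmple_restrict_iff, isAmple_iff_of_iso ((Scheme.Modules.pullback _).mapIso dL.symm),
        isAmple_pullback_comp_iff]
      refine isAmple_pullback_of_range_le _ (f ⁻¹ᵁ O).ι ?_ ((isAmple_restrict_iff _ L).mp (hL.2 ⟨O, hO⟩))
      rintro _ ⟨z, rfl⟩
      rw [(f ⁻¹ᵁ O).range_ι]
      have hz : (c'.locus (a' y)).ι z ∈ q ⁻¹ᵁ cV.locus (a y.1) := ha' y ▸ z.2
      refine ⟨q ((c'.locus (a' y)).ι z), hz, ?_⟩
      show (q ≫ V.ι) _ = (U.ι ≫ f) _
      rw [Scheme.Hom.resLE_comp_ι]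
      rfl
  refine ⟨n₀, fun n hn => ?_⟩
  have hKn := isInvertible_tensorPow hK n
  have hfKn := isInvertible_pullback f hKn
  obtain ⟨g1⟩ := nonempty_pullback_tensorMod U.ι hLi hfKn
  obtain ⟨dL⟩ := cL.nonempty_pullback_iso U.ι eL
  obtain ⟨g2⟩ := nonempty_pullback_tensorPow V.ι hK n
  obtain ⟨dK'⟩ := cK.nonempty_pullback_iso V.ι eK
  obtain ⟨g3⟩ := cV.nonempty_tensorPow_iso_pow dK' n
  obtain ⟨g4⟩ := (cV.pow n).nonempty_pullback_iso q (g2 ≪≫ g3)
  obtain ⟨g5⟩ := cV.nonempty_comap_pow q n 1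
  let g6 : (Scheme.Modules.pullback U.ι).obj ((Scheme.Modules.pullback f).obj (CohB1.tensorPow K n)) ≅
      (c'.pow n).twist 1 :=
    (Scheme.Modules.pullbackComp U.ι f).app _ ≪≫
      (Scheme.Modules.pullbackCongr (Scheme.Hom.resLE_comp_ι f le_rfl).symm).app _ ≪≫
      ((Scheme.Modules.pullbackComp q V.ι).app _).symm ≪≫ g4 ≪≫ g5.symm
  obtain ⟨g7⟩ := c.nonempty_tensorMod_iso_prod (c'.pow n) dL g6
  rw [isAmple_restrict_iff]
  exact ((c.prod (c'.pow n)).isAmple_iff (g1 ≪≫ g7)).mpr ⟨inferInstance, h n hn⟩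

end GrothLib.Ample
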