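import Groth.Agent.Lib.Ample.Immersion
import Groth.Agent.Lib.Ample.RelComp

/-!
# High twists by an ample cocycle are very ample over an affine base
-/

universe u

set_option backward.isDefEq.respectTransparency false

open AlgebraicGeometry CategoryTheory CategoryTheory.Limits TopologicalSpace Opposite
open GrothLib.InvExt (mres)

noncomputable section

namespace GrothLib.Ample

variable {X : Scheme.{u}}

namespace Cocycle

variable (c c' : Cocycle X) {e r n : ℕ}

/-- Merge the two exponents of `c`. -/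
def collapse (h : e + r = n) {V : X.Opens} (t : ((c.pow e).prod ((c.pow r).prod c')).sect 1 V) :
    ((c.pow n).prod c').sect 1 V :=
  ⟨fun p => res (inf_le_inf_left V (le_inf inf_le_left (le_inf inf_le_left inf_le_right))) (t.1 (p.1, (p.1, p.2))),
    fun (p : c.ι × c'.ι) (q : c.ι × c'.ι) W hp hq => by
      have hp' := hp.trans (inf_le_inf_left V (show ((c.pow n).prod c').D p ≤
        ((c.pow e).prod ((c.pow r).prod c')).D (p.1, (p.1, p.2)) from le_inf inf_le_left (le_inf inf_le_left inf_le_right)))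
      have hq' := hq.trans (inf_le_inf_left V (show ((c.pow n).prod c').D q ≤
        ((c.pow e).prod ((c.pow r).prod c')).D (q.1, (q.1, q.2)) from le_inf inf_le_left (le_inf inf_le_left inf_le_right)))
      have h1 := ((c.pow e).prod ((c.pow r).prod c')).sect_spec t (p.1, (p.1, p.2)) (q.1, (q.1, q.2)) hp' hq'
      refine (res_res _ hp _).trans (h1.trans ?_)
      refine Eq.trans ?_ (congrArg (_ * ·) (res_res _ hq _).symm)
      erw [prod_G, prod_G, prod_G, pow_G, pow_G, pow_G]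
      rw [← h, pow_add, mul_assoc (_ ^ e)]
      rfl⟩

theorem collapse_apply (h : e + r = n) {V : X.Opens} (t : ((c.pow e).prod ((c.pow r).prod c')).sect 1 V)
    (i : c.ι) (l : c'.ι) :
    (c.collapse c' h t).1 (i, l) =
      res (inf_le_inf_left V (le_inf inf_le_left (le_inf inf_le_left inf_le_right))) (t.1 (i, (i, l))) := rfl

end Cocycle

/-- High powers of an ample cocycle times any cocycle give immersions into projective space over any base. -/
theorem eventually_isRelVeryAmplePn {Y : Scheme.{u}} (q : X ⟶ Y) [LocallyOfFiniteType q]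
    (c c' : Cocycle X) [CompactSpace X] (hc : c.IsAmp) :
    ∃ n₀ : ℕ, ∀ n, n₀ ≤ n → ∀ {L : X.Modules}, (L ≅ ((c.pow n).prod c').twist 1) →
      RelAmple.IsRelVeryAmplePn q L := by
  classical
  haveI := c.quasiSeparatedSpace_of_isAmp hc
  have hex : ∀ x : X, ∃ (V : Y.Opens) (i : c.ι) (l : c'.ι) (k : ℕ) (a : c.sect (k + 1) ⊤), x ∈ c.locus a ∧
      (c.locus a ≤ c.D i ⊓ c'.D l ∧ c.locus a ≤ q ⁻¹ᵁ V) ∧ IsAffineOpen V ∧ IsAffineOpen (c.locus a) := fun x => by
    obtain ⟨V, hV, hxV, -⟩ := exists_isAffineOpen_mem_and_subset (Opens.mem_top (q x))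
    obtain ⟨i, hi⟩ := c.exists_mem x
    obtain ⟨l, hl⟩ := c'.exists_mem x
    obtain ⟨k, a, hxa, hle, ha⟩ := c.exists_affine_locus_le hc (O := (c.D i ⊓ c'.D l) ⊓ q ⁻¹ᵁ V) ⟨⟨hi, hl⟩, hxV⟩
    exact ⟨V, i, l, k, a, hxa, ⟨hle.trans inf_le_left, hle.trans inf_le_right⟩, hV, ha⟩
  choose VV ii ll deg a hxa hale' hVV haff using hex
  have hale := fun x => (hale' x).1
  obtain ⟨s, hs⟩ := isCompact_univ.elim_finite_subcover (fun x => (c.locus (a x) : Set X))
    (fun x => (c.locus (a x)).2) (fun x _ => Set.mem_iUnion.mpr ⟨x, hxa x⟩)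
  let d := ∏ x ∈ s, (deg x + 1)
  have hd : 0 < d := Finset.prod_pos fun x _ => Nat.succ_pos _
  have hdvd : ∀ x : s, deg x.1 + 1 ∣ d := fun x => Finset.dvd_prod_of_mem _ x.2
  choose p hp using hdvd
  have hp0 : ∀ x : s, 0 < p x := fun x => pos_of_mul_pos_right (hp x ▸ hd) (Nat.zero_le _)
  let A : s → c.sect d ⊤ := fun x => c.sectCast (hp x).symm (c.sectPow (a x.1) (p x))
  have hA : ∀ x : s, c.locus (A x) = c.locus (a x.1) := fun x =>
    (c.locus_sectCast _ _).trans (c.locus_sectPow _ (hp0 x))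
  have hfin : ∀ x : s, ∃ G : Finset Γ(X, c.locus (A x)), ∀ b : Γ(X, c.locus (A x)), b ∈ Subring.closure
      (Set.range (q.appLE (VV x.1) (c.locus (A x)) ((hA x).le.trans (hale' x.1).2)).hom ∪ ↑G) := fun x => by
    have hU : IsAffineOpen (c.locus (A x)) := by rw [hA]; exact haff x.1
    have hle : c.locus (A x) ≤ q ⁻¹ᵁ VV x.1 := (hA x).le.trans (hale' x.1).2
    have hft := q.finiteType_appLE (hVV x.1) hU hle
    algebraize [(q.appLE (VV x.1) (c.locus (A x)) hle).hom]
    obtain ⟨G, hG⟩ := (‹Algebra.FiniteType Γ(Y, VV x.1) Γ(X, c.locus (A x))›).out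
    refine ⟨G, fun b => ?_⟩
    have hb : b ∈ (Algebra.adjoin Γ(Y, VV x.1) (↑G : Set Γ(X, c.locus (A x)))).toSubring := by
      rw [hG]; trivial
    rw [Algebra.adjoin_eq_ring_closure] at hb
    exact hb
  choose G hG using hfin
  let T := Σ x : s, (Option {g // g ∈ G x})
  let val : ∀ t : T, Γ(X, c.locus (A t.1)) := fun t => (t.2.map Subtype.val).getD 1
  let P : Fin d → Cocycle X := fun r => (c.pow (r : ℕ)).prod c'
  let one : ∀ (r : Fin d) (x : s), (P r).sect 1 (c.locus (A x)) := fun r x =>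
    (P r).base 1 (ii x.1, ll x.1) (show c.locus (A x) ≤ c.D (ii x.1) ⊓ c'.D (ll x.1) by rw [hA]; exact hale x.1)
  let β : ∀ (r : Fin d) (t : T), c.msect ((P r).twist 1) 0 (c.locus (A t.1)) := fun r t =>
    ⟨fun i => (P r).sectRes (inf_le_left : c.locus (A t.1) ⊓ c.D i ≤ c.locus (A t.1)) (val t • one r t.1),
      fun i j W hi hj => by
      rw [pow_zero, one_smul]
      exact ((P r).sectRes_sectRes _ hi _).trans ((P r).sectRes_sectRes _ hj _).symm⟩
  have hext : ∀ r : Fin d, ∃ m₀ : ℕ, ∀ m, m₀ ≤ m → ∀ t : T, ∃ b : c.msect ((P r).twist 1) (0 + d * m) ⊤,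
      c.msectRes (le_top : c.locus (A t.1) ≤ ⊤) b = c.mraise (A t.1) (β r t) m := fun r => by
    haveI : ((P r).twist 1).IsQuasicoherent :=
      InvExt.isQuasicoherent_of_isInvertible ((P r).isInvertible_twist 1)
    exact c.exists_mextend_uniform (M := (P r).twist 1) (fun t : T => A t.1) (β r)
  choose m₀ hm₀ using hext
  refine ⟨d * (Finset.univ.sup m₀ + 2), fun n hn L eL => ?_⟩
  let r : Fin d := ⟨n % d, Nat.mod_lt n hd⟩
  have hq2 : Finset.univ.sup m₀ + 2 ≤ n / d := by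
    rw [Nat.le_div_iff_mul_le hd, mul_comm]; exact hn
  obtain ⟨m, hm⟩ : ∃ m, n / d = m + 1 := ⟨n / d - 1, by omega⟩
  have hm' : m₀ r ≤ m := (Finset.le_sup (Finset.mem_univ r)).trans (by omega)
  have hdeg : (0 + d * m + d * 1) + (r : ℕ) = n := by
    show 0 + d * m + d * 1 + n % d = n
    rw [zero_add, ← Nat.mul_add, ← hm, Nat.div_add_mod]
  choose b hb using fun t : T => hm₀ r m hm' t
  let Q := (c.pow n).prod c'
  let σ : T → Q.sect 1 ⊤ := fun t => c.collapse c' hdeg (c.mixSect (P r) (c.mraise (A t.1) (b t) 1))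
  -- the components of the sections
  have hcomp : ∀ (t : T) (i : c.ι) (l : c'.ι),
      ∃ (u : Γ(X, c.D i ⊓ c'.D l)) (hAi : c.D i ⊓ c'.D l ≤ ⊤ ⊓ c.D i)
        (hdom : ⊤ ⊓ Q.D (i, l) ≤ c.D i ⊓ c'.D l),
        (σ t).1 (i, l) = res hdom (res hAi ((A t.1).1 i) * u) ∧
        ∀ (W : X.Opens) (hW : W ≤ c.D i ⊓ c'.D l) (hWU : W ≤ c.locus (A t.1)),
          res hW u = res (hW.trans hAi) ((A t.1).1 i) ^ m * (res hWU (val t) *
            res (le_inf hWU (hW.trans (le_inf inf_le_left inf_le_right)) :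
              W ≤ c.locus (A t.1) ⊓ (P r).D (i, l)) ((one r t.1).1 (i, l))) := by
    intro t i l
    have hd' : c.D i ⊓ c'.D l ≤ (⊤ ⊓ c.D i) ⊓ (P r).D (i, l) :=
      le_inf (le_inf le_top inf_le_left) (le_inf inf_le_left inf_le_right)
    refine ⟨res hd' ((c.comp2 (P r) (b t) i).1 (i, l)), hd'.trans inf_le_left, inf_le_right, ?_, fun W hW hWU => ?_⟩
    · rw [c.collapse_apply, c.mixSect_apply]
      show res _ (res _ (res _ (res _ ((A t.1).1 i) ^ 1) * (c.comp2 (P r) (b t) i).1 (i, l))) = _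
      simp only [map_mul, pow_one, res_res]
      rfl
    · have hW' : W ≤ (c.locus (A t.1) ⊓ c.D i) ⊓ (P r).D (i, l) :=
        le_inf (le_inf hWU (hW.trans inf_le_left)) (hW.trans (hd'.trans inf_le_right))
      have h1 := congrArg (fun x : c.msect ((P r).twist 1) (0 + d * m) (c.locus (A t.1)) =>
        res hW' ((show (P r).sect 1 (c.locus (A t.1) ⊓ c.D i) from x.1 i).1 (i, l))) (hb t)
      change res hW' (res _ ((c.comp2 (P r) (b t) i).1 (i, l))) =
        res hW' (res inf_le_left (res _ ((A t.1).1 i) ^ m) *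
          res _ (res inf_le_left (val t) * (one r t.1).1 (i, l))) at h1
      simp only [map_mul, map_pow, res_res] at h1 ⊢
      exact h1
  let one' : s → T := fun x => ⟨x, none⟩
  have hrel : ∀ (t : T), Q.sectRes (le_top : c.locus (A t.1) ≤ ⊤) (σ t) =
      val t • Q.sectRes (le_top : c.locus (A t.1) ≤ ⊤) (σ (one' t.1)) := by
    intro t
    refine Q.sect_ext fun ⟨i, l⟩ => ?_
    obtain ⟨u, hAi, hdom, hu, hu'⟩ := hcomp t i l
    obtain ⟨v, hAi', hdom', hv, hv'⟩ := hcomp (one' t.1) i l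
    have hW : c.locus (A t.1) ⊓ Q.D (i, l) ≤ c.D i ⊓ c'.D l := inf_le_right
    rw [Q.sectRes_apply, Q.smul_apply, Q.sectRes_apply, hu, hv]
    simp only [map_mul, res_res]
    rw [hu' _ hW inf_le_left, hv' _ hW inf_le_left]
    rw [show val (one' t.1) = 1 from rfl, map_one]
    ring
  have hlocus : ∀ x : s, Q.locus (σ (one' x)) = c.locus (A x) := by
    intro x
    ext z
    simp only [SetLike.mem_coe]
    obtain ⟨i, hi⟩ := c.exists_mem z
    obtain ⟨l, hl⟩ := c'.exists_mem z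
    obtain ⟨u, hAi, hdom, hu, hu'⟩ := hcomp (one' x) i l
    rw [Q.mem_locus_iff _ (show z ∈ Q.D (i, l) from ⟨hi, hl⟩), c.mem_locus_iff (A x) hi, hu,
      mem_basicOpen_res, Scheme.basicOpen_mul]
    simp only [Opens.mem_inf]
    erw [mem_basicOpen_res (X := X) hAi]
    constructor
    · intro h
      exact h.2.1.2
    · intro h
      refine ⟨⟨trivial, hi, hl⟩, ⟨⟨hi, hl⟩, h⟩, ?_⟩
      have hzU : z ∈ c.locus (A x) := (c.mem_locus_iff (A x) hi).mpr h
      let W := (c.D i ⊓ c'.D l) ⊓ c.locus (A x)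
      have e := hu' W inf_le_left inf_le_right
      rw [show val (one' x) = 1 from rfl, map_one, one_mul] at e
      have e' := SetLike.ext_iff.mp (congrArg X.basicOpen e) z
      refine ((mem_basicOpen_res _ _).mp (e'.mpr ?_)).2
      rw [Scheme.basicOpen_mul, Opens.mem_inf, mem_basicOpen_res]
      refine ⟨?_, ⟨⟨hi, hl⟩, hzU⟩, ?_⟩
      · rcases Nat.eq_zero_or_pos m with rfl | hm0
        · rw [pow_zero, Scheme.basicOpen_of_isUnit _ isUnit_one]; exact ⟨⟨hi, hl⟩, hzU⟩
        · rw [Scheme.basicOpen_pow _ _ hm0, mem_basicOpen_res]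
          exact ⟨⟨⟨hi, hl⟩, hzU⟩, h⟩
      · have hzD : z ∈ c.D (ii x.1) ⊓ c'.D (ll x.1) := hale x.1 (hA x ▸ hzU)
        rw [show (one r x).1 (i, l) = _ from (P r).base_apply 1 _ _ _, pow_one,
          Scheme.basicOpen_of_isUnit _ ((P r).isUnit_G _ _ _ _)]
        exact ⟨hzU, hi, hl⟩
  let E : Option T ≃ Fin (Fintype.card T + 1) := Fintype.equivFinOfCardEq Fintype.card_option
  let τ : Fin (Fintype.card T + 1) → Q.sect 1 ⊤ := fun k => ((E.symm k).map σ).getD 0
  have hτ : ∀ t : T, τ (E (some t)) = σ t := fun t => by simp [τ]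
  refine isRelVeryAmplePn_of_local_sections q Q eL τ (Set.range fun x : s => E (some (one' x))) ?_ ?_ ?_
  · intro z
    obtain ⟨x, hx, hz⟩ := Set.mem_iUnion₂.mp (hs (Set.mem_univ z))
    exact ⟨_, ⟨⟨x, hx⟩, rfl⟩, by rw [hτ, hlocus, hA]; exact hz⟩
  · rintro _ ⟨x, rfl⟩
    rw [hτ, hlocus, hA]
    exact haff x.1
  · rintro _ ⟨x, rfl⟩
    have key : ∀ (U : X.Opens) (hU : U = c.locus (A x)) (h : U ≤ q ⁻¹ᵁ VV x.1) (b : Γ(X, U)), b ∈ Subring.closure
        (Set.range (q.appLE (VV x.1) U h).hom ∪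
          {g | ∃ k, g • Q.sectRes (le_top : U ≤ ⊤) (τ (E (some (one' x)))) = Q.sectRes le_top (τ k)}) := by
      rintro _ rfl h b
      refine Subring.closure_mono ?_ (hG x b)
      rintro g (h | hg)
      · exact Or.inl h
      · refine Or.inr ⟨E (some ⟨x, some ⟨g, hg⟩⟩), ?_⟩
        rw [hτ, hτ]
        exact (hrel ⟨x, some ⟨g, hg⟩⟩).symm
    exact ⟨VV x.1, by rw [hτ, hlocus, hA]; exact (hale' x.1).2, hVV x.1, key _ (by rw [hτ, hlocus]) _⟩

end GrothLib.Ample
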