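import Groth.Agent.Lib.Ample.ProjExt
import Groth.Agent.Lib.Ample.VeryAmple

/-!
# `O(1)` on projective space over an affine base is ample
-/

universe u

set_option backward.isDefEq.respectTransparency false

open AlgebraicGeometry CategoryTheory CategoryTheory.Limits TopologicalSpace Opposite MvPolynomial
open GrothLib.InvExt (mres IsGen)

noncomputable section

namespace GrothLib.Ample

theorem isAmple_twistProjSpace_one (n : ℕ) (R : Type u) [CommRing R] :
    CohB1.IsAmple (Twist.twistProjSpace n R 1) := by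
  let P : Cocycle (CohB1.ProjSpace n R) := ProjMap.pcoc n R
  let φ : Twist.twistProjSpace n R 1 ≅ P.twist 1 := ProjMap.pcocIso n R
  haveI : CompactSpace (CohB1.ProjSpace n R) := by
    let Ds : Fin (n + 1) → (CohB1.ProjSpace n R).Opens := fun i =>
      Proj.basicOpen (CohB1.polyGrading n R) (MvPolynomial.X i)
    rw [← isCompact_univ_iff, show (Set.univ : Set (CohB1.ProjSpace n R)) = ⋃ i, (Ds i : Set (CohB1.ProjSpace n R))
      from (Set.eq_univ_iff_forall.mpr fun y => by
        obtain ⟨i, hi⟩ := Opens.mem_iSup.mp ((ProjMap.iSup_basicOpen_X n R).ge (Opens.mem_top y))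
        exact Set.mem_iUnion.mpr ⟨i, hi⟩).symm]
    exact isCompact_iUnion fun i => IsAffineOpen.isCompact (U := Ds i)
      (Proj.isAffineOpen_basicOpen _ _ (ProjMap.X_mem i) one_pos)
  refine (P.isAmple_iff φ).mpr ⟨inferInstance, fun y => ?_⟩
  obtain ⟨(i : ULift.{u} (Fin (n + 1))), hi⟩ := P.exists_mem y
  let a : P.sect 1 ⊤ := φ.hom.app ⊤ (ProjUP.coord n R i.down)
  have hcomp : ∀ k : ULift.{u} (Fin (n + 1)), res (le_inf le_top le_rfl : P.D k ≤ ⊤ ⊓ P.D k) (a.1 k) =
      Proj.awayToSection (CohB1.polyGrading n R) (MvPolynomial.X k.down) (ProjMap.ratio k.down i.down) := by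
    intro k
    have h : P.sectRes (le_top : P.D k ≤ ⊤) a =
        (show Γ(CohB1.ProjSpace n R, P.D k) from
          Proj.awayToSection (CohB1.polyGrading n R) (MvPolynomial.X k.down) (ProjMap.ratio k.down i.down)) •
        P.base 1 k le_rfl := by
      refine (app_mres φ.hom (le_top : P.D k ≤ ⊤) (ProjUP.coord n R i.down)).symm.trans ?_
      refine (congrArg (φ.hom.app (P.D k)) (ProjMap.coord_eq_smul_base i.down k)).trans ?_
      refine (app_smul φ.hom _ _).trans (congrArg (_ • ·) ?_)
      exact congrArg (fun f : P.twist 1 ⟶ P.twist 1 => f.app (P.D k) (P.base 1 k le_rfl)) φ.inv_hom_id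
    have h' := congrArg (fun t : P.sect 1 (P.D k) => res (le_inf le_rfl le_rfl : P.D k ≤ P.D k ⊓ P.D k) (t.1 k)) h
    simp only [P.smul_apply, P.sectRes_apply, P.base_self, mul_one, res_res] at h'
    exact h'
  have hle : P.D i ≤ P.locus a := fun z hz => by
    rw [P.mem_locus_iff a hz]
    have h := congrArg (CohB1.ProjSpace n R).basicOpen (hcomp i)
    rw [res, Scheme.basicOpen_res] at h
    have h1 : (show Γ(CohB1.ProjSpace n R, P.D i) from Proj.awayToSection (CohB1.polyGrading n R)
        (MvPolynomial.X i.down) (ProjMap.ratio i.down i.down)) = 1 := by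
      refine ProjTwist.ev_ext fun y => ?_
      rw [ProjMap.ev_awayToSection_ratio, ProjTwist.ev_one]
      exact Localization.mk_self (⟨MvPolynomial.X i.down, y.2⟩ : y.1.asHomogeneousIdeal.toIdeal.primeCompl)
    have h2 : z ∈ (CohB1.ProjSpace n R).basicOpen (show Γ(CohB1.ProjSpace n R, P.D i) from
        Proj.awayToSection (CohB1.polyGrading n R) (MvPolynomial.X i.down) (ProjMap.ratio i.down i.down)) := by
      rw [h1, Scheme.basicOpen_of_isUnit _ isUnit_one]; exact hz
    exact (h.ge h2).2
  refine ⟨0, a, hle hi, ?_⟩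
  have : P.locus a = P.D i := by
    refine le_antisymm (fun z hz => ?_) hle
    obtain ⟨(k : ULift.{u} (Fin (n + 1))), hk⟩ := P.exists_mem z
    have h := congrArg (CohB1.ProjSpace n R).basicOpen (hcomp k)
    rw [res, Scheme.basicOpen_res] at h
    have hz' := h.le ⟨hk, (P.mem_locus_iff a hk).mp hz⟩
    exact ProjMap.basicOpen_pullRatio_le (𝟙 (CohB1.ProjSpace n R)) k.down i.down (by
      show z ∈ (CohB1.ProjSpace n R).basicOpen (((𝟙 (CohB1.ProjSpace n R) :
        CohB1.ProjSpace n R ⟶ CohB1.ProjSpace n R).appLE _ _ _).hom _)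
      erw [Scheme.basicOpen_appLE]
      exact ⟨hk, hz'⟩)
  rw [this]
  exact Proj.isAffineOpen_basicOpen _ _ (ProjMap.X_mem i.down) one_pos

theorem isAmple_of_isRelVeryAmplePn {X Y : Scheme.{u}} [IsAffine Y] [CompactSpace X] (q : X ⟶ Y) {L : X.Modules}
    (h : RelAmple.IsRelVeryAmplePn q L) : CohB1.IsAmple L := by
  obtain ⟨m, i, hi, -, ⟨e⟩⟩ := h
  refine (isAmple_iff_of_iso e).mpr ?_
  haveI : IsAffineHom (pullback.fst (CohB1.ProjSpace.toSpec m (ULift.{u} ℤ)) (specULiftZIsTerminal.from Y)) :=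
    MorphismProperty.pullback_fst _ _ inferInstance
  exact isAmple_pullback_of_isEmbedding i i.isEmbedding
    (isAmple_pullback_of_isAffineHom _ (isAmple_twistProjSpace_one m _))

end GrothLib.Ample
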