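import Groth.Prelude.Def_CohB1
import Mathlib.CategoryTheory.Sites.LocallyBijective

/-!
# Invertible modules given by coordinate ratios, and their ampleness

`LineData X N` is a family of opens `D i` covering `X` with ratios `x i j` as for homogeneous coordinates; its
`twist n` is the module of families `(aᵢ)` with `aᵢ = (x i j)ⁿ aⱼ`.
-/

universe u

set_option backward.isDefEq.respectTransparency false

open AlgebraicGeometry CategoryTheory CategoryTheory.Limits TopologicalSpace Opposite MonoidalCategory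

noncomputable section

namespace GrothLib.Ample

variable {X : Scheme.{u}}

/-- Restriction of sections. -/
abbrev res {U V : X.Opens} (h : V ≤ U) : Γ(X, U) →+* Γ(X, V) := (X.presheaf.map (homOfLE h).op).hom

theorem res_res {U V W : X.Opens} (h : V ≤ U) (h' : W ≤ V) (a : Γ(X, U)) :
    res h' (res h a) = res (h'.trans h) a := by
  rw [res, res, res, ← CommRingCat.comp_apply, ← Functor.map_comp]
  rfl

theorem res_self {U : X.Opens} (h : U ≤ U) (a : Γ(X, U)) : res h a = a := by
  rw [res, show (homOfLE h).op = 𝟙 (op U) from rfl, CategoryTheory.Functor.map_id]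
  rfl

theorem eq_of_cover {ι : Type*} {V : X.Opens} (W : ι → X.Opens) (hW : ∀ k, W k ≤ V) (hc : V ≤ ⨆ k, W k)
    {a b : Γ(X, V)} (h : ∀ k, res (hW k) a = res (hW k) b) : a = b :=
  X.sheaf.eq_of_locally_eq' W V (fun k => homOfLE (hW k)) hc a b h

/-- Coordinate ratios on an open cover. -/
structure LineData (X : Scheme.{u}) (N : ℕ) where
  /-- the open where the `i`-th coordinate is invertible -/
  D : Fin (N + 1) → X.Opens
  /-- the ratios -/
  x : ∀ i, Fin (N + 1) → Γ(X, D i)
  cover : ⨆ i, D i = ⊤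
  self : ∀ i, x i i = 1
  basic : ∀ i j, X.basicOpen (x i j) = D i ⊓ D j
  change : ∀ i j k, res (inf_le_left : D i ⊓ D j ≤ D i) (x i k) =
    res (inf_le_left : D i ⊓ D j ≤ D i) (x i j) * res (inf_le_right : D i ⊓ D j ≤ D j) (x j k)

namespace LineData

variable {N : ℕ} (c : LineData X N)

theorem change_res (i j k : Fin (N + 1)) {W : X.Opens} (hi : W ≤ c.D i) (hj : W ≤ c.D j) :
    res hi (c.x i k) = res hi (c.x i j) * res hj (c.x j k) := by
  have h := congrArg (res (le_inf hi hj)) (c.change i j k)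
  simpa only [map_mul, res_res] using h

theorem res_x_self (i : Fin (N + 1)) {W : X.Opens} (hi : W ≤ c.D i) : res hi (c.x i i) = 1 := by
  rw [c.self, map_one]

theorem x_mul_x (i j : Fin (N + 1)) {W : X.Opens} (hi : W ≤ c.D i) (hj : W ≤ c.D j) :
    res hi (c.x i j) * res hj (c.x j i) = 1 := by
  rw [← c.change_res i j i hi hj, c.res_x_self]

/-- The families of local sections of the `n`-th twist. -/
def sect (n : ℕ) (V : X.Opens) : AddSubgroup (∀ i, Γ(X, V ⊓ c.D i)) where
  carrier := {a | ∀ (i j) (W : X.Opens) (hi : W ≤ V ⊓ c.D i) (hj : W ≤ V ⊓ c.D j),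
    res hi (a i) = res (hi.trans inf_le_right) (c.x i j) ^ n * res hj (a j)}
  zero_mem' i j W hi hj := by simp
  add_mem' {a b} ha hb i j W hi hj := by
    simp only [Pi.add_apply, map_add, ha i j W hi hj, hb i j W hi hj, mul_add]
  neg_mem' {a} ha i j W hi hj := by
    simp only [Pi.neg_apply, map_neg, ha i j W hi hj, mul_neg]

variable {n : ℕ}

theorem sect_spec {V : X.Opens} (a : c.sect n V) (i j : Fin (N + 1)) {W : X.Opens}
    (hi : W ≤ V ⊓ c.D i) (hj : W ≤ V ⊓ c.D j) :
    res hi (a.1 i) = res (hi.trans inf_le_right) (c.x i j) ^ n * res hj (a.1 j) :=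
  a.2 i j W hi hj

theorem sect_ext {V : X.Opens} {a b : c.sect n V} (h : ∀ i, a.1 i = b.1 i) : a = b :=
  Subtype.ext (funext h)

/-- A family is determined by one component where that component's piece is everything. -/
theorem sect_ext_of_le {V : X.Opens} {i : Fin (N + 1)} (hV : V ≤ c.D i) {a b : c.sect n V}
    (h : a.1 i = b.1 i) : a = b := by
  refine c.sect_ext fun l => ?_
  have hl : V ⊓ c.D l ≤ V ⊓ c.D i := le_inf inf_le_left (inf_le_left.trans hV)
  have ha := c.sect_spec a l i le_rfl hl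
  have hb := c.sect_spec b l i le_rfl hl
  rw [res_self] at ha hb
  rw [ha, hb, h]

instance sectSMul (V : X.Opens) : SMul Γ(X, V) (c.sect n V) where
  smul r a := ⟨fun i => res inf_le_left r * a.1 i, fun i j W hi hj => by
    simp only [map_mul, res_res, c.sect_spec a i j hi hj]
    ring⟩

theorem smul_apply {V : X.Opens} (r : Γ(X, V)) (a : c.sect n V) (i : Fin (N + 1)) :
    (r • a).1 i = res inf_le_left r * a.1 i := rfl

instance sectModule (V : X.Opens) : Module Γ(X, V) (c.sect n V) where
  one_smul a := c.sect_ext fun i => by simp [smul_apply]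
  mul_smul r s a := c.sect_ext fun i => by simp [smul_apply, mul_assoc]
  smul_zero r := c.sect_ext fun i => by simp [smul_apply]
  smul_add r a b := c.sect_ext fun i => by simp [smul_apply, mul_add]
  add_smul r s a := c.sect_ext fun i => by simp [smul_apply, add_mul]
  zero_smul a := c.sect_ext fun i => by simp [smul_apply]

/-- Restriction of families. -/
def sectRes {V W : X.Opens} (h : W ≤ V) : c.sect n V →+ c.sect n W where
  toFun a := ⟨fun i => res (inf_le_inf_right _ h) (a.1 i), fun i j U hi hj => by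
    simp only [res_res]
    exact c.sect_spec a i j (hi.trans (inf_le_inf_right _ h)) (hj.trans (inf_le_inf_right _ h))⟩
  map_zero' := c.sect_ext fun i => by simp
  map_add' a b := c.sect_ext fun i => by simp

theorem sectRes_apply {V W : X.Opens} (h : W ≤ V) (a : c.sect n V) (i : Fin (N + 1)) :
    (c.sectRes h a).1 i = res (inf_le_inf_right _ h) (a.1 i) := rfl

theorem sectRes_smul {V W : X.Opens} (h : W ≤ V) (r : Γ(X, V)) (a : c.sect n V) :
    c.sectRes h (r • a) = res h r • c.sectRes h a :=
  c.sect_ext fun i => by simp [smul_apply, sectRes_apply, res_res]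

variable (n) in
/-- The presheaf of families. -/
def sectAb : TopCat.Presheaf AddCommGrpCat.{u} X.carrier where
  obj V := AddCommGrpCat.of (c.sect n V.unop)
  map i := AddCommGrpCat.ofHom (c.sectRes (leOfHom i.unop))
  map_id V := by
    ext (a : c.sect n V.unop)
    exact res_self _ _
  map_comp i j := by
    ext (a : c.sect n _)
    exact (res_res _ _ _).symm

theorem isSheaf_sectAb : (c.sectAb n).IsSheaf := by
  rw [TopCat.Presheaf.isSheaf_iff_isSheafUniqueGluing]
  intro ι V sf hsf
  have hcov : ∀ i, iSup V ⊓ c.D i ≤ ⨆ k, V k ⊓ c.D i := fun i => le_of_eq (iSup_inf_eq V (c.D i))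
  have key : ∀ i, ∃! a : Γ(X, iSup V ⊓ c.D i),
      ∀ k, res (inf_le_inf_right _ (le_iSup V k)) a = (sf k).1 i := by
    intro i
    refine X.sheaf.existsUnique_gluing' (fun k => V k ⊓ c.D i) (iSup V ⊓ c.D i)
      (fun k => homOfLE (inf_le_inf_right _ (le_iSup V k))) (hcov i) _ fun k l => ?_
    have h1 : c.sectRes inf_le_left (sf k) = c.sectRes inf_le_right (sf l) := hsf k l
    have hle : (V k ⊓ c.D i) ⊓ (V l ⊓ c.D i) ≤ V k ⊓ V l ⊓ c.D i :=
      le_inf (inf_le_inf inf_le_left inf_le_left) (inf_le_left.trans inf_le_right)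
    have h2 := congrArg (fun a : c.sect n (V k ⊓ V l) => res hle (a.1 i)) h1
    simp only [sectRes_apply, res_res] at h2
    exact h2
  choose a ha hau using key
  have hmem : a ∈ c.sect n (iSup V) := by
    intro i j W hi hj
    refine eq_of_cover (fun k => W ⊓ V k) (fun k => inf_le_left)
      (by rw [← inf_iSup_eq]; exact le_inf le_rfl (hi.trans inf_le_left)) fun k => ?_
    have hik : W ⊓ V k ≤ V k ⊓ c.D i := le_inf inf_le_right ((inf_le_left.trans hi).trans inf_le_right)
    have hjk : W ⊓ V k ≤ V k ⊓ c.D j := le_inf inf_le_right ((inf_le_left.trans hj).trans inf_le_right)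
    have h := c.sect_spec (sf k) i j hik hjk
    rw [← ha i k, ← ha j k] at h
    simp only [map_mul, map_pow, res_res] at h ⊢
    exact h
  refine ⟨⟨a, hmem⟩, fun k => c.sect_ext fun i => ha i k, fun t ht => c.sect_ext fun i => ?_⟩
  exact hau i _ fun k => congrFun (congrArg Subtype.val (ht k)) i

variable (n) in
/-- The `n`-th twist. -/
def twist : X.Modules where
  val :=
    letI (V : (Opens X)ᵒᵖ) : Module (X.ringCatSheaf.obj.obj V) ((c.sectAb n).obj V) :=
      c.sectModule V.unop
    PresheafOfModules.ofPresheaf (c.sectAb n) fun V W i r a => c.sectRes_smul (leOfHom i.unop) r a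
  isSheaf := c.isSheaf_sectAb

variable {n : ℕ}

/-- The section over a piece of `D i` with `i`-th component one. -/
def base (n : ℕ) {V : X.Opens} (i : Fin (N + 1)) (hV : V ≤ c.D i) : c.sect n V :=
  ⟨fun l => res inf_le_right (c.x l i) ^ n, fun p q W hp hq => by
    simp only [map_pow, res_res]
    rw [c.change_res p q i (hp.trans inf_le_right) (hq.trans inf_le_right), mul_pow]⟩

theorem base_self (n : ℕ) {V : X.Opens} (i : Fin (N + 1)) (hV : V ≤ c.D i) :
    (c.base n i hV).1 i = 1 := by
  show res _ (c.x i i) ^ n = 1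
  rw [c.self, map_one, one_pow]

theorem eq_smul_base {V : X.Opens} (i : Fin (N + 1)) (hV : V ≤ c.D i) (a : c.sect n V) :
    a = res (le_inf le_rfl hV) (a.1 i) • c.base n i hV := by
  refine c.sect_ext_of_le hV ?_
  rw [smul_apply, base_self, mul_one, res_res, res_self]

/-! ### Global sections -/

/-- The global section given by a family. -/
def section' (a : c.sect n ⊤) : (c.twist n).val.sections :=
  PresheafOfModules.sectionsMk (fun V => c.sectRes (le_top : V.unop ≤ ⊤) a)
    (fun V W i => c.sect_ext fun k => res_res _ _ _)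

/-- The map from the structure sheaf given by a family. -/
def hom (a : c.sect n ⊤) : Coh.structureModule X ⟶ c.twist n :=
  (c.twist n).unitHomEquiv.symm (c.section' a)

theorem hom_app_one (a : c.sect n ⊤) (V : X.Opens) :
    (c.hom a).val.app (op V) (1 : Γ(X, V)) = c.sectRes (le_top : V ≤ ⊤) a := by
  have h := congrArg (fun s : (c.twist n).val.sections => s.1 (op V))
    ((c.twist n).unitHomEquiv.apply_symm_apply (c.section' a))
  exact h

theorem hom_app_apply (a : c.sect n ⊤) (V : X.Opens) (r : Γ(X, V)) :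
    (show c.sect n V from (c.hom a).val.app (op V) r) = r • c.sectRes (le_top : V ≤ ⊤) a := by
  have h : r = (show Γ(X, V) from r * 1) := (mul_one r).symm
  rw [← c.hom_app_one a V]
  conv_lhs => rw [h]
  exact ((c.hom a).val.app (op V)).hom.map_smul r (1 : Γ(X, V))

/-- Where a family is invertible. -/
def locus (a : c.sect n ⊤) : X.Opens := ⨆ i, X.basicOpen (a.1 i)

theorem bijective_hom_app (a : c.sect n ⊤) {W : X.Opens} (hW : W ≤ c.locus a) :
    Function.Bijective ((c.hom a).val.app (op W)) := by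
  let B : Fin (N + 1) → X.Opens := fun i => W ⊓ X.basicOpen (a.1 i)
  have hB : ∀ i, B i ≤ W := fun i => inf_le_left
  have hBc : W ≤ ⨆ i, B i := by
    rw [← inf_iSup_eq]; exact le_inf le_rfl hW
  have hBD : ∀ i, B i ≤ c.D i := fun i => inf_le_right.trans ((X.basicOpen_le _).trans inf_le_right)
  let u : ∀ i, Γ(X, B i) := fun i => res (inf_le_right.trans (X.basicOpen_le _) : B i ≤ ⊤ ⊓ c.D i) (a.1 i)
  have hu : ∀ i, IsUnit (u i) := by
    intro i
    have h := (RingedSpace.isUnit_res_basicOpen X.toRingedSpace (a.1 i)).map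
      (res (inf_le_right : B i ≤ X.basicOpen (a.1 i)))
    convert h using 1
    exact (res_res _ _ _).symm
  constructor
  · intro (r : Γ(X, W)) (r' : Γ(X, W)) h
    have h' : (r • c.sectRes (le_top : W ≤ ⊤) a) = r' • c.sectRes (le_top : W ≤ ⊤) a := by
      rw [← c.hom_app_apply, ← c.hom_app_apply]; exact h
    refine eq_of_cover B hB hBc fun i => (hu i).mul_left_injective ?_
    have h2 := congrArg (fun t : c.sect n W => res (le_inf (hB i) (hBD i)) (t.1 i)) h'
    simp only [smul_apply, sectRes_apply, map_mul, res_res] at h2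
    exact h2
  · intro (t : c.sect n W)
    let r : ∀ i, Γ(X, B i) := fun i =>
      res (le_inf (hB i) (hBD i)) (t.1 i) * ↑(hu i).unit⁻¹
    have hr : ∀ i, r i * u i = res (le_inf (hB i) (hBD i)) (t.1 i) := fun i => by
      simp [r, mul_assoc]
    have hagree : ∀ i j, res (inf_le_left : B i ⊓ B j ≤ B i) (r i) =
        res (inf_le_right : B i ⊓ B j ≤ B j) (r j) := by
      intro i j
      refine ((hu i).map (res inf_le_left)).mul_left_injective ?_
      dsimp only
      rw [← map_mul, hr]
      have e1 := c.sect_spec t i j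
        (inf_le_left.trans (le_inf (hB i) (hBD i)) : B i ⊓ B j ≤ W ⊓ c.D i)
        (inf_le_right.trans (le_inf (hB j) (hBD j)))
      have e2 := c.sect_spec a i j (le_inf le_top (inf_le_left.trans (hBD i)) : B i ⊓ B j ≤ ⊤ ⊓ c.D i)
        (le_inf le_top (inf_le_right.trans (hBD j)))
      have e3 := congrArg (res (inf_le_right : B i ⊓ B j ≤ B j)) (hr j)
      have e2' := (res_res (inf_le_right.trans (X.basicOpen_le _) : B i ≤ ⊤ ⊓ c.D i)
        (inf_le_left : B i ⊓ B j ≤ B i) (a.1 i)).trans e2
      have e3a : res (inf_le_right : B i ⊓ B j ≤ B j) (u j) =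
          res (inf_le_right.trans (le_inf le_top (hBD j)) : B i ⊓ B j ≤ ⊤ ⊓ c.D j) (a.1 j) := res_res _ _ _
      rw [map_mul, e3a] at e3
      have e3' := e3.trans (res_res (le_inf (hB j) (hBD j)) (inf_le_right : B i ⊓ B j ≤ B j) (t.1 j))
      rw [res_res, e1, e2', ← e3']
      ring
    obtain ⟨s, hs, -⟩ := X.sheaf.existsUnique_gluing' B W (fun i => homOfLE (hB i)) hBc r hagree
    refine ⟨s, ?_⟩
    show (show c.sect n W from (c.hom a).val.app (op W) s) = t
    rw [c.hom_app_apply]
    refine c.sect_ext fun l => ?_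
    refine eq_of_cover (fun i => (W ⊓ c.D l) ⊓ B i) (fun i => inf_le_left)
      (by rw [← inf_iSup_eq]; exact le_inf le_rfl (inf_le_left.trans hBc)) fun i => ?_
    have hl : (W ⊓ c.D l) ⊓ B i ≤ W ⊓ c.D l := inf_le_left
    have hi : (W ⊓ c.D l) ⊓ B i ≤ W ⊓ c.D i := inf_le_right.trans (le_inf (hB i) (hBD i))
    have e1 := c.sect_spec t l i hl hi
    have e2 := c.sect_spec a l i (le_inf le_top (hl.trans inf_le_right) : _ ≤ ⊤ ⊓ c.D l)
      (le_inf le_top (hi.trans inf_le_right))
    have e3 : res (hB i) s = r i := hs i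
    have e4 := congrArg (res (inf_le_right : (W ⊓ c.D l) ⊓ B i ≤ B i)) (hr i)
    rw [← e3] at e4
    have eu : res (inf_le_right : (W ⊓ c.D l) ⊓ B i ≤ B i) (u i) =
        res (le_inf le_top (hi.trans inf_le_right) : (W ⊓ c.D l) ⊓ B i ≤ ⊤ ⊓ c.D i) (a.1 i) := res_res _ _ _
    rw [map_mul, eu] at e4
    simp only [smul_apply, sectRes_apply, map_mul, res_res] at e4 ⊢
    rw [e1, e2, ← e4]
    ring

theorem mem_locus_of_bijective (a : c.sect n ⊤) {U : X.Opens}
    (h : ∀ W ≤ U, Function.Surjective ((c.hom a).val.app (op W))) : U ≤ c.locus a := by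
  intro x hx
  obtain ⟨i, hi⟩ := Opens.mem_iSup.mp (c.cover ▸ Opens.mem_top x : x ∈ ⨆ i, c.D i)
  let W := U ⊓ c.D i
  obtain ⟨(r : Γ(X, W)), hr⟩ := h W inf_le_left (c.base n i (inf_le_right : W ≤ c.D i))
  have hr' : r • c.sectRes (le_top : W ≤ ⊤) a = c.base n i (inf_le_right : W ≤ c.D i) := by
    rw [← c.hom_app_apply]; exact hr
  have h2 := congrArg (fun t : c.sect n W => t.1 i) hr'
  simp only [smul_apply, sectRes_apply, base_self] at h2
  refine Opens.mem_iSup.mpr ⟨i, ?_⟩
  have hu : IsUnit (res (inf_le_inf_right _ le_top : W ⊓ c.D i ≤ ⊤ ⊓ c.D i) (a.1 i)) :=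
    IsUnit.of_mul_eq_one _ ((mul_comm _ _).trans h2)
  have h3 := Scheme.basicOpen_of_isUnit X hu
  rw [Scheme.basicOpen_res] at h3
  have h4 : x ∈ (W ⊓ c.D i) ⊓ X.basicOpen (a.1 i) := h3.symm ▸ ⟨⟨hx, hi⟩, hi⟩
  exact h4.2

theorem isIso_restrict_hom (a : c.sect n ⊤) {U : X.Opens} (hU : U ≤ c.locus a) :
    IsIso ((Scheme.Modules.restrictFunctor U.ι).map (c.hom a)) := by
  rw [Scheme.Modules.Hom.isIso_iff_isIso_app]
  intro V
  rw [ConcreteCategory.isIso_iff_bijective]
  exact c.bijective_hom_app a (((U.ι.image_mono le_top).trans_eq (by simp)).trans hU)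

theorem genLocus_hom (a : c.sect n ⊤) : CohB1.genLocus (c.twist n) (c.hom a) = c.locus a := by
  refine le_antisymm (sSup_le fun U hU => ?_) (le_sSup (c.isIso_restrict_hom a le_rfl))
  refine c.mem_locus_of_bijective a fun W hW => ?_
  have : IsIso ((Scheme.Modules.restrictFunctor U.ι).map (c.hom a)) := hU
  have h := Scheme.Modules.Hom.isIso_iff_isIso_app.mp this (U.ι ⁻¹ᵁ W)
  rw [ConcreteCategory.isIso_iff_bijective] at h
  have e : U.ι ''ᵁ (U.ι ⁻¹ᵁ W) = W := by
    rw [Scheme.Hom.image_preimage_eq_opensRange_inf, Scheme.Opens.opensRange_ι]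
    exact inf_eq_right.mpr hW
  have h2 : Function.Surjective ((c.hom a).val.app (op (U.ι ''ᵁ (U.ι ⁻¹ᵁ W)))) := h.2
  rw [e] at h2
  exact h2

end LineData

end GrothLib.Ample
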