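import Groth.Prelude.Def_CohB1
import Groth.Agent.Lib.Ample.LineData
import Groth.Agent.Lib.InvExt.Gen

/-!
# Invertible modules given by cocycles

`Cocycle X` is an open cover `D` with units `g i j` on `D i ⊓ D j`; `twist n` is the module of families `(aᵢ)` with
`aᵢ = (g i j)ⁿ aⱼ`.
-/

universe u

set_option backward.isDefEq.respectTransparency false

open AlgebraicGeometry CategoryTheory CategoryTheory.Limits TopologicalSpace Opposite MonoidalCategory
open GrothLib.InvExt (mres IsGen)

noncomputable section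

namespace GrothLib.Ample

variable {X : Scheme.{u}}

theorem mres_smul' (M : X.Modules) {V W : X.Opens} (h : W ≤ V) (a : Γ(X, V)) (m : Γ(M, V)) :
    mres M h (a • m) = res h a • mres M h m :=
  InvExt.mres_smul M h a m

theorem meq_of_cover {ι : Type*} (M : X.Modules) {V : X.Opens} (W : ι → X.Opens) (hW : ∀ k, W k ≤ V)
    (hc : V ≤ ⨆ k, W k) {a b : Γ(M, V)} (h : ∀ k, mres M (hW k) a = mres M (hW k) b) : a = b :=
  TopCat.Sheaf.eq_of_locally_eq' ⟨M.presheaf, M.isSheaf⟩ W V (fun k => homOfLE (hW k)) hc a b h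

theorem app_mres {M M' : X.Modules} (φ : M ⟶ M') {V W : X.Opens} (h : W ≤ V) (m : Γ(M, V)) :
    φ.app W (mres M h m) = mres M' h (φ.app V m) :=
  PresheafOfModules.naturality_apply φ.val (homOfLE h).op m

theorem app_smul {M M' : X.Modules} (φ : M ⟶ M') {V : X.Opens} (a : Γ(X, V)) (m : Γ(M, V)) :
    φ.app V (a • m) = a • φ.app V m :=
  (φ.val.app (op V)).hom.map_smul a m

/-- A cocycle of units on an open cover. -/
structure Cocycle (X : Scheme.{u}) where
  /-- the index type of the cover -/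
  ι : Type u
  /-- the pieces of the cover -/
  D : ι → X.Opens
  /-- the transition functions -/
  g : ∀ i j, Γ(X, D i ⊓ D j)
  cover : ⨆ i, D i = ⊤
  self : ∀ (i) (W : X.Opens) (h : W ≤ D i), res (le_inf h h) (g i i) = 1
  change : ∀ (i j k) (W : X.Opens) (hi : W ≤ D i) (hj : W ≤ D j) (hk : W ≤ D k),
    res (le_inf hi hk) (g i k) = res (le_inf hi hj) (g i j) * res (le_inf hj hk) (g j k)

namespace Cocycle

variable (c : Cocycle X)

theorem exists_mem (p : X) : ∃ i, p ∈ c.D i :=
  Opens.mem_iSup.mp (c.cover ▸ Opens.mem_top p : p ∈ ⨆ i, c.D i)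

theorem iSup_inf_D (V : X.Opens) : V ≤ ⨆ i, V ⊓ c.D i := by
  rw [← inf_iSup_eq, c.cover, inf_top_eq]

/-- The transition function restricted to an open. -/
def G (i j : c.ι) {W : X.Opens} (hi : W ≤ c.D i) (hj : W ≤ c.D j) : Γ(X, W) :=
  res (le_inf hi hj) (c.g i j)

theorem res_G (i j : c.ι) {W W' : X.Opens} (hi : W ≤ c.D i) (hj : W ≤ c.D j) (h : W' ≤ W) :
    res h (c.G i j hi hj) = c.G i j (h.trans hi) (h.trans hj) :=
  res_res _ _ _

theorem G_self (i : c.ι) {W : X.Opens} (hi hi' : W ≤ c.D i) : c.G i i hi hi' = 1 := c.self i W hi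

theorem G_trans (i j k : c.ι) {W : X.Opens} (hi : W ≤ c.D i) (hj : W ≤ c.D j) (hk : W ≤ c.D k) :
    c.G i k hi hk = c.G i j hi hj * c.G j k hj hk :=
  c.change i j k W hi hj hk

theorem G_mul_G (i j : c.ι) {W : X.Opens} (hi : W ≤ c.D i) (hj : W ≤ c.D j) :
    c.G i j hi hj * c.G j i hj hi = 1 := by
  rw [← c.G_trans i j i hi hj hi, c.G_self]

theorem isUnit_G (i j : c.ι) {W : X.Opens} (hi : W ≤ c.D i) (hj : W ≤ c.D j) : IsUnit (c.G i j hi hj) :=
  IsUnit.of_mul_eq_one _ (c.G_mul_G i j hi hj)

/-- The families of local sections of the `n`-th twist. -/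
def sect (n : ℕ) (V : X.Opens) : AddSubgroup (∀ i, Γ(X, V ⊓ c.D i)) where
  carrier := {a | ∀ (i j) (W : X.Opens) (hi : W ≤ V ⊓ c.D i) (hj : W ≤ V ⊓ c.D j),
    res hi (a i) = c.G i j (hi.trans inf_le_right) (hj.trans inf_le_right) ^ n * res hj (a j)}
  zero_mem' i j W hi hj := by simp
  add_mem' {a b} ha hb i j W hi hj := by
    simp only [Pi.add_apply, map_add, ha i j W hi hj, hb i j W hi hj, mul_add]
  neg_mem' {a} ha i j W hi hj := by
    simp only [Pi.neg_apply, map_neg, ha i j W hi hj, mul_neg]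

variable {n : ℕ}

theorem sect_spec {V : X.Opens} (a : c.sect n V) (i j : c.ι) {W : X.Opens}
    (hi : W ≤ V ⊓ c.D i) (hj : W ≤ V ⊓ c.D j) :
    res hi (a.1 i) = c.G i j (hi.trans inf_le_right) (hj.trans inf_le_right) ^ n * res hj (a.1 j) :=
  a.2 i j W hi hj

theorem sect_ext {V : X.Opens} {a b : c.sect n V} (h : ∀ i, a.1 i = b.1 i) : a = b :=
  Subtype.ext (funext h)

/-- A family is determined by one component where that component's piece is everything. -/
theorem sect_ext_of_le {V : X.Opens} {i : c.ι} (hV : V ≤ c.D i) {a b : c.sect n V}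
    (h : a.1 i = b.1 i) : a = b := by
  refine c.sect_ext fun l => ?_
  have hl : V ⊓ c.D l ≤ V ⊓ c.D i := le_inf inf_le_left (inf_le_left.trans hV)
  have ha := c.sect_spec a l i le_rfl hl
  have hb := c.sect_spec b l i le_rfl hl
  rw [res_self] at ha hb
  rw [ha, hb, h]

instance sectSMul (V : X.Opens) : SMul Γ(X, V) (c.sect n V) where
  smul r a := ⟨fun i => res inf_le_left r * a.1 i, fun i j W hi hj => by
    simp only [map_mul, res_res, c.sect_spec a i j hi hj]
    ring⟩

theorem smul_apply {V : X.Opens} (r : Γ(X, V)) (a : c.sect n V) (i : c.ι) :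
    (r • a).1 i = res inf_le_left r * a.1 i := rfl

instance sectModule (V : X.Opens) : Module Γ(X, V) (c.sect n V) where
  one_smul a := c.sect_ext fun i => by simp [smul_apply]
  mul_smul r s a := c.sect_ext fun i => by simp [smul_apply, mul_assoc]
  smul_zero r := c.sect_ext fun i => by simp [smul_apply]
  smul_add r a b := c.sect_ext fun i => by simp [smul_apply, mul_add]
  add_smul r s a := c.sect_ext fun i => by simp [smul_apply, add_mul]
  zero_smul a := c.sect_ext fun i => by simp [smul_apply]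

/-- Restriction of families. -/
def sectRes {V W : X.Opens} (h : W ≤ V) : c.sect n V →+ c.sect n W where
  toFun a := ⟨fun i => res (inf_le_inf_right _ h) (a.1 i), fun i j U hi hj => by
    simp only [res_res]
    exact c.sect_spec a i j (hi.trans (inf_le_inf_right _ h)) (hj.trans (inf_le_inf_right _ h))⟩
  map_zero' := c.sect_ext fun i => by simp
  map_add' a b := c.sect_ext fun i => by simp

theorem sectRes_apply {V W : X.Opens} (h : W ≤ V) (a : c.sect n V) (i : c.ι) :
    (c.sectRes h a).1 i = res (inf_le_inf_right _ h) (a.1 i) := rfl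

theorem sectRes_smul {V W : X.Opens} (h : W ≤ V) (r : Γ(X, V)) (a : c.sect n V) :
    c.sectRes h (r • a) = res h r • c.sectRes h a :=
  c.sect_ext fun i => by simp [smul_apply, sectRes_apply, res_res]

theorem sectRes_sectRes {V W T : X.Opens} (h : W ≤ V) (h' : T ≤ W) (a : c.sect n V) :
    c.sectRes h' (c.sectRes h a) = c.sectRes (h'.trans h) a :=
  c.sect_ext fun i => res_res _ _ _

variable (n) in
/-- The presheaf of families. -/
def sectAb : TopCat.Presheaf AddCommGrpCat.{u} X.carrier where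
  obj V := AddCommGrpCat.of (c.sect n V.unop)
  map i := AddCommGrpCat.ofHom (c.sectRes (leOfHom i.unop))
  map_id V := by
    ext (a : c.sect n V.unop)
    exact res_self _ _
  map_comp i j := by
    ext (a : c.sect n _)
    exact (res_res _ _ _).symm

theorem isSheaf_sectAb : (c.sectAb n).IsSheaf := by
  rw [TopCat.Presheaf.isSheaf_iff_isSheafUniqueGluing]
  intro ι V sf hsf
  have hcov : ∀ i, iSup V ⊓ c.D i ≤ ⨆ k, V k ⊓ c.D i := fun i => le_of_eq (iSup_inf_eq V (c.D i))
  have key : ∀ i, ∃! a : Γ(X, iSup V ⊓ c.D i),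
      ∀ k, res (inf_le_inf_right _ (le_iSup V k)) a = (sf k).1 i := by
    intro i
    refine X.sheaf.existsUnique_gluing' (fun k => V k ⊓ c.D i) (iSup V ⊓ c.D i)
      (fun k => homOfLE (inf_le_inf_right _ (le_iSup V k))) (hcov i) _ fun k l => ?_
    have h1 : c.sectRes inf_le_left (sf k) = c.sectRes inf_le_right (sf l) := hsf k l
    have hle : (V k ⊓ c.D i) ⊓ (V l ⊓ c.D i) ≤ V k ⊓ V l ⊓ c.D i :=
      le_inf (inf_le_inf inf_le_left inf_le_left) (inf_le_left.trans inf_le_right)
    have h2 := congrArg (fun a : c.sect n (V k ⊓ V l) => res hle (a.1 i)) h1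
    simp only [sectRes_apply, res_res] at h2
    exact h2
  choose a ha hau using key
  have hmem : a ∈ c.sect n (iSup V) := by
    intro i j W hi hj
    refine eq_of_cover (fun k => W ⊓ V k) (fun k => inf_le_left)
      (by rw [← inf_iSup_eq]; exact le_inf le_rfl (hi.trans inf_le_left)) fun k => ?_
    have hik : W ⊓ V k ≤ V k ⊓ c.D i := le_inf inf_le_right ((inf_le_left.trans hi).trans inf_le_right)
    have hjk : W ⊓ V k ≤ V k ⊓ c.D j := le_inf inf_le_right ((inf_le_left.trans hj).trans inf_le_right)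
    have h := c.sect_spec (sf k) i j hik hjk
    rw [← ha i k, ← ha j k] at h
    simp only [map_mul, map_pow, res_res, res_G] at h ⊢
    exact h
  refine ⟨⟨a, hmem⟩, fun k => c.sect_ext fun i => ha i k, fun t ht => c.sect_ext fun i => ?_⟩
  exact hau i _ fun k => congrFun (congrArg Subtype.val (ht k)) i

variable (n) in
/-- The `n`-th twist. -/
def twist : X.Modules where
  val :=
    letI (V : (Opens X)ᵒᵖ) : Module (X.ringCatSheaf.obj.obj V) ((c.sectAb n).obj V) :=
      c.sectModule V.unop
    PresheafOfModules.ofPresheaf (c.sectAb n) fun V W i r a => c.sectRes_smul (leOfHom i.unop) r a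
  isSheaf := c.isSheaf_sectAb

variable {n : ℕ}

theorem mres_twist {V W : X.Opens} (h : W ≤ V) (a : c.sect n V) :
    mres (c.twist n) h a = c.sectRes h a := rfl

/-- The section over a piece of `D i` with `i`-th component one. -/
def base (n : ℕ) {V : X.Opens} (i : c.ι) (hV : V ≤ c.D i) : c.sect n V :=
  ⟨fun l => c.G l i inf_le_right (inf_le_left.trans hV) ^ n, fun p q W hp hq => by
    simp only [map_pow, res_G]
    rw [c.G_trans p q i (hp.trans inf_le_right) (hq.trans inf_le_right), mul_pow]⟩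

theorem base_apply (n : ℕ) {V : X.Opens} (i : c.ι) (hV : V ≤ c.D i) (l : c.ι) :
    (c.base n i hV).1 l = c.G l i inf_le_right (inf_le_left.trans hV) ^ n := rfl

theorem base_self (n : ℕ) {V : X.Opens} (i : c.ι) (hV : V ≤ c.D i) :
    (c.base n i hV).1 i = 1 := by
  rw [base_apply, c.G_self, one_pow]

theorem sectRes_base (n : ℕ) {V W : X.Opens} (i : c.ι) (hV : V ≤ c.D i) (h : W ≤ V) :
    c.sectRes h (c.base n i hV) = c.base n i (h.trans hV) :=
  c.sect_ext fun l => by simp only [sectRes_apply, base_apply, map_pow, res_G]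

theorem eq_smul_base {V : X.Opens} (i : c.ι) (hV : V ≤ c.D i) (a : c.sect n V) :
    a = res (le_inf le_rfl hV) (a.1 i) • c.base n i hV := by
  refine c.sect_ext_of_le hV ?_
  rw [smul_apply, base_self, mul_one, res_res, res_self]

theorem base_eq_smul_base (n : ℕ) (i j : c.ι) {W : X.Opens} (hi : W ≤ c.D i) (hj : W ≤ c.D j) :
    c.base n j hj = c.G i j hi hj ^ n • c.base n i hi := by
  refine c.sect_ext_of_le hi ?_
  rw [smul_apply, base_self, base_apply, mul_one, map_pow, res_G]

theorem isGen_base (n : ℕ) {V : X.Opens} (i : c.ι) (hV : V ≤ c.D i) :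
    IsGen (c.twist n) V (c.base n i hV) := by
  intro W h
  constructor
  · intro (r : Γ(X, W)) (r' : Γ(X, W)) hr
    have hr' : r • c.sectRes h (c.base n i hV) = r' • c.sectRes h (c.base n i hV) := hr
    have h2 := congrArg (fun t : c.sect n W => res (le_inf le_rfl (h.trans hV)) (t.1 i)) hr'
    simp only [smul_apply, sectRes_base, base_self, mul_one, res_res, res_self] at h2
    exact h2
  · intro (a : c.sect n W)
    refine ⟨res (le_inf le_rfl (h.trans hV)) (a.1 i), ?_⟩
    show (_ : Γ(X, W)) • c.sectRes h (c.base n i hV) = a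
    rw [sectRes_base]
    exact (c.eq_smul_base i (h.trans hV) a).symm

theorem isInvertible_twist (n : ℕ) : PicF.IsInvertible (c.twist n) :=
  InvExt.isInvertible_of_gens fun p =>
    let ⟨i, hi⟩ := c.exists_mem p
    ⟨c.D i, c.base n i le_rfl, hi, c.isGen_base n i le_rfl⟩

/-! ### Maps out of a twist -/

section Family

variable {M : X.Modules}

/-- Local values compatible with the cocycle. -/
def IsFamily (n : ℕ) (m : ∀ i, Γ(M, c.D i)) : Prop :=
  ∀ (i j : c.ι) (W : X.Opens) (hi : W ≤ c.D i) (hj : W ≤ c.D j),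
    mres M hj (m j) = c.G i j hi hj ^ n • mres M hi (m i)

variable {m : ∀ i, Γ(M, c.D i)}

theorem existsUnique_glue (hm : c.IsFamily n m) {V : X.Opens} (a : c.sect n V) :
    ∃! t : Γ(M, V), ∀ i, mres M inf_le_left t = a.1 i • mres M (inf_le_right : V ⊓ c.D i ≤ c.D i) (m i) := by
  refine TopCat.Sheaf.existsUnique_gluing' ⟨M.presheaf, M.isSheaf⟩ (fun i => V ⊓ c.D i) V
    (fun i => homOfLE inf_le_left) (c.iSup_inf_D V) _ fun i j => ?_
  show mres M inf_le_left (a.1 i • mres M inf_le_right (m i)) =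
    mres M inf_le_right (a.1 j • mres M inf_le_right (m j))
  rw [mres_smul', mres_smul', InvExt.mres_mres, InvExt.mres_mres,
    hm i j _ (inf_le_left.trans inf_le_right) (inf_le_right.trans inf_le_right), smul_smul,
    c.sect_spec a i j inf_le_left inf_le_right, mul_comm]

/-- The value of a family on a section. -/
def famApp (hm : c.IsFamily n m) {V : X.Opens} (a : c.sect n V) : Γ(M, V) :=
  (c.existsUnique_glue hm a).exists.choose

theorem mres_famApp (hm : c.IsFamily n m) {V : X.Opens} (a : c.sect n V) (i : c.ι) :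
    mres M inf_le_left (c.famApp hm a) = a.1 i • mres M (inf_le_right : V ⊓ c.D i ≤ c.D i) (m i) :=
  (c.existsUnique_glue hm a).exists.choose_spec i

theorem famApp_eq (hm : c.IsFamily n m) {V : X.Opens} (a : c.sect n V) {t : Γ(M, V)}
    (ht : ∀ i, mres M inf_le_left t = a.1 i • mres M (inf_le_right : V ⊓ c.D i ≤ c.D i) (m i)) :
    c.famApp hm a = t :=
  (c.existsUnique_glue hm a).unique (c.mres_famApp hm a) ht

theorem famApp_add (hm : c.IsFamily n m) {V : X.Opens} (a b : c.sect n V) :
    c.famApp hm (a + b) = c.famApp hm a + c.famApp hm b := by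
  refine c.famApp_eq hm _ fun i => ?_
  show mres M _ (_ + _) = (a.1 i + b.1 i) • _
  rw [add_smul, ← c.mres_famApp hm a i, ← c.mres_famApp hm b i]
  exact map_add _ _ _

theorem famApp_smul (hm : c.IsFamily n m) {V : X.Opens} (r : Γ(X, V)) (a : c.sect n V) :
    c.famApp hm (r • a) = r • c.famApp hm a := by
  refine c.famApp_eq hm _ fun i => ?_
  rw [mres_smul', c.mres_famApp, smul_apply, smul_smul]

theorem famApp_res (hm : c.IsFamily n m) {V W : X.Opens} (h : W ≤ V) (a : c.sect n V) :
    c.famApp hm (c.sectRes h a) = mres M h (c.famApp hm a) := by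
  refine c.famApp_eq hm _ fun i => ?_
  have e := congrArg (mres M (inf_le_inf_right (c.D i) h)) (c.mres_famApp hm a i)
  rw [InvExt.mres_mres, mres_smul', InvExt.mres_mres] at e
  rw [InvExt.mres_mres, sectRes_apply, ← e]

/-- The map out of a twist given by a compatible family. -/
def homOfFamily (hm : c.IsFamily n m) : c.twist n ⟶ M :=
  ⟨{
    app := fun V => ModuleCat.ofHom
      (X := ((c.twist n).val.obj V : Type u))
      (Y := (M.val.obj V : Type u))
      { toFun := fun (a : c.sect n V.unop) => c.famApp hm a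
        map_add' := fun a b => c.famApp_add hm a b
        map_smul' := fun (r : Γ(X, V.unop)) (a : c.sect n V.unop) => c.famApp_smul hm r a }
    naturality := fun {V W} f => by
      ext (a : c.sect n V.unop)
      exact c.famApp_res hm (leOfHom f.unop) a }⟩

theorem homOfFamily_app (hm : c.IsFamily n m) {V : X.Opens} (a : c.sect n V) :
    (c.homOfFamily hm).app V a = c.famApp hm a := rfl

theorem homOfFamily_base (hm : c.IsFamily n m) (i : c.ι) {V : X.Opens} (hV : V ≤ c.D i) :
    (c.homOfFamily hm).app V (c.base n i hV) = mres M hV (m i) := by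
  rw [homOfFamily_app]
  refine c.famApp_eq hm _ fun j => ?_
  rw [InvExt.mres_mres, base_apply]
  exact hm j i _ inf_le_right _

theorem hom_ext {φ ψ : c.twist n ⟶ M}
    (h : ∀ i, φ.app (c.D i) (c.base n i le_rfl) = ψ.app (c.D i) (c.base n i le_rfl)) : φ = ψ := by
  refine Scheme.Modules.hom_ext φ ψ fun V => ?_
  ext (a : c.sect n V)
  refine meq_of_cover M (fun i => V ⊓ c.D i) (fun _ => inf_le_left) (c.iSup_inf_D V) fun i => ?_
  let W := V ⊓ c.D i
  rw [← app_mres, ← app_mres, c.mres_twist]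
  have e : c.sectRes (inf_le_left : W ≤ V) a =
      res (le_inf le_rfl inf_le_right) ((c.sectRes (inf_le_left : W ≤ V) a).1 i) •
        c.sectRes (inf_le_right : W ≤ c.D i) (c.base n i le_rfl) := by
    rw [c.sectRes_base]
    exact c.eq_smul_base i _ _
  rw [e]
  refine (app_smul φ _ (c.sectRes inf_le_right (c.base n i le_rfl))).trans ?_
  refine Eq.trans ?_ (app_smul ψ _ (c.sectRes inf_le_right (c.base n i le_rfl))).symm
  refine congrArg (fun t : Γ(M, W) => res (le_inf le_rfl inf_le_right : W ≤ W ⊓ c.D i)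
    ((c.sectRes (inf_le_left : W ≤ V) a).1 i) • t) ?_
  exact (app_mres φ (inf_le_right : W ≤ c.D i) (c.base n i le_rfl)).trans
    ((congrArg (mres M (inf_le_right : W ≤ c.D i)) (h i)).trans
      (app_mres ψ (inf_le_right : W ≤ c.D i) (c.base n i le_rfl)).symm)

end Family

/-! ### Global sections -/

/-- The global section given by a family. -/
def section' (a : c.sect n ⊤) : (c.twist n).val.sections :=
  PresheafOfModules.sectionsMk (fun V => c.sectRes (le_top : V.unop ≤ ⊤) a)
    (fun V W i => c.sect_ext fun k => res_res _ _ _)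

/-- The map from the structure sheaf given by a family. -/
def hom (a : c.sect n ⊤) : Coh.structureModule X ⟶ c.twist n :=
  (c.twist n).unitHomEquiv.symm (c.section' a)

theorem exists_hom_eq (s : Coh.structureModule X ⟶ c.twist n) : ∃ a : c.sect n ⊤, c.hom a = s := by
  let σ := (c.twist n).unitHomEquiv s
  refine ⟨σ.1 (op ⊤), ?_⟩
  rw [hom, Equiv.symm_apply_eq]
  refine Subtype.ext (funext fun V => ?_)
  exact σ.2 (homOfLE (le_top : V.unop ≤ ⊤)).op

theorem hom_app_one (a : c.sect n ⊤) (V : X.Opens) :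
    (c.hom a).val.app (op V) (1 : Γ(X, V)) = c.sectRes (le_top : V ≤ ⊤) a :=
  congrArg (fun s : (c.twist n).val.sections => s.1 (op V))
    ((c.twist n).unitHomEquiv.apply_symm_apply (c.section' a))

theorem hom_app_apply (a : c.sect n ⊤) (V : X.Opens) (r : Γ(X, V)) :
    (show c.sect n V from (c.hom a).val.app (op V) r) = r • c.sectRes (le_top : V ≤ ⊤) a := by
  have h : r = (show Γ(X, V) from r * 1) := (mul_one r).symm
  rw [← c.hom_app_one a V]
  conv_lhs => rw [h]
  exact ((c.hom a).val.app (op V)).hom.map_smul r (1 : Γ(X, V))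

/-- Where a family is invertible. -/
def locus (a : c.sect n ⊤) : X.Opens := ⨆ i, X.basicOpen (a.1 i)

theorem basicOpen_le_D {V : X.Opens} (a : c.sect n V) (i : c.ι) : X.basicOpen (a.1 i) ≤ V ⊓ c.D i :=
  X.basicOpen_le _

theorem basicOpen_inf_D {V : X.Opens} (a : c.sect n V) (i j : c.ι) :
    X.basicOpen (a.1 j) ⊓ c.D i ≤ X.basicOpen (a.1 i) := by
  let W := (V ⊓ c.D j) ⊓ c.D i
  have hi : W ≤ V ⊓ c.D i := le_inf (inf_le_left.trans inf_le_left) inf_le_right
  have h := congrArg X.basicOpen (c.sect_spec a i j hi (inf_le_left : W ≤ V ⊓ c.D j))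
  rw [Scheme.basicOpen_res, Scheme.basicOpen_mul,
    Scheme.basicOpen_of_isUnit _ ((c.isUnit_G i j _ _).pow n), Scheme.basicOpen_res] at h
  intro p hp
  have hW : p ∈ W := ⟨c.basicOpen_le_D a j hp.1, hp.2⟩
  have : p ∈ W ⊓ X.basicOpen (a.1 i) := by
    rw [h]; exact ⟨hW, hW, hp.1⟩
  exact this.2

theorem locus_inf_D (a : c.sect n ⊤) (i : c.ι) : c.locus a ⊓ c.D i = X.basicOpen (a.1 i) := by
  refine le_antisymm ?_ (le_inf (le_iSup (fun j => X.basicOpen (a.1 j)) i)
    ((c.basicOpen_le_D a i).trans inf_le_right))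
  rw [locus, iSup_inf_eq]
  exact iSup_le fun j => c.basicOpen_inf_D a i j

theorem bijective_hom_app (a : c.sect n ⊤) {W : X.Opens} (hW : W ≤ c.locus a) :
    Function.Bijective ((c.hom a).val.app (op W)) := by
  have hgen : IsGen (c.twist n) (c.locus a) (c.sectRes le_top a) := by
    refine InvExt.isGen_of_cover (fun i => X.basicOpen (a.1 i)) (fun i => le_iSup (fun j => X.basicOpen (a.1 j)) i) le_rfl fun i => ?_
    have hD : X.basicOpen (a.1 i) ≤ c.D i := (c.basicOpen_le_D a i).trans inf_le_right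
    have e : mres (c.twist n) (le_iSup (fun j => X.basicOpen (a.1 j)) i : X.basicOpen (a.1 i) ≤ c.locus a)
          (c.sectRes le_top a) =
        (res (c.basicOpen_le_D a i) (a.1 i) • c.base n i hD : c.sect n _) := by
      rw [c.mres_twist, c.sectRes_sectRes]
      refine c.sect_ext_of_le hD ?_
      rw [sectRes_apply, smul_apply, base_self, mul_one, res_res]
    refine Eq.subst (motive := fun t => IsGen (c.twist n) (X.basicOpen (a.1 i)) t) e.symm ?_
    exact (c.isGen_base n i hD).smul_unit (u := res (c.basicOpen_le_D a i) (a.1 i))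
      (RingedSpace.isUnit_res_basicOpen X.toRingedSpace (a.1 i))
  have h : ((c.hom a).val.app (op W) : Γ(X, W) → c.sect n W) =
      fun r : Γ(X, W) => r • mres (c.twist n) hW (c.sectRes le_top a) := by
    funext r
    rw [c.mres_twist, c.sectRes_sectRes]
    exact c.hom_app_apply a W r
  exact h ▸ hgen W hW

theorem mem_locus_of_surjective (a : c.sect n ⊤) {U : X.Opens}
    (h : ∀ W ≤ U, Function.Surjective ((c.hom a).val.app (op W))) : U ≤ c.locus a := by
  intro x hx
  obtain ⟨i, hi⟩ := c.exists_mem x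
  let W := U ⊓ c.D i
  obtain ⟨(r : Γ(X, W)), hr⟩ := h W inf_le_left (c.base n i (inf_le_right : W ≤ c.D i))
  have hr' : r • c.sectRes (le_top : W ≤ ⊤) a = c.base n i (inf_le_right : W ≤ c.D i) := by
    rw [← c.hom_app_apply]; exact hr
  have h2 := congrArg (fun t : c.sect n W => t.1 i) hr'
  simp only [smul_apply, sectRes_apply, base_self] at h2
  refine Opens.mem_iSup.mpr ⟨i, ?_⟩
  have hu : IsUnit (res (inf_le_inf_right _ le_top : W ⊓ c.D i ≤ ⊤ ⊓ c.D i) (a.1 i)) :=
    IsUnit.of_mul_eq_one _ ((mul_comm _ _).trans h2)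
  have h3 := Scheme.basicOpen_of_isUnit X hu
  rw [Scheme.basicOpen_res] at h3
  have h4 : x ∈ (W ⊓ c.D i) ⊓ X.basicOpen (a.1 i) := h3.symm ▸ ⟨⟨hx, hi⟩, hi⟩
  exact h4.2

theorem isIso_restrict_hom (a : c.sect n ⊤) {U : X.Opens} (hU : U ≤ c.locus a) :
    IsIso ((Scheme.Modules.restrictFunctor U.ι).map (c.hom a)) := by
  rw [Scheme.Modules.Hom.isIso_iff_isIso_app]
  intro V
  rw [ConcreteCategory.isIso_iff_bijective]
  exact c.bijective_hom_app a (((U.ι.image_mono le_top).trans_eq (by simp)).trans hU)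

theorem genLocus_hom (a : c.sect n ⊤) : CohB1.genLocus (c.twist n) (c.hom a) = c.locus a := by
  refine le_antisymm (sSup_le fun U hU => ?_) (le_sSup (c.isIso_restrict_hom a le_rfl))
  refine c.mem_locus_of_surjective a fun W hW => ?_
  have : IsIso ((Scheme.Modules.restrictFunctor U.ι).map (c.hom a)) := hU
  have h := Scheme.Modules.Hom.isIso_iff_isIso_app.mp this (U.ι ⁻¹ᵁ W)
  rw [ConcreteCategory.isIso_iff_bijective] at h
  have e : U.ι ''ᵁ (U.ι ⁻¹ᵁ W) = W := by
    rw [Scheme.Hom.image_preimage_eq_opensRange_inf, Scheme.Opens.opensRange_ι]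
    exact inf_eq_right.mpr hW
  have h2 : Function.Surjective ((c.hom a).val.app (op (U.ι ''ᵁ (U.ι ⁻¹ᵁ W)))) := h.2
  rw [e] at h2
  exact h2

end Cocycle

end GrothLib.Ample
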