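import Groth.Agent.Lib.Ample.LineData

/-!
# Tensor powers of a twist, and the ampleness criterion
-/

universe u

set_option backward.isDefEq.respectTransparency false

open AlgebraicGeometry CategoryTheory CategoryTheory.Limits TopologicalSpace Opposite MonoidalCategory

noncomputable section

namespace GrothLib.Ample

variable {X : Scheme.{u}}

/-- A locally bijective map into a module induces an isomorphism from the sheafification. -/
theorem isIso_sheafify_desc (P : X.PresheafOfModules) (F : X.Modules)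
    (g : P ⟶ (PresheafOfModules.restrictScalars (𝟙 X.ringCatSheaf.obj)).obj F.val)
    [Presheaf.IsLocallyInjective (Opens.grothendieckTopology X) ((PresheafOfModules.toPresheaf _).map g)]
    [Presheaf.IsLocallySurjective (Opens.grothendieckTopology X) ((PresheafOfModules.toPresheaf _).map g)] :
    IsIso ((PresheafOfModules.sheafificationHomEquiv.{u} (𝟙 X.ringCatSheaf.obj) (P := P) (F := F)).symm g) := by
  rw [← isIso_iff_of_reflects_iso _ (SheafOfModules.toSheaf X.ringCatSheaf)]
  have h := PresheafOfModules.toSheaf_map_sheafificationHomEquiv_symm.{u}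
    (𝟙 X.ringCatSheaf.obj) (P := P) (F := F) g
  rw [Adjunction.homEquiv_counit] at h
  have hW := (Opens.grothendieckTopology X).W_of_isLocallyBijective ((PresheafOfModules.toPresheaf _).map g)
  rw [GrothendieckTopology.W_iff] at hW
  erw [h]
  infer_instance

namespace LineData

variable {N : ℕ} (c : LineData X N) {n : ℕ}

/-- Multiplication of families. -/
def mul {V : X.Opens} (a : c.sect n V) (b : c.sect 1 V) : c.sect (n + 1) V :=
  ⟨fun i => a.1 i * b.1 i, fun i j W hi hj => by
    simp only [map_mul, c.sect_spec a i j hi hj, c.sect_spec b i j hi hj, pow_succ, pow_one, pow_zero, one_mul]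
    ring⟩

theorem mul_apply {V : X.Opens} (a : c.sect n V) (b : c.sect 1 V) (i : Fin (N + 1)) :
    (c.mul a b).1 i = a.1 i * b.1 i := rfl

/-- The multiplication map on the presheaf tensor product. -/
def mulPre (n : ℕ) : CohB1.tensorPre (c.twist n) (c.twist 1) ⟶ CohB1.toPMod (c.twist (n + 1)) where
  app V := ModuleCat.MonoidalCategory.tensorLift
    (fun (a : c.sect n V.unop) (b : c.sect 1 V.unop) => c.mul a b)
    (fun a a' b => c.sect_ext fun i => add_mul _ _ _)
    (fun r a b => c.sect_ext fun i => mul_assoc _ _ _)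
    (fun a b b' => c.sect_ext fun i => mul_add _ _ _)
    (fun r a b => c.sect_ext fun i => mul_left_comm _ _ _)
  naturality {V W} f := ModuleCat.MonoidalCategory.tensor_ext (fun a b =>
    c.sect_ext fun i => (map_mul (res (inf_le_inf_right _ (leOfHom f.unop))) _ _).symm)

theorem mulPre_tmul (n : ℕ) {V : X.Opens} (a : c.sect n V) (b : c.sect 1 V) :
    (show c.sect (n + 1) V from ((c.mulPre n).app (op V)).hom (a ⊗ₜ[Γ(X, V)] b)) = c.mul a b := rfl

theorem mulPre_injective (n : ℕ) {V : X.Opens} (i : Fin (N + 1)) (hV : V ≤ c.D i) :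
    Function.Injective ((c.mulPre n).app (op V)).hom := by
  let e := c.base n i hV
  let e1 := c.base 1 i hV
  have hspan : ∀ z : TensorProduct Γ(X, V) (c.sect n V) (c.sect 1 V),
      ∃ r : Γ(X, V), z = r • (e ⊗ₜ[Γ(X, V)] e1) := by
    intro z
    induction z with
    | zero => exact ⟨0, (zero_smul _ _).symm⟩
    | tmul a b =>
      refine ⟨res (le_inf le_rfl hV) (a.1 i) * res (le_inf le_rfl hV) (b.1 i), ?_⟩
      conv_lhs => rw [c.eq_smul_base i hV a, c.eq_smul_base i hV b]
      rw [TensorProduct.tmul_smul, ← TensorProduct.smul_tmul', smul_smul, mul_comm]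
    | add z w hz hw =>
      obtain ⟨r, hr⟩ := hz
      obtain ⟨s, hs⟩ := hw
      exact ⟨r + s, by rw [hr, hs, add_smul]⟩
  let φ := ((c.mulPre n).app (op V)).hom
  change Function.Injective φ
  rw [injective_iff_map_eq_zero]
  intro (z : TensorProduct Γ(X, V) (c.sect n V) (c.sect 1 V)) hz
  obtain ⟨r, rfl⟩ := hspan z
  have h : r • c.mul e e1 = 0 := by
    rw [← c.mulPre_tmul n e e1]
    exact (φ.map_smul r _).symm.trans hz
  have h2 := congrArg (fun t : c.sect (n + 1) V => res (le_inf le_rfl hV) (t.1 i)) h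
  simp only [smul_apply, mul_apply, e, e1, base_self, mul_one, res_res, res_self, ZeroMemClass.coe_zero,
    Pi.zero_apply, map_zero] at h2
  rw [h2, zero_smul]

theorem iSup_inf_D (V : X.Opens) : V ≤ ⨆ i, V ⊓ c.D i := by
  rw [← inf_iSup_eq, c.cover, inf_top_eq]

instance isLocallyInjective_mulPre (n : ℕ) :
    Presheaf.IsLocallyInjective (Opens.grothendieckTopology X)
      ((PresheafOfModules.toPresheaf _).map (c.mulPre n)) where
  equalizerSieve_mem {V} z w h := by
    intro p hp
    obtain ⟨i, hi⟩ := Opens.mem_iSup.mp (c.iSup_inf_D V.unop hp)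
    refine ⟨V.unop ⊓ c.D i, homOfLE inf_le_left, ?_, hi⟩
    refine c.mulPre_injective n i inf_le_right ?_
    have h1 := (PresheafOfModules.naturality_apply (c.mulPre n) (homOfLE (inf_le_left : V.unop ⊓ c.D i ≤ V.unop)).op z)
    have h2 := (PresheafOfModules.naturality_apply (c.mulPre n) (homOfLE (inf_le_left : V.unop ⊓ c.D i ≤ V.unop)).op w)
    exact h1.trans ((congrArg _ h).trans h2.symm)

instance isLocallySurjective_mulPre (n : ℕ) :
    Presheaf.IsLocallySurjective (Opens.grothendieckTopology X)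
      ((PresheafOfModules.toPresheaf _).map (c.mulPre n)) where
  imageSieve_mem {V} t := by
    intro p hp
    obtain ⟨i, hi⟩ := Opens.mem_iSup.mp (c.iSup_inf_D V hp)
    refine ⟨V ⊓ c.D i, homOfLE inf_le_left, ?_, hi⟩
    let W := V ⊓ c.D i
    let t' : c.sect (n + 1) W := c.sectRes (inf_le_left : W ≤ V) t
    let r : Γ(X, W) := res (le_inf le_rfl inf_le_right) (t'.1 i)
    refine ⟨(r • c.base n i (inf_le_right : W ≤ c.D i)) ⊗ₜ[Γ(X, W)] c.base 1 i (inf_le_right : W ≤ c.D i), ?_⟩
    refine (c.mulPre_tmul n _ _).trans ?_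
    refine c.sect_ext_of_le (inf_le_right : W ≤ c.D i) ?_
    simp only [mul_apply, smul_apply, base_self, mul_one, r, res_res, res_self]
    rfl

/-- `twist n ⊗ twist 1 ≅ twist (n + 1)`. -/
theorem nonempty_tensor_twist (n : ℕ) :
    Nonempty (CohB1.tensorMod (c.twist n) (c.twist 1) ≅ c.twist (n + 1)) := by
  let g : (show X.PresheafOfModules from CohB1.tensorPre (c.twist n) (c.twist 1)) ⟶
      (PresheafOfModules.restrictScalars (𝟙 X.ringCatSheaf.obj)).obj (c.twist (n + 1)).val := c.mulPre n
  haveI : Presheaf.IsLocallyInjective (Opens.grothendieckTopology X)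
      ((PresheafOfModules.toPresheaf _).map g) := c.isLocallyInjective_mulPre n
  haveI : Presheaf.IsLocallySurjective (Opens.grothendieckTopology X)
      ((PresheafOfModules.toPresheaf _).map g) := c.isLocallySurjective_mulPre n
  haveI := isIso_sheafify_desc _ _ g
  exact ⟨asIso ((PresheafOfModules.sheafificationHomEquiv.{u} (𝟙 X.ringCatSheaf.obj)
    (P := show X.PresheafOfModules from CohB1.tensorPre (c.twist n) (c.twist 1))
    (F := c.twist (n + 1))).symm g)⟩

/-- The family `1`. -/
def one : c.sect 0 (⊤ : X.Opens) := ⟨fun _ => 1, fun i j W hi hj => by simp⟩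

theorem locus_one : c.locus c.one = ⊤ := by
  refine top_le_iff.mp fun p _ => ?_
  obtain ⟨i, hi⟩ := Opens.mem_iSup.mp (c.cover ▸ Opens.mem_top p : p ∈ ⨆ i, c.D i)
  refine Opens.mem_iSup.mpr ⟨i, ?_⟩
  rw [Scheme.basicOpen_of_isUnit X (show IsUnit (c.one.1 i) from isUnit_one)]
  exact ⟨trivial, hi⟩

theorem nonempty_twist_zero : Nonempty (Coh.structureModule X ≅ c.twist 0) := by
  haveI : IsIso (c.hom c.one) := by
    rw [Scheme.Modules.Hom.isIso_iff_isIso_app]
    intro V
    rw [ConcreteCategory.isIso_iff_bijective]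
    exact c.bijective_hom_app c.one (c.locus_one ▸ le_top)
  exact ⟨asIso (c.hom c.one)⟩

/-- The tensor product of isomorphisms. -/
def tensorModMapIso {M M' N₁ N₂ : X.Modules} (e : M ≅ M') (e' : N₁ ≅ N₂) :
    CohB1.tensorMod M N₁ ≅ CohB1.tensorMod M' N₂ :=
  (CohB1.sheafifyMod X).mapIso
    (MonoidalCategory.tensorIso (C := CohB1.PMod X)
      ((Scheme.Modules.toPresheafOfModules X).mapIso e) ((Scheme.Modules.toPresheafOfModules X).mapIso e'))

theorem nonempty_tensorPow_iso {L : X.Modules} (e : L ≅ c.twist 1) :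
    ∀ n, Nonempty (CohB1.tensorPow L n ≅ c.twist n) := by
  intro n
  induction n with
  | zero => exact c.nonempty_twist_zero
  | succ n ih =>
    obtain ⟨d⟩ := ih
    obtain ⟨m⟩ := c.nonempty_tensor_twist n
    exact ⟨tensorModMapIso d e ≪≫ m⟩

end LineData

theorem genLocus_comp_iso {M M' : X.Modules} (e : M ≅ M') (s : Coh.structureModule X ⟶ M) :
    CohB1.genLocus M' (s ≫ e.hom) = CohB1.genLocus M s := by
  unfold CohB1.genLocus
  congr 1
  ext U
  simp only [Set.mem_setOf_eq, Functor.map_comp]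
  exact ⟨fun h => IsIso.of_isIso_comp_right _ ((Scheme.Modules.restrictFunctor U.ι).map e.hom),
    fun h => inferInstance⟩

namespace LineData

variable {N : ℕ} (c : LineData X N)

theorem isInvertible_of_iso {L : X.Modules} (e : L ≅ c.twist 1) : PicF.IsInvertible L := by
  intro p
  obtain ⟨i, hi⟩ := Opens.mem_iSup.mp (c.cover ▸ Opens.mem_top p : p ∈ ⨆ i, c.D i)
  let a : Coh.structureModule (c.D i).toScheme ⟶ (c.twist 1).restrict (c.D i).ι :=
    ((c.twist 1).restrict (c.D i).ι).unitHomEquiv.symm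
      (PresheafOfModules.sectionsMk
        (fun V => c.base 1 i (((c.D i).ι.image_mono le_top).trans_eq (by simp) :
          (c.D i).ι ''ᵁ V.unop ≤ c.D i))
        (fun V W j => c.sect_ext fun k => by
          change res _ (res _ (c.x k i) ^ 1) = res _ (c.x k i) ^ 1
          rw [map_pow, res_res]))
  have ha : IsIso a := by
    rw [Scheme.Modules.Hom.isIso_iff_isIso_app]
    intro V
    rw [ConcreteCategory.isIso_iff_bijective]
    have hV : (c.D i).ι ''ᵁ V ≤ c.D i := ((c.D i).ι.image_mono le_top).trans_eq (by simp)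
    let ρ : Γ((c.D i).toScheme, V) →+* Γ(X, (c.D i).ι ''ᵁ V) := ((c.D i).ι.appIso V).inv.hom
    have h : ∀ r : Γ((c.D i).toScheme, V),
        (show c.sect 1 ((c.D i).ι ''ᵁ V) from a.val.app (op V) r) = ρ r • c.base 1 i hV := by
      intro r
      have h1 : a.val.app (op V) (1 : Γ((c.D i).toScheme, V)) = c.base 1 i hV :=
        congrArg (fun s : ((c.twist 1).restrict (c.D i).ι).val.sections => s.1 (op V))
          (((c.twist 1).restrict (c.D i).ι).unitHomEquiv.apply_symm_apply _)
      have h2 : r = (show Γ((c.D i).toScheme, V) from r * 1) := (mul_one r).symm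
      conv_lhs => rw [h2]
      refine ((a.val.app (op V)).hom.map_smul r (1 : Γ((c.D i).toScheme, V))).trans ?_
      rw [h1]
      rfl
    constructor
    · intro (r : Γ((c.D i).toScheme, V)) (r' : Γ((c.D i).toScheme, V)) hr
      have h3 : ρ r • c.base 1 i hV = ρ r' • c.base 1 i hV := (h r).symm.trans (Eq.trans hr (h r'))
      have h4 := congrArg (fun t : c.sect 1 _ => res (le_inf le_rfl hV) (t.1 i)) h3
      simp only [smul_apply, base_self, mul_one, res_res, res_self] at h4
      exact ((c.D i).ι.appIso V).symm.commRingCatIsoToRingEquiv.injective h4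
    · intro (t : c.sect 1 ((c.D i).ι ''ᵁ V))
      refine ⟨((c.D i).ι.appIso V).hom.hom (res (le_inf le_rfl hV) (t.1 i)), (h _).trans ?_⟩
      rw [show ρ _ = _ from Iso.hom_inv_id_apply ((c.D i).ι.appIso V) _]
      exact (c.eq_smul_base i hV t).symm
  exact ⟨c.D i, hi, ⟨(Scheme.Modules.restrictFunctor (c.D i).ι).mapIso e ≪≫ (asIso a).symm⟩⟩

/-- The criterion for ampleness. -/
theorem isAmple_of_iso {L : X.Modules} (e : L ≅ c.twist 1) [CompactSpace X]
    (h : ∀ p : X, ∃ (n : ℕ) (a : c.sect (n + 1) ⊤), p ∈ c.locus a ∧ IsAffineOpen (c.locus a)) :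
    CohB1.IsAmple L := by
  refine ⟨c.isInvertible_of_iso e, ‹_›, fun p => ?_⟩
  obtain ⟨n, a, hp, ha⟩ := h p
  obtain ⟨d⟩ := c.nonempty_tensorPow_iso e (n + 1)
  refine ⟨n, c.hom a ≫ d.inv, ?_⟩
  rw [show CohB1.genLocus _ (c.hom a ≫ d.inv) = c.locus a from
    (genLocus_comp_iso d.symm (c.hom a)).trans (c.genLocus_hom a)]
  exact ⟨hp, ha⟩

end LineData

end GrothLib.Ample
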