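import Groth.Agent.Lib.Ample.RelAmple

/-!
# Products of ample and pointwise generated modules; the structure module
-/

universe u

set_option backward.isDefEq.respectTransparency false

open AlgebraicGeometry CategoryTheory CategoryTheory.Limits TopologicalSpace Opposite

noncomputable section

namespace GrothLib.Ample

variable {X Y Z : Scheme.{u}}

namespace Cocycle

variable (c c' : Cocycle X) {n : ℕ}

theorem locus_mulProd (a : c.sect n ⊤) (b : c'.sect n ⊤) :
    (c.prod c').locus (c.mulProd c' a b) = c.locus a ⊓ c'.locus b := by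
  ext p
  obtain ⟨i, hi⟩ := c.exists_mem p
  obtain ⟨k, hk⟩ := c'.exists_mem p
  have hik : p ∈ (c.prod c').D (i, k) := ⟨hi, hk⟩
  simp only [SetLike.mem_coe, Opens.mem_inf]
  rw [(c.prod c').mem_locus_iff _ hik, c.mem_locus_iff a hi, c'.mem_locus_iff b hk, mulProd_apply,
    Scheme.basicOpen_mul, Opens.mem_inf]
  erw [Scheme.basicOpen_res, Scheme.basicOpen_res]
  exact ⟨fun h => ⟨h.1.2, h.2.2⟩, fun h => ⟨⟨⟨trivial, hik⟩, h.1⟩, ⟨trivial, hik⟩, h.2⟩⟩

theorem nonempty_tensorMod_iso_prod {L L' : X.Modules} (e : L ≅ c.twist n) (e' : L' ≅ c'.twist n) :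
    Nonempty (CohB1.tensorMod L L' ≅ (c.prod c').twist n) :=
  ⟨LineData.tensorModMapIso e e' ≪≫ (c.nonempty_tensor_prod c' n).some⟩

theorem isAmp_prod (h : c.IsAmp) (h' : ∀ p : X, ∃ (m : ℕ) (b : c'.sect (m + 1) ⊤), p ∈ c'.locus b) :
    (c.prod c').IsAmp := fun p => by
  obtain ⟨n, a, hpa, ha⟩ := h p
  obtain ⟨m, b, hpb⟩ := h' p
  let a' : c.sect ((n + 1) * (m + 1)) ⊤ := c.sectPow a (m + 1)
  let b' : c'.sect ((n + 1) * (m + 1)) ⊤ := c'.sectCast (mul_comm _ _) (c'.sectPow b (n + 1))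
  obtain ⟨N, hN⟩ : ∃ N, (n + 1) * (m + 1) = N + 1 :=
    ⟨(n + 1) * (m + 1) - 1, by
      have := Nat.mul_pos (Nat.add_pos_right n Nat.one_pos) (Nat.add_pos_right m Nat.one_pos); omega⟩
  refine ⟨N, (c.prod c').sectCast hN (c.mulProd c' a' b'), ?_⟩
  rw [(c.prod c').locus_sectCast, locus_mulProd, c.locus_sectPow a (Nat.succ_pos m), c'.locus_sectCast,
    c'.locus_sectPow b (Nat.succ_pos n)]
  exact ⟨⟨hpa, hpb⟩, inf_comm (c.locus a) _ ▸ c'.isAffineOpen_locus_inf b ha⟩

theorem nonempty_structureModule_iso_of_g_eq_one (h : ∀ i k, c.g i k = 1) :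
    Nonempty (Coh.structureModule X ≅ c.twist n) := by
  let a : c.sect n (⊤ : X.Opens) := ⟨fun _ => 1, fun i j W hi hj => by simp [Cocycle.G, h]⟩
  haveI := c.isIso_hom_of_locus_eq_top a (c.locus_eq_top_of_isUnit a fun _ => isUnit_one)
  exact ⟨asIso (c.hom a)⟩

end Cocycle

theorem nonempty_pullback_structureModule (j : Y ⟶ X) :
    Nonempty ((Scheme.Modules.pullback j).obj (Coh.structureModule X) ≅ Coh.structureModule Y) := by
  obtain ⟨e⟩ := (Cocycle.triv X).nonempty_structureModule_iso_of_g_eq_one (n := 1) fun _ _ => rfl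
  obtain ⟨d⟩ := (Cocycle.triv X).nonempty_pullback_iso j e
  obtain ⟨e'⟩ := ((Cocycle.triv X).comap j).nonempty_structureModule_iso_of_g_eq_one (n := 1)
    fun _ _ => map_one (j.appLE _ _ _).hom
  exact ⟨d ≪≫ e'.symm⟩

theorem isAmple_restrict_structureModule_iff (U : X.Opens) :
    CohB1.IsAmple ((Coh.structureModule X).restrict U.ι) ↔ CohB1.IsAmple (Coh.structureModule (U : Scheme.{u})) :=
  isAmple_iff_of_iso (Scheme.Modules.restrictUnitIso U.ι)

/-- The structure module is relatively ample for a composite. -/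
theorem isRelAmple_structureModule_comp {f : X ⟶ Y} {g : Y ⟶ Z}
    (hf : RelAmple.IsRelAmple f (Coh.structureModule X)) (hg : RelAmple.IsRelAmple g (Coh.structureModule Y)) :
    RelAmple.IsRelAmple (f ≫ g) (Coh.structureModule X) := by
  haveI := hf.1
  haveI := hg.1
  refine isRelAmple_of_cover fun z => ?_
  obtain ⟨W, hW, hzW, -⟩ := exists_isAffineOpen_mem_and_subset (Opens.mem_top z)
  refine ⟨W, hzW, hW, ?_⟩
  let V : Y.Opens := g ⁻¹ᵁ W
  let U : X.Opens := f ⁻¹ᵁ V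
  haveI : CompactSpace (U : Scheme.{u}) :=
    isCompact_iff_compactSpace.mp (f.isCompact_preimage (g.isCompact_preimage hW.isCompact))
  have hV := (isAmple_restrict_structureModule_iff V).mp (hg.2 ⟨W, hW⟩)
  obtain ⟨-, hcov⟩ := isAmple_structureModule_iff.mp hV
  choose r hr hra using hcov
  let q : (U : Scheme.{u}) ⟶ V := f.resLE V U le_rfl
  let t : V → Γ((U : Scheme.{u}), ⊤) := fun v => q.appTop (r v)
  refine (isAmple_restrict_structureModule_iff U).mpr
    (isAmple_of_basicOpens (fun x => ⟨⊤, trivial, ⟨Scheme.Modules.restrictUnitIso _⟩⟩) t ?_ fun v => ?_)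
  · refine eq_top_iff.mpr fun x _ => Opens.mem_iSup.mpr ⟨q x, ?_⟩
    show x ∈ (U : Scheme.{u}).basicOpen (q.appTop (r (q x)))
    rw [← Scheme.preimage_basicOpen_top]
    exact hr (q x)
  · let O : Y.Opens := V.ι ''ᵁ (V : Scheme.{u}).basicOpen (r v)
    have hO : IsAffineOpen O := (hra v).image_of_isOpenImmersion V.ι
    let W' := (U : Scheme.{u}).basicOpen (t v)
    have hW' : U.ι ''ᵁ W' = f ⁻¹ᵁ O := by
      ext x
      constructor
      · rintro ⟨z, hz, rfl⟩
        have hz' : z ∈ q ⁻¹ᵁ (V : Scheme.{u}).basicOpen (r v) := by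
          rw [Scheme.preimage_basicOpen_top]; exact hz
        refine ⟨q z, hz', ?_⟩
        show (q ≫ V.ι) z = (U.ι ≫ f) z
        rw [Scheme.Hom.resLE_comp_ι]
      · rintro ⟨w, hw, hwx⟩
        have hx : x ∈ U := show f x ∈ V from hwx ▸ w.2
        refine ⟨⟨x, hx⟩, ?_, rfl⟩
        show (⟨x, hx⟩ : U) ∈ (U : Scheme.{u}).basicOpen (q.appTop (r v))
        rw [← Scheme.preimage_basicOpen_top]
        have : q ⟨x, hx⟩ = w := V.ι.isOpenEmbedding.injective
          ((show (q ≫ V.ι) ⟨x, hx⟩ = (U.ι ≫ f) ⟨x, hx⟩ by rw [Scheme.Hom.resLE_comp_ι]).trans hwx.symm)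
        show q ⟨x, hx⟩ ∈ (V : Scheme.{u}).basicOpen (r v)
        rw [this]
        exact hw
    haveI : CompactSpace (W' : Scheme.{u}) := by
      refine isCompact_iff_compactSpace.mp (U.ι.isOpenEmbedding.isEmbedding.isInducing.isCompact_iff.mpr ?_)
      show IsCompact ((U.ι ''ᵁ W' : X.Opens) : Set X)
      rw [hW']
      exact f.isCompact_preimage hO.isCompact
    rw [isAmple_restrict_iff, isAmple_iff_of_iso ((Scheme.Modules.pullback W'.ι).mapIso
      ((Scheme.Modules.restrictUnitIso U.ι).symm ≪≫ (Scheme.Modules.restrictFunctorIsoPullback U.ι).app _)),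
      isAmple_pullback_comp_iff]
    refine isAmple_pullback_of_range_le _ (f ⁻¹ᵁ O).ι ?_ ((isAmple_restrict_iff _ _).mp (hf.2 ⟨O, hO⟩))
    rintro _ ⟨z, rfl⟩
    rw [(f ⁻¹ᵁ O).range_ι, ← hW']
    exact ⟨W'.ι z, z.2, rfl⟩

end GrothLib.Ample
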