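import Groth.Agent.Lib.Ample.Comap
import Groth.Agent.Lib.ProjAlg.Chart

/-!
# Immersions into projective space over the base give relatively ample modules
-/

universe u

set_option backward.isDefEq.respectTransparency false

open AlgebraicGeometry CategoryTheory CategoryTheory.Limits TopologicalSpace Opposite

noncomputable section

namespace GrothLib.Ample

/-- The coordinate ratios underlying coordinates over a base. -/
def lineData {X S : Scheme.{u}} {f : X ⟶ S} {N : ℕ} (c : ProjAlg.Coord f N) : LineData X N where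
  D := c.D
  x := c.x
  cover := c.cover
  self := c.self
  basic := c.basic
  change := c.change

section homog

variable {R : Type u} [CommRing R] {N : ℕ}

/-- Homogenisation with respect to the `j`-th variable, raised by one degree. -/
def homog (j : Fin (N + 1)) (P : MvPolynomial (Fin (N + 1)) R) : MvPolynomial (Fin (N + 1)) R :=
  ∑ d ∈ Finset.range (P.totalDegree + 1),
    MvPolynomial.X j ^ (P.totalDegree + 1 - d) * MvPolynomial.homogeneousComponent d P

theorem isHomogeneous_homog (j : Fin (N + 1)) (P : MvPolynomial (Fin (N + 1)) R) :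
    (homog j P).IsHomogeneous (P.totalDegree + 1) := by
  refine MvPolynomial.IsHomogeneous.sum _ _ _ fun d hd => ?_
  have h := (MvPolynomial.isHomogeneous_X_pow (R := R) j (P.totalDegree + 1 - d)).mul
    (MvPolynomial.homogeneousComponent_isHomogeneous d P)
  rwa [Nat.sub_add_cancel (Finset.mem_range.mp hd).le] at h

theorem X_dvd_homog (j : Fin (N + 1)) (P : MvPolynomial (Fin (N + 1)) R) :
    MvPolynomial.X j ∣ homog j P :=
  Finset.dvd_sum fun d hd => Dvd.dvd.mul_right
    (dvd_pow_self _ (Nat.sub_ne_zero_of_lt (Finset.mem_range.mp hd))) _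

end homog

variable {X S : Scheme.{u}} {f : X ⟶ S} {N : ℕ} (c : ProjAlg.Coord f N) {V : S.Opens}

theorem evT_homog (j : Fin (N + 1)) (P : MvPolynomial (Fin (N + 1)) Γ(S, V)) :
    c.evT j V (homog j P) = c.evT j V P := by
  conv_rhs => rw [← MvPolynomial.sum_homogeneousComponent P]
  rw [homog, map_sum, map_sum]
  refine Finset.sum_congr rfl fun d _ => ?_
  rw [map_mul, map_pow]
  simp [ProjAlg.Coord.evT, ProjAlg.Coord.xV, c.self]

theorem evT_surjective (hV : IsAffineOpen V) (j : Fin (N + 1)) : Function.Surjective (c.evT j V) := by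
  intro a
  have h : a ∈ Subring.closure (Set.range (c.str j V) ∪ Set.range fun k => c.xV j k V) := by
    rw [c.gen j V hV]; trivial
  refine (Subring.closure_le (t := (c.evT j V).range)).mpr ?_ h
  rintro _ (⟨r, rfl⟩ | ⟨k, rfl⟩)
  · exact ⟨MvPolynomial.C r, by simp [ProjAlg.Coord.evT]⟩
  · exact ⟨MvPolynomial.X k, by simp [ProjAlg.Coord.evT]⟩

theorem evT_twist (hV : IsAffineOpen V) (i j : Fin (N + 1)) {d : ℕ}
    {P : MvPolynomial (Fin (N + 1)) Γ(S, V)} (hP : P.IsHomogeneous d) {W : X.Opens}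
    (hi : W ≤ c.W i V) (hj : W ≤ c.W j V) :
    res hi (c.evT i V P) = res hi (c.xV i j V) ^ d * res hj (c.evT j V P) := by
  have h := c.twist hV i j hi hj (s := c.quot V P) (c.ev_mem_deg hP)
  rwa [c.ε_quot hV, c.ε_quot hV] at h

theorem basicOpen_evT_homog_le (hV : IsAffineOpen V) (i j : Fin (N + 1))
    (P : MvPolynomial (Fin (N + 1)) Γ(S, V)) :
    X.basicOpen (c.evT i V (homog j P)) ≤ X.basicOpen (c.evT j V P) := by
  obtain ⟨G, hG⟩ := X_dvd_homog j P
  have h0 : X.basicOpen (c.evT i V (homog j P)) ≤ c.W i V ⊓ c.W j V := by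
    refine le_inf (X.basicOpen_le _) (le_inf ?_ ((X.basicOpen_le _).trans inf_le_right))
    rw [hG, map_mul, Scheme.basicOpen_mul]
    refine inf_le_left.trans ?_
    rw [show c.evT i V (MvPolynomial.X j) = c.xV i j V by simp [ProjAlg.Coord.evT], c.basicOpen_xV]
    exact inf_le_right
  have h := congrArg X.basicOpen (evT_twist c hV i j (isHomogeneous_homog j P)
    (inf_le_left : c.W i V ⊓ c.W j V ≤ _) inf_le_right)
  rw [Scheme.basicOpen_mul, Scheme.basicOpen_res, Scheme.basicOpen_res, evT_homog] at h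
  intro p hp
  have h1 : p ∈ (c.W i V ⊓ c.W j V) ⊓ X.basicOpen (c.evT i V (homog j P)) := ⟨h0 hp, hp⟩
  rw [h] at h1
  exact h1.2.2

section family

variable {Y : Scheme.{u}} (h : Y ⟶ X) (hh : ⊤ ≤ h ⁻¹ᵁ (f ⁻¹ᵁ V))

theorem piece_le (hh : ⊤ ≤ h ⁻¹ᵁ (f ⁻¹ᵁ V)) (i : Fin (N + 1)) :
    ⊤ ⊓ h ⁻¹ᵁ c.D i ≤ h ⁻¹ᵁ c.W i V :=
  fun p hp => ⟨hp.2, hh hp.1⟩

/-- The family of a homogeneous polynomial, on a scheme mapping over `V`. -/
def family (hV : IsAffineOpen V) {d : ℕ} {G : MvPolynomial (Fin (N + 1)) Γ(S, V)}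
    (hG : G.IsHomogeneous d) : ((lineData c).comap h).sect d ⊤ :=
  ⟨fun i => (h.appLE (c.W i V) (⊤ ⊓ h ⁻¹ᵁ c.D i) (piece_le c h hh i)).hom (c.evT i V G),
    fun i k W hi hk => by
      have hW : W ≤ h ⁻¹ᵁ (c.W i V ⊓ c.W k V) :=
        le_inf (hi.trans (piece_le c h hh i)) (hk.trans (piece_le c h hh k))
      have e := congrArg (h.appLE _ _ hW).hom
        (evT_twist c hV i k hG (inf_le_left : c.W i V ⊓ c.W k V ≤ _) inf_le_right)
      simp only [map_mul, map_pow, appLE_res, ProjAlg.Coord.xV] at e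
      simp only [LineData.comap, lineData, res_appLE]
      exact e⟩

theorem locus_family (hV : IsAffineOpen V) (j : Fin (N + 1)) (P : MvPolynomial (Fin (N + 1)) Γ(S, V)) :
    ((lineData c).comap h).locus (family c h hh hV (isHomogeneous_homog j P)) =
      h ⁻¹ᵁ X.basicOpen (c.evT j V P) := by
  refine le_antisymm (iSup_le fun i => ?_) fun p hp => Opens.mem_iSup.mpr ⟨j, ?_⟩
  · change Y.basicOpen ((h.appLE _ _ _).hom _) ≤ _
    rw [Scheme.basicOpen_appLE]
    exact inf_le_right.trans (h.preimage_mono (basicOpen_evT_homog_le c hV i j P))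
  · change p ∈ Y.basicOpen ((h.appLE _ _ _).hom _)
    rw [Scheme.basicOpen_appLE, evT_homog]
    exact ⟨⟨trivial, (X.basicOpen_le _ hp).1⟩, hp⟩

end family

/-- A scheme immersed in projective space over the base is quasi-projective over the base. -/
theorem isQuasiProjective_of_isImmersion {Z S : Scheme.{u}} {M : ℕ} (g : Z ⟶ S)
    (i : Z ⟶ CohB1.ProjSpaceOver M S) [IsImmersion i] [LocallyOfFiniteType g] [QuasiCompact g]
    (hg : i ≫ CohB1.ProjSpaceOver.toBase M S = g) : RelProj.IsQuasiProjective g := by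
  subst hg
  let cP : ProjAlg.Coord (CohB1.ProjSpaceOver.toBase M S) M :=
    ProjAlg.Coord.ofClosedImmersion _ (𝟙 _) (Category.id_comp _)
  refine ⟨inferInstance, inferInstance, ((lineData cP).comap i).twist 1, inferInstance, fun V => ?_⟩
  obtain ⟨V, hV⟩ := V
  let jZ := ((i ≫ CohB1.ProjSpaceOver.toBase M S) ⁻¹ᵁ V).ι
  haveI : CompactSpace (((i ≫ CohB1.ProjSpaceOver.toBase M S) ⁻¹ᵁ V).toScheme) :=
    isCompact_iff_compactSpace.mp
      ((i ≫ CohB1.ProjSpaceOver.toBase M S).isCompact_preimage hV.isCompact)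
  refine (((lineData cP).comap i).comap jZ).isAmple_of_iso (((lineData cP).comap i).restrictIso jZ 1) fun p => ?_
  let q := i.base (jZ.base p)
  obtain ⟨j, hj⟩ := Opens.mem_iSup.mp (cP.cover ▸ Opens.mem_top q : q ∈ ⨆ k, cP.D k)
  let O := i.coborderRange
  have hqO : q ∈ O := subset_coborder ⟨_, rfl⟩
  obtain ⟨φ, hφO, hqφ⟩ := (cP.affine j V hV).exists_basicOpen_le (V := O) ⟨q, hqO⟩
    (show q ∈ cP.D j ⊓ CohB1.ProjSpaceOver.toBase M S ⁻¹ᵁ V from ⟨hj, p.2⟩)
  obtain ⟨P, rfl⟩ := evT_surjective cP hV j φ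
  -- the comparison with the family on `X_V`
  have hh : ⊤ ≤ (jZ ≫ i) ⁻¹ᵁ (CohB1.ProjSpaceOver.toBase M S ⁻¹ᵁ V) := fun z _ => z.2
  have hcomp : ((lineData cP).comap i).comap jZ = (lineData cP).comap (jZ ≫ i) := by
    simp only [LineData.comap, LineData.mk.injEq]
    refine ⟨rfl, ?_⟩
    refine heq_of_eq (funext fun a => funext fun b => ?_)
    rw [← CommRingCat.comp_apply, Scheme.Hom.appLE_comp_appLE]
    rfl
  rw [hcomp]
  refine ⟨P.totalDegree, family cP (jZ ≫ i) hh hV (isHomogeneous_homog j P), ?_, ?_⟩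
  · rw [locus_family]
    exact hqφ
  · rw [locus_family]
    let U' : (CohB1.ProjSpaceOver M S).Opens := (CohB1.ProjSpaceOver M S).basicOpen (cP.evT j V P)
    have hU' : IsAffineOpen U' := (cP.affine j V hV).basicOpen _
    have h1 : IsAffineOpen (O.ι ⁻¹ᵁ U') :=
      hU'.preimage_of_isOpenImmersion O.ι (by rw [Scheme.Opens.opensRange_ι]; exact hφO)
    have h2 : IsAffineOpen (i ⁻¹ᵁ U') := by
      have h3 := h1.preimage i.liftCoborder
      rwa [← Scheme.Hom.comp_preimage, Scheme.Hom.liftCoborder_ι] at h3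
    change IsAffineOpen (jZ ⁻¹ᵁ (i ⁻¹ᵁ U'))
    refine h2.preimage_of_isOpenImmersion jZ ?_
    rw [Scheme.Opens.opensRange_ι]
    intro z hz
    exact ((CohB1.ProjSpaceOver M S).basicOpen_le _ hz).2

end GrothLib.Ample
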