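import Groth.Agent.Lib.Ample.ProjAmple
import Groth.Agent.Lib.Ample.ProjSpace
import Groth.Agent.Lib.Chow.Prod

/-!
# Immersions into projective space over a base with an ample module
-/

universe u

set_option backward.isDefEq.respectTransparency false

open AlgebraicGeometry CategoryTheory CategoryTheory.Limits TopologicalSpace

noncomputable section

namespace GrothLib.Ample

variable {X S : Scheme.{u}}

/-- An absolutely ample module and a finite type morphism give an immersion into projective space. -/
theorem exists_immersion_of_isAmple (f : X ⟶ S) [LocallyOfFiniteType f] {L : X.Modules} (hL : CohB1.IsAmple L) :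
    ∃ (n : ℕ) (i : X ⟶ CohB1.ProjSpaceOver n S), IsImmersion i ∧ i ≫ CohB1.ProjSpaceOver.toBase n S = f := by
  haveI := compactSpace_of_isAmple hL
  obtain ⟨c, ⟨e⟩⟩ := exists_cocycle hL.1
  obtain ⟨n₀, h⟩ := eventually_isRelVeryAmplePn f c (Cocycle.triv X) ((c.isAmple_iff e).mp hL).2
  obtain ⟨n, i, hi, hif, -⟩ := h n₀ le_rfl (Iso.refl _)
  exact ⟨n, i, hi, hif⟩

/-- A relatively ample module gives an ample one over a base with an ample module. -/
theorem exists_isAmple_of_isRelAmple (f : X ⟶ S) {N : S.Modules} (hN : CohB1.IsAmple N) {L : X.Modules}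
    (hL : RelAmple.IsRelAmple f L) : ∃ L' : X.Modules, CohB1.IsAmple L' := by
  obtain ⟨n₀, h⟩ := eventually_isAmple_restrict_of_rel f hL hN.1
    (V := ⊤) ((isAmple_restrict_top_iff N rfl).mpr hN)
  exact ⟨_, (isAmple_restrict_top_iff _ (f.preimage_top)).mp (h n₀ le_rfl)⟩

theorem locallyOfFiniteType_and_quasiCompact_of_immersion (f : X ⟶ S) {n : ℕ}
    (i : X ⟶ CohB1.ProjSpaceOver n S) [IsImmersion i] [QuasiCompact i]
    (hif : i ≫ CohB1.ProjSpaceOver.toBase n S = f) : LocallyOfFiniteType f ∧ QuasiCompact f := by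
  haveI := Chow.isProper_toBase n S
  subst hif
  exact ⟨inferInstance, inferInstance⟩

theorem isRelAmple_of_isAmple (f : X ⟶ S) [QuasiCompact f] {L : X.Modules} (hL : CohB1.IsAmple L) :
    RelAmple.IsRelAmple f L :=
  ⟨inferInstance, fun V => isAmple_restrict_of_le le_top (f.isCompact_preimage V.2.isCompact)
    ((isAmple_restrict_top_iff L rfl).mpr hL)⟩

theorem quasiCompact_of_immersion (f : X ⟶ S) [QuasiCompact f] {n : ℕ}
    (i : X ⟶ CohB1.ProjSpaceOver n S) (hif : i ≫ CohB1.ProjSpaceOver.toBase n S = f) : QuasiCompact i := by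
  haveI := Chow.isProper_toBase n S
  subst hif
  exact MorphismProperty.of_postcomp (W := @QuasiCompact) (W' := @QuasiSeparated) i
    (CohB1.ProjSpaceOver.toBase n S) inferInstance inferInstance

end GrothLib.Ample
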