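import Groth.Agent.Lib.Ample.Criterion
import Groth.Agent.Lib.Ample.ProjSections

/-!
# The locus of a section is where it generates
-/

universe u

set_option backward.isDefEq.respectTransparency false

open AlgebraicGeometry CategoryTheory TopologicalSpace Opposite
open GrothLib.InvExt (mres IsGen)

noncomputable section

namespace GrothLib.Ample.Cocycle

variable {X : Scheme.{u}} (c : Cocycle X) {L : X.Modules} (e : L ≅ c.twist 1) (s : Γ(L, ⊤))

theorem isGen_mres_locus :
    IsGen L (c.locus (show c.sect 1 ⊤ from e.hom.app ⊤ s))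
      (mres L (le_top : c.locus (show c.sect 1 ⊤ from e.hom.app ⊤ s) ≤ ⊤) s) := by
  let a : c.sect 1 ⊤ := e.hom.app ⊤ s
  have h1 := (c.isGen_sectRes_locus a).map e.inv fun W _ =>
    ConcreteCategory.bijective_of_isIso ((Scheme.Modules.toPresheaf _).map e.inv |>.app (op W))
  have h2 : e.inv.app (c.locus a) (c.sectRes (le_top : c.locus a ≤ ⊤) a) = mres L le_top s := by
    refine ((InvExt.mres_app e.inv (le_top : c.locus a ≤ ⊤) a).symm.trans ?_)
    exact congrArg _ (congrArg (fun f : L ⟶ L => f.app ⊤ s) e.hom_inv_id)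
  rw [h2] at h1
  exact h1

theorem le_locus_of_isGen {W : X.Opens} (h : IsGen L W (mres L (le_top : W ≤ ⊤) s)) :
    W ≤ c.locus (show c.sect 1 ⊤ from e.hom.app ⊤ s) := by
  intro z hzW
  let a : c.sect 1 ⊤ := e.hom.app ⊤ s
  obtain ⟨i, hi⟩ := c.exists_mem z
  let V : X.Opens := W ⊓ c.D i
  have h1 : IsGen (c.twist 1) V (mres (c.twist 1) (le_top : V ≤ ⊤) a) := by
    have h0 := (h.map e.hom fun V _ =>
      ConcreteCategory.bijective_of_isIso ((Scheme.Modules.toPresheaf _).map e.hom |>.app (op V))).restrict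
        (inf_le_left : V ≤ W)
    rw [← InvExt.mres_app, InvExt.mres_mres] at h0
    exact h0
  obtain ⟨r, hr⟩ := (h1 V le_rfl).2 (c.base 1 i inf_le_right)
  rw [InvExt.mres_self] at hr
  have h3 : c.sectRes (le_top : V ≤ ⊤) a =
      res (le_inf le_rfl inf_le_right : V ≤ V ⊓ c.D i) ((c.sectRes (le_top : V ≤ ⊤) a).1 i) •
        c.base 1 i inf_le_right := c.eq_smul_base i inf_le_right _
  have h4 : r * res (le_inf le_rfl inf_le_right : V ≤ V ⊓ c.D i) ((c.sectRes (le_top : V ≤ ⊤) a).1 i) = 1 := by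
    refine (c.isGen_base 1 i (inf_le_right : V ≤ c.D i) V le_rfl).1 ?_
    simp only [InvExt.mres_self]
    rw [mul_smul, one_smul]
    exact (congrArg (fun t : c.sect 1 V => r • t) h3.symm).trans hr
  rw [c.mem_locus_iff a hi]
  have h5 : IsUnit (res (le_inf le_top inf_le_right : V ≤ ⊤ ⊓ c.D i) (a.1 i)) := by
    rw [mul_comm] at h4
    have := IsUnit.of_mul_eq_one _ h4
    rwa [Cocycle.sectRes_apply, res_res] at this
  rw [Scheme.mem_basicOpen _ _ z (show z ∈ (⊤ : X.Opens) ⊓ c.D i from ⟨trivial, hi⟩)]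
  have h6 := h5.map (X.presheaf.germ V z (show z ∈ V from ⟨hzW, hi⟩)).hom
  erw [X.presheaf.germ_res_apply] at h6
  exact h6

end GrothLib.Ample.Cocycle
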