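import Groth.Agent.Lib.Ample.CocPullback
import Groth.Agent.Lib.Ample.Tensor

/-!
# The invertibility locus of a pulled-back section
-/

universe u

set_option backward.isDefEq.respectTransparency false
set_option maxHeartbeats 400000

open AlgebraicGeometry CategoryTheory CategoryTheory.Limits TopologicalSpace Opposite
open GrothLib.InvExt (mres IsGen)

noncomputable section

namespace GrothLib.Ample

variable {X Y : Scheme.{u}}

theorem adj_app {j : Y ⟶ X} {M : X.Modules} {N : Y.Modules} (g : (Scheme.Modules.pullback j).obj M ⟶ N) {V : X.Opens}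
    (m : Γ(M, V)) :
    g.app (j ⁻¹ᵁ V) (((Scheme.Modules.pullbackPushforwardAdjunction j).unit.app M).app V m) =
      ((Scheme.Modules.pullbackPushforwardAdjunction j).homEquiv M N g).app V m := by
  rw [Adjunction.homEquiv_unit]
  rfl

namespace Cocycle

variable (c : Cocycle X) {n : ℕ} (j : Y ⟶ X)

/-- Pullback of a twist to the twist of the pullback. -/
def theta (n : ℕ) : (Scheme.Modules.pullback j).obj (c.twist n) ⟶ (c.comap j).twist n :=
  ((Scheme.Modules.pullbackPushforwardAdjunction j).homEquiv (c.twist n) ((c.comap j).twist n)).symm (c.pushHom j n)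

theorem homEquiv_theta (n : ℕ) :
    (Scheme.Modules.pullbackPushforwardAdjunction j).homEquiv (c.twist n) ((c.comap j).twist n) (c.theta j n) =
      c.pushHom j n :=
  Equiv.apply_symm_apply _ _

theorem isIso_theta (n : ℕ) : IsIso (c.theta j n) := by
  let adj := Scheme.Modules.pullbackPushforwardAdjunction j
  let θ := c.theta j n
  have hθ : adj.unit.app (c.twist n) ≫ (Scheme.Modules.pushforward j).map θ = c.pushHom j n :=
    (adj.homEquiv_unit (c.twist n) ((c.comap j).twist n) θ).symm.trans (c.homEquiv_theta j n)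
  have e1 : c.pullHom j n ≫ θ = 𝟙 _ := by
    refine (c.comap j).hom_ext fun i => ?_
    show θ.app _ ((c.pullHom j n).app (j ⁻¹ᵁ c.D i) ((c.comap j).base n (V := j ⁻¹ᵁ c.D i) i le_rfl)) = _
    rw [c.pullHom_base]
    have h := congrArg (fun f : c.twist n ⟶ _ => f.app (c.D i) (c.base n i le_rfl)) hθ
    exact h.trans (c.pushHom_base j n i)
  have e2 : θ ≫ c.pullHom j n = 𝟙 _ := by
    refine (adj.homEquiv _ _).injective ?_
    rw [adj.homEquiv_unit, adj.homEquiv_unit, Functor.map_comp, ← Category.assoc, hθ,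
      CategoryTheory.Functor.map_id]
    refine Eq.trans ?_ (Category.comp_id (adj.unit.app (c.twist n))).symm
    refine c.hom_ext fun i => ?_
    show (c.pullHom j n).app (j ⁻¹ᵁ c.D i) ((c.pushHom j n).app (c.D i) (c.base n i le_rfl)) = _
    rw [c.pushHom_base]
    exact c.pullHom_base j n i
  exact ⟨⟨c.pullHom j n, e2, e1⟩⟩

theorem pushHom_app (a : c.sect n ⊤) :
    (show (c.comap j).sect n ⊤ from (c.pushHom j n).app ⊤ a) = c.pullSect j (le_top : (⊤ : Y.Opens) ≤ j ⁻¹ᵁ ⊤) a := by
  set t : (c.comap j).sect n ⊤ := (c.pushHom j n).app ⊤ a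
  refine (c.comap j).sect_ext fun i => ?_
  rw [pullSect_apply]
  let r : Γ(X, c.D i) := res (le_inf le_top le_rfl) (a.1 i)
  have ha : c.sectRes (le_top : c.D i ≤ ⊤) a = r • c.base n i le_rfl := by
    rw [c.eq_smul_base i le_rfl (c.sectRes (le_top : c.D i ≤ ⊤) a), sectRes_apply, res_res]
  have ht : (c.comap j).sectRes (le_top : j ⁻¹ᵁ c.D i ≤ ⊤) t =
      (j.appLE (c.D i) (j ⁻¹ᵁ c.D i) le_rfl).hom r • (c.comap j).base n (V := j ⁻¹ᵁ c.D i) i le_rfl := by
    have h := app_mres (c.pushHom j n) (le_top : c.D i ≤ ⊤) (show Γ(c.twist n, ⊤) from a)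
    rw [c.mres_twist, ha] at h
    refine (h.symm.trans ?_)
    rw [show (c.pushHom j n).app (c.D i) (r • c.base n i le_rfl) =
      r • (c.pushHom j n).app (c.D i) (c.base n i le_rfl) from app_smul _ _ _, c.pushHom_base]
    exact pushforward_smul j ((c.comap j).twist n) (V := c.D i) r ((c.comap j).base n (V := j ⁻¹ᵁ c.D i) i le_rfl)
  have h2 := congrArg (fun s : (c.comap j).sect n (j ⁻¹ᵁ c.D i) =>
    res (le_inf inf_le_right inf_le_right : (⊤ : Y.Opens) ⊓ j ⁻¹ᵁ c.D i ≤ j ⁻¹ᵁ c.D i ⊓ j ⁻¹ᵁ c.D i) (s.1 i)) ht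
  simp only [sectRes_apply, smul_apply, base_self, mul_one, r, appLE_res] at h2
  erw [res_res, res_res, res_self, res_appLE] at h2
  exact h2

theorem locus_smul (r : Γ(X, ⊤)) (hr : IsUnit r) (a : c.sect n ⊤) : c.locus (r • a) = c.locus a := by
  refine iSup_congr fun i => ?_
  rw [smul_apply, Scheme.basicOpen_mul, Scheme.basicOpen_of_isUnit X (hr.map (res _))]
  exact inf_eq_right.2 (X.basicOpen_le _)

theorem genLocus_pullback_hom (a : c.sect n ⊤)
    (e : Coh.structureModule Y ≅ (Scheme.Modules.pullback j).obj (Coh.structureModule X)) :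
    CohB1.genLocus ((Scheme.Modules.pullback j).obj (c.twist n))
      (e.hom ≫ (Scheme.Modules.pullback j).map (c.hom a)) = j ⁻¹ᵁ c.locus a := by
  have := c.isIso_theta j n
  rw [← genLocus_comp_iso (asIso (c.theta j n)), asIso_hom, Category.assoc]
  obtain ⟨b, hb⟩ := (c.comap j).exists_hom_eq (e.hom ≫ (Scheme.Modules.pullback j).map (c.hom a) ≫ c.theta j n)
  rw [← hb, (c.comap j).genLocus_hom]
  let adj := Scheme.Modules.pullbackPushforwardAdjunction j
  let g := (Scheme.Modules.pullback j).map (c.hom a) ≫ c.theta j n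
  let ε : Γ((Scheme.Modules.pullback j).obj (Coh.structureModule X), ⊤) :=
    (adj.unit.app (Coh.structureModule X)).app ⊤ (show Γ(Coh.structureModule X, ⊤) from (1 : Γ(X, ⊤)))
  have hgε : g.app ⊤ ε = c.pullSect j (le_top : (⊤ : Y.Opens) ≤ j ⁻¹ᵁ ⊤) a := by
    refine (adj_app g (V := ⊤) (show Γ(Coh.structureModule X, ⊤) from (1 : Γ(X, ⊤)))).trans ?_
    rw [show adj.homEquiv _ _ g = c.hom a ≫ c.pushHom j n from
      (adj.homEquiv_naturality_left _ _).trans (congrArg (c.hom a ≫ ·) (c.homEquiv_theta j n))]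
    refine Eq.trans ?_ (c.pushHom_app j a)
    refine congrArg ((c.pushHom j n).app ⊤) ?_
    refine (c.hom_app_one a ⊤).trans (c.sect_ext fun i => ?_)
    rw [sectRes_apply, res_self]
  let r : Γ(Y, ⊤) := e.inv.app ⊤ ε
  have hεr : e.hom.app ⊤ r = ε :=
    congrArg (fun f : (Scheme.Modules.pullback j).obj (Coh.structureModule X) ⟶ _ => f.app ⊤ ε) e.inv_hom_id
  have hone : ∀ {N : Y.Modules} (f : Coh.structureModule Y ⟶ N) (v : Γ(Y, ⊤)),
      f.app ⊤ v = v • f.app ⊤ (show Γ(Coh.structureModule Y, ⊤) from (1 : Γ(Y, ⊤))) := by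
    intro N f v
    refine Eq.trans ?_ (app_smul f v (show Γ(Coh.structureModule Y, ⊤) from (1 : Γ(Y, ⊤))))
    exact congrArg (f.app ⊤) (mul_one v).symm
  have hr : IsUnit r := by
    let one' : (SheafOfModules.unit Y.ringCatSheaf).sections := PresheafOfModules.sectionsMk (fun V => (1 : Γ(Y, V.unop))) (fun V W i => map_one (Y.presheaf.map i).hom)
    let ψ : Coh.structureModule X ⟶ (Scheme.Modules.pushforward j).obj (Coh.structureModule Y) :=
      SheafOfModules.unitHomEquiv _ |>.symm (PresheafOfModules.sectionsMk (fun V => (1 : Γ(Y, j ⁻¹ᵁ V.unop)))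
        (fun V W i => map_one (Y.presheaf.map _).hom))
    let χ := (adj.homEquiv (Coh.structureModule X) (Coh.structureModule Y)).symm ψ
    have hχ : χ.app ⊤ ε = (show Γ(Coh.structureModule Y, ⊤) from (1 : Γ(Y, ⊤))) := by
      refine (adj_app χ (V := ⊤) (show Γ(Coh.structureModule X, ⊤) from (1 : Γ(X, ⊤)))).trans ?_
      rw [show adj.homEquiv _ _ χ = ψ from Equiv.apply_symm_apply _ _]
      exact congrArg (fun s : ((Scheme.Modules.pushforward j).obj (Coh.structureModule Y)).val.sections =>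
        s.1 (op ⊤)) ((SheafOfModules.unitHomEquiv _).apply_symm_apply _)
    rw [← hεr] at hχ
    have h2 : (e.hom ≫ χ).app ⊤ r = (show Γ(Coh.structureModule Y, ⊤) from (1 : Γ(Y, ⊤))) := hχ
    rw [hone] at h2
    exact IsUnit.of_mul_eq_one _ h2
  have key : c.pullSect j (le_top : (⊤ : Y.Opens) ≤ j ⁻¹ᵁ ⊤) a = r • b := by
    rw [← hgε, ← hεr]
    have h2 : (e.hom ≫ g).app ⊤ r = r • b := by
      rw [hone, show e.hom ≫ g = (c.comap j).hom b from hb.symm]
      refine congrArg (r • ·) (((c.comap j).hom_app_one b ⊤).trans ((c.comap j).sect_ext fun i => ?_))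
      rw [sectRes_apply, res_self]
    exact h2
  rw [← c.locus_pullSect j a, key, (c.comap j).locus_smul r hr]

end Cocycle

theorem genLocus_pullback (j : Y ⟶ X) (L : X.Modules) (hL : PicF.IsInvertible L) (s : Coh.structureModule X ⟶ L)
    (e : Coh.structureModule Y ≅ (Scheme.Modules.pullback j).obj (Coh.structureModule X)) :
    CohB1.genLocus ((Scheme.Modules.pullback j).obj L) (e.hom ≫ (Scheme.Modules.pullback j).map s) =
      j ⁻¹ᵁ CohB1.genLocus L s := by
  obtain ⟨c, ⟨i⟩⟩ := exists_cocycle hL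
  rw [← genLocus_comp_iso i s, ← genLocus_comp_iso ((Scheme.Modules.pullback j).mapIso i),
    Category.assoc, Functor.mapIso_hom, ← Functor.map_comp]
  obtain ⟨a, ha⟩ := c.exists_hom_eq (s ≫ i.hom)
  rw [← ha, c.genLocus_hom, c.genLocus_pullback_hom j a e]

end GrothLib.Ample
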