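import Groth.Agent.Lib.Ample.ProjExt
import Groth.Agent.Lib.Ample.Immersion
import Groth.Agent.Lib.Ample.Product
import Groth.Agent.Lib.ProjSp.Coords

/-!
# Very ample tensor generated by sections is very ample
-/

universe u

set_option backward.isDefEq.respectTransparency false

open AlgebraicGeometry CategoryTheory CategoryTheory.Limits TopologicalSpace Opposite
open GrothLib.InvExt (mres IsGen)

noncomputable section

namespace GrothLib.Ample

theorem Cocycle.sectRes_mulProd {X : Scheme.{u}} (c c' : Cocycle X) {n : ℕ} {V W : X.Opens} (h : W ≤ V)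
    (a : c.sect n V) (b : c'.sect n V) :
    (c.prod c').sectRes h (c.mulProd c' a b) = c.mulProd c' (c.sectRes h a) (c'.sectRes h b) :=
  (c.prod c').sect_ext fun p => by
    show res _ (res _ (a.1 p.1) * res _ (b.1 p.2)) = res _ (res _ (a.1 p.1)) * res _ (res _ (b.1 p.2))
    exact (map_mul _ _ _).trans (congrArg₂ (· * ·) ((res_res _ _ _).trans (res_res _ _ _).symm)
      ((res_res _ _ _).trans (res_res _ _ _).symm))

theorem Cocycle.mulProd_smul {X : Scheme.{u}} (c c' : Cocycle X) {n : ℕ} {V : X.Opens} (r : Γ(X, V))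
    (a : c.sect n V) (b : c'.sect n V) : c.mulProd c' (r • a) b = r • c.mulProd c' a b :=
  (c.prod c').sect_ext fun p => by
    show res _ ((r • a).1 p.1) * _ = res inf_le_left r * (_ * _)
    rw [c.smul_apply, map_mul, res_res, mul_assoc]
    rfl

theorem ProjMap.ratio_self {n : ℕ} {R : Type u} [CommRing R] (i : Fin (n + 1)) :
    ProjMap.ratio (R := R) i i = 1 :=
  HomogeneousLocalization.val_injective _ (by
    rw [ProjMap.ratio, HomogeneousLocalization.Away.val_mk, HomogeneousLocalization.val_one, Localization.mk_eq_mk',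
      IsLocalization.mk'_eq_iff_eq_mul]
    simp)

/-- A morphism to projective space is the map of the images of the coordinates. -/
theorem ProjMap.eq_map_dataOfSections {n : ℕ} {R : Type u} [CommRing R] {Z : Scheme.{u}}
    (r : Z ⟶ CohB1.ProjSpace n R) (c : Cocycle Z)
    (e : (Scheme.Modules.pullback r).obj (Twist.twistProjSpace n R 1) ≅ c.twist 1) :
    ∃ hs : ⨆ i, c.locus (ProjMap.sec c e (ProjMap.pullCoord r) i) = ⊤,
      r = (ProjMap.dataOfSections c e (ProjMap.pullCoord r) hs (r ≫ CohB1.ProjSpace.toSpec n R)).map := by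
  have hs : ⨆ i, c.locus (ProjMap.sec c e (ProjMap.pullCoord r) i) = ⊤ := eq_top_iff.mpr fun x _ => by
    obtain ⟨(k : ULift.{u} (Fin (n + 1))), hk⟩ := (ProjMap.pcoc n R).exists_mem (r x)
    obtain ⟨l, hl⟩ := c.exists_mem x
    refine Opens.mem_iSup.mpr ⟨k.down, (c.mem_locus_iff _ hl).mpr ?_⟩
    have h := InvExt.IsGen.map e.hom (ProjMap.isGen_pullCoord r k) fun W _ =>
      ConcreteCategory.bijective_of_isIso (e.hom.app W)
    rw [app_mres] at h
    let W : Z.Opens := r ⁻¹ᵁ (ProjMap.pcoc n R).D k ⊓ c.D l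
    obtain ⟨(u : Γ(Z, W)), hu⟩ := h.exists_smul_eq (inf_le_left : W ≤ _) (c.base 1 l (inf_le_right : W ≤ c.D l))
    have hu' := congrArg (fun t : c.sect 1 W => t.1 l) hu
    rw [c.base_self] at hu'
    replace hu' := hu'.symm
    change res (inf_le_left : W ⊓ c.D l ≤ W) u * res _ (res _ ((ProjMap.sec c e (ProjMap.pullCoord r) k.down).1 l)) = 1 at hu'
    have hxW : x ∈ W ⊓ c.D l := ⟨⟨hk, hl⟩, hl⟩
    have := congrArg Z.basicOpen hu'
    rw [Scheme.basicOpen_mul, Scheme.basicOpen_of_isUnit _ isUnit_one, res_res, res, res, Scheme.basicOpen_res,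
      Scheme.basicOpen_res] at this
    exact (this.ge hxW).2.2
  obtain ⟨τ, hτ⟩ := ProjMap.exists_iso_pullback_map c e (ProjMap.pullCoord r) hs (r ≫ CohB1.ProjSpace.toSpec n R)
  exact ⟨hs, ProjMap.ext_of_iso _ _ (ProjMap.Data.map_toSpec _).symm τ.symm fun i =>
    (congrArg (τ.inv.app ⊤) (hτ i).symm).trans (congrArg (fun φ : (Scheme.Modules.pullback (ProjMap.dataOfSections c e
      (ProjMap.pullCoord r) hs (r ≫ CohB1.ProjSpace.toSpec n R)).map).obj (Twist.twistProjSpace n R 1) ⟶ _ =>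
      φ.app ⊤ (ProjMap.pullCoord _ i)) τ.hom_inv_id)⟩

theorem isRelVeryAmplePn_prod {X Y : Scheme.{u}} [IsAffine Y] (q : X ⟶ Y) (c c' : Cocycle X) {L L' : X.Modules}
    (e : L ≅ c.twist 1) (e' : L' ≅ c'.twist 1) (hva : RelAmple.IsRelVeryAmplePn q L) {m : ℕ}
    (b : Fin m → c'.sect 1 ⊤) (hb : ⨆ l, c'.locus (b l) = ⊤) :
    RelAmple.IsRelVeryAmplePn q (CohB1.tensorMod L L') := by
  classical
  obtain ⟨n, i, hi, hiq, ⟨d⟩⟩ := hva
  let p1 : CohB1.ProjSpaceOver n Y ⟶ CohB1.ProjSpace n (ULift.{u} ℤ) := pullback.fst _ _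
  let r0 := i ≫ p1
  let e0 : (Scheme.Modules.pullback r0).obj (Twist.twistProjSpace n (ULift.{u} ℤ) 1) ≅ c.twist 1 :=
    ((Scheme.Modules.pullbackComp i p1).app _).symm ≪≫ d.symm ≪≫ e
  obtain ⟨hs0, hr0⟩ := ProjMap.eq_map_dataOfSections r0 c e0
  let D := ProjMap.dataOfSections c e0 (ProjMap.pullCoord r0) hs0 (r0 ≫ CohB1.ProjSpace.toSpec n (ULift.{u} ℤ))
  let a : Fin (n + 1) → c.sect 1 ⊤ := ProjMap.sec c e0 (ProjMap.pullCoord r0)
  obtain ⟨g⟩ := c.nonempty_tensorMod_iso_prod c' e e'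
  let Q := c.prod c'
  let T := Fin (n + 1) × Fin m
  let E : Option T ≃ Fin (Fintype.card T + 1) := Fintype.equivFinOfCardEq Fintype.card_option
  let σ : Fin (Fintype.card T + 1) → Q.sect 1 ⊤ :=
    fun k => ((E.symm k).map fun t : T => c.mulProd c' (a t.1) (b t.2)).getD 0
  have hσ : ∀ t : T, σ (E (some t)) = c.mulProd c' (a t.1) (b t.2) := fun t => by simp [σ]
  let s : Fin (Fintype.card T + 1) → ProjUP.Γm (CohB1.tensorMod L L') := fun k => g.inv.app ⊤ (σ k)
  have hsec : ∀ k, ProjMap.sec Q g s k = σ k := fun k =>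
    congrArg (fun φ : Q.twist 1 ⟶ Q.twist 1 => φ.app ⊤ (σ k)) g.inv_hom_id
  have hlocus : ∀ t : T, Q.locus (ProjMap.sec Q g s (E (some t))) = c.locus (a t.1) ⊓ c'.locus (b t.2) := fun t => by
    rw [hsec, hσ, c.locus_mulProd]
  have hcov : ∀ x : X, ∃ t : T, x ∈ c.locus (a t.1) ⊓ c'.locus (b t.2) := fun x => by
    obtain ⟨k, hk⟩ := Opens.mem_iSup.mp (hs0.ge (Opens.mem_top x))
    obtain ⟨l, hl⟩ := Opens.mem_iSup.mp (hb.ge (Opens.mem_top x))
    exact ⟨(k, l), hk, hl⟩
  have hs : ⨆ k, Q.locus (ProjMap.sec Q g s k) = ⊤ := eq_top_iff.mpr fun x _ => by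
    obtain ⟨t, ht⟩ := hcov x
    exact Opens.mem_iSup.mpr ⟨E (some t), by rw [hlocus]; exact ht⟩
  let N := Fintype.card T
  let D' := ProjMap.dataOfSections Q g s hs (specULiftZIsTerminal.from X)
  obtain ⟨τ, -⟩ := ProjMap.exists_iso_pullback_map Q g s hs (specULiftZIsTerminal.from X)
  let p1' : CohB1.ProjSpaceOver N Y ⟶ CohB1.ProjSpace N (ULift.{u} ℤ) := pullback.fst _ _
  let i' : X ⟶ CohB1.ProjSpaceOver N Y := pullback.lift D'.map q (specULiftZIsTerminal.hom_ext _ _)
  have hfst : i' ≫ p1' = D'.map := pullback.lift_fst _ _ _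
  have hsnd : i' ≫ CohB1.ProjSpaceOver.toBase N Y = q := pullback.lift_snd _ _ _
  refine ⟨N, i', ?_, hsnd, ⟨τ.symm ≪≫ (Scheme.Modules.pullbackCongr hfst.symm).app _ ≪≫
    ((Scheme.Modules.pullbackComp i' p1').app _).symm⟩⟩
  let P := CohB1.polyGrading n (ULift.{u} ℤ)
  let P' := CohB1.polyGrading N (ULift.{u} ℤ)
  let Dp : Fin (N + 1) → (CohB1.ProjSpace N (ULift.{u} ℤ)).Opens := fun k => Proj.basicOpen P' (MvPolynomial.X k)
  let O : T → (CohB1.ProjSpaceOver N Y).Opens := fun t => p1' ⁻¹ᵁ Dp (E (some t))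
  have hpre : ∀ t, i' ⁻¹ᵁ O t = c.locus (a t.1) ⊓ c'.locus (b t.2) := fun t => by
    rw [← Scheme.Hom.comp_preimage, hfst]
    exact (D'.map_preimage _).trans (hlocus t)
  haveI : MorphismProperty.RespectsRight @IsImmersion.{u} @IsOpenImmersion.{u} :=
    ⟨fun i hi f hf => by haveI := hi; haveI := hf; exact inferInstance⟩
  refine IsZariskiLocalAtTarget.of_range_subset_iSup (P := @IsImmersion) O ?_ fun t => ?_
  · rintro _ ⟨x, rfl⟩
    obtain ⟨t, ht⟩ := hcov x
    exact Opens.mem_iSup.mpr ⟨t, show x ∈ i' ⁻¹ᵁ O t by rw [hpre]; exact ht⟩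
  obtain ⟨j, l⟩ := t
  -- the projection to the first factor
  let rat : Fin (n + 1) → Γ(CohB1.ProjSpaceOver N Y, O (j, l)) := fun k =>
    (p1'.appLE (Dp (E (some (j, l)))) (O (j, l)) le_rfl).hom
      (Proj.awayToSection P' (MvPolynomial.X (E (some (j, l)))) (ProjMap.ratio (E (some (j, l))) (E (some (k, l)))))
  let f : MvPolynomial (Fin (n + 1)) (ULift.{u} ℤ) →+* Γ((O (j, l) : Scheme.{u}), ⊤) :=
    MvPolynomial.eval₂Hom ProjSpCoord.fromRZ fun k => (O (j, l)).topIso.inv (rat k)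
  have hfj : IsUnit (f (MvPolynomial.X j)) := by
    simp only [f, MvPolynomial.eval₂Hom_X', rat, ProjMap.ratio_self, map_one]
    exact isUnit_one
  let π : (O (j, l) : Scheme.{u}) ⟶ CohB1.ProjSpaceOver n Y :=
    pullback.lift (ProjPt.pt P (ProjMap.X_mem j) one_pos (ProjPt.evalAway P f (MvPolynomial.X j) hfj))
      ((O (j, l)).ι ≫ CohB1.ProjSpaceOver.toBase N Y) (specULiftZIsTerminal.hom_ext _ _)
  let U : X.Opens := i' ⁻¹ᵁ O (j, l)
  have hUj : U ≤ D.U j := fun x hx => ((hpre (j, l)).le hx).1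
  have hcomp : (i' ∣_ O (j, l)) ≫ π = U.ι ≫ i := by
    apply pullback.hom_ext
    · simp only [π, Category.assoc, pullback.lift_fst]
      refine (ProjPt.comp_pt P _ _ (i' ∣_ O (j, l)) _).trans ?_
      have e1 : U.ι ≫ r0 = ProjPt.pt P (ProjMap.X_mem j) one_pos
          ((X.homOfLE hUj).appTop.hom.comp ((D.U j).topIso.inv.hom.comp (D.g j))) := by
        rw [← ProjPt.comp_pt]
        exact (congrArg (U.ι ≫ ·) hr0).trans ((congrArg (· ≫ D.map) (Scheme.homOfLE_ι X hUj).symm).trans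
          ((Category.assoc _ _ _).trans (congrArg (X.homOfLE hUj ≫ ·) (D.ι_map j))))
      refine Eq.trans ?_ e1.symm
      congr 1
      refine ProjMap.awayHom_ext (ProjSpCoord.ringHom_RZ_ext _ _) fun k => ?_
      have hW : ⊤ ≤ (U.ι ≫ i') ⁻¹ᵁ O (j, l) := fun z _ => z.2
      have h1 : ProjPt.evalAway P f (MvPolynomial.X j) hfj (ProjMap.ratio j k) = (O (j, l)).topIso.inv (rat k) := by
        have h := ProjMap.evalAway_ratio f j k hfj
        simp only [f, MvPolynomial.eval₂Hom_X', rat, ProjMap.ratio_self, map_one, mul_one] at h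
        exact h
      rw [RingHom.comp_apply, RingHom.comp_apply, RingHom.comp_apply, h1, D.g_ratio]
      refine (ProjMap.Data.appTop_topIso_inv (Y := CohB1.ProjSpaceOver N Y) (i' ∣_ O (j, l)) (U.ι ≫ i')
        (morphismRestrict_ι _ _) hW (rat k)).trans ?_
      refine Eq.trans ?_ (ProjMap.Data.appTop_topIso_inv (Y := X) (X.homOfLE hUj) U.ι (Scheme.homOfLE_ι X hUj)
        (fun z _ => hUj z.2) (D.φ j k)).symm
      have hUt : U ≤ Q.locus (ProjMap.sec Q g s (E (some (j, l)))) := fun x hx => (hlocus (j, l)).ge ((hpre (j, l)).le hx)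
      have hUm : U ≤ (i' ≫ p1') ⁻¹ᵁ Dp (E (some (j, l))) := fun x hx => hx
      have h2 : (i'.appLE (O (j, l)) U le_rfl).hom (rat k) =
          res hUt (D'.φ (E (some (j, l))) (E (some (k, l)))) := by
        simp only [rat]
        rw [← CommRingCat.comp_apply, Scheme.Hom.appLE_comp_appLE]
        have key : ∀ (φ : X ⟶ CohB1.ProjSpace N (ULift.{u} ℤ)) (h : U ≤ φ ⁻¹ᵁ Dp (E (some (j, l)))), φ = D'.map →
            (φ.appLE (Dp (E (some (j, l)))) U h).hom (Proj.awayToSection P' (MvPolynomial.X (E (some (j, l))))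
              (ProjMap.ratio (E (some (j, l))) (E (some (k, l))))) =
            res hUt (D'.φ (E (some (j, l))) (E (some (k, l)))) := by
          rintro _ h rfl
          exact D'.map_appLE_ratio _ _ hUt h
        exact key _ _ hfst
      have h3 : res hUt (D'.φ (E (some (j, l))) (E (some (k, l)))) = res hUj (D.φ j k) := by
        refine Q.smul_injective_of_le_locus (ProjMap.sec Q g s (E (some (j, l)))) hUt ?_
        have h0 := congrArg (Q.sectRes hUt)
          (Q.exists_ratio (ProjMap.sec Q g s (E (some (j, l)))) (ProjMap.sec Q g s (E (some (k, l))))).choose_spec.1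
        rw [Q.sectRes_smul, Q.sectRes_sectRes, Q.sectRes_sectRes] at h0
        refine h0.symm.trans ?_
        refine (congrArg (Q.sectRes le_top) ((hsec _).trans (hσ (k, l)))).trans (Eq.trans ?_
          (congrArg (res hUj (D.φ j k) • ·) (congrArg (Q.sectRes le_top) ((hsec _).trans (hσ (j, l))).symm)))
        have h4 := congrArg (c.sectRes hUj) (c.exists_ratio (a j) (a k)).choose_spec.1
        have h5 : c.sectRes (le_top : U ≤ ⊤) (a k) = res hUj (D.φ j k) • c.sectRes (le_top : U ≤ ⊤) (a j) :=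
          (c.sectRes_sectRes _ hUj (a k)).symm.trans (h4.trans ((c.sectRes_smul hUj _ _).trans
            (congrArg (res hUj (D.φ j k) • ·) (c.sectRes_sectRes _ hUj (a j)))))
        rw [c.sectRes_mulProd, c.sectRes_mulProd, h5, c.mulProd_smul]
      rw [← Scheme.Hom.appLE_comp_appLE U.ι i' (O (j, l)) U ⊤ le_rfl U.ι_preimage_self.ge, CommRingCat.comp_apply,
        h2, h3, Scheme.Opens.ι_appLE, Scheme.Opens.ι_appLE]
      exact res_res _ _ _
    · simp only [π, Category.assoc, pullback.lift_snd]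
      rw [← Category.assoc, morphismRestrict_ι, Category.assoc, hsnd]
      exact (congrArg (U.ι ≫ ·) hiq).symm
  haveI := hi
  haveI : IsImmersion (U.ι ≫ i) := inferInstance
  haveI : IsImmersion ((i' ∣_ O (j, l)) ≫ π) := by rw [hcomp]; infer_instance
  exact IsImmersion.of_comp (i' ∣_ O (j, l)) π

end GrothLib.Ample
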