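import Groth.Agent.Lib.Ample.Frame
import Groth.Agent.Lib.Ample.Tensor

/-!
# Tensor products of twists
-/

universe u

set_option backward.isDefEq.respectTransparency false

open AlgebraicGeometry CategoryTheory CategoryTheory.Limits TopologicalSpace Opposite MonoidalCategory
open GrothLib.InvExt (mres IsGen)

noncomputable section

namespace GrothLib.Ample

variable {X : Scheme.{u}}

section Gens

variable {M N P : X.Modules} (β : CohB1.tensorPre M N ⟶ CohB1.toPMod P)

/-- A bilinear map at an open, evaluated on a pure tensor. -/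
def pre (V : X.Opens) (a : Γ(M, V)) (b : Γ(N, V)) : Γ(P, V) :=
  (β.app (op V)).hom (a ⊗ₜ[Γ(X, V)] b)

theorem pre_smul {V : X.Opens} (r : Γ(X, V)) (a : Γ(M, V)) (b : Γ(N, V)) :
    pre β V (r • a) b = r • pre β V a b :=
  (congrArg (β.app (op V)).hom
    (TensorProduct.smul_tmul' (R := Γ(X, V)) r a b).symm).trans ((β.app (op V)).hom.map_smul r _)

theorem pre_smul_right {V : X.Opens} (r : Γ(X, V)) (a : Γ(M, V)) (b : Γ(N, V)) :
    pre β V a (r • b) = r • pre β V a b :=
  (congrArg (β.app (op V)).hom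
    (TensorProduct.tmul_smul (R := Γ(X, V)) r a b)).trans ((β.app (op V)).hom.map_smul r _)

theorem pre_mres {V W : X.Opens} (h : W ≤ V) (a : Γ(M, V)) (b : Γ(N, V)) :
    pre β W (mres M h a) (mres N h b) = mres P h (pre β V a b) :=
  PresheafOfModules.naturality_apply β (homOfLE h).op (a ⊗ₜ[Γ(X, V)] b)

variable (h : ∀ p : X, ∃ (V : X.Opens) (a : Γ(M, V)) (b : Γ(N, V)),
    p ∈ V ∧ IsGen M V a ∧ IsGen N V b ∧ IsGen P V (pre β V a b))

include h in
theorem bijective_pre (p : X) :
    ∃ V : X.Opens, p ∈ V ∧ ∀ W ≤ V, Function.Bijective (β.app (op W)).hom := by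
  obtain ⟨V, a, b, hp, ha, hb, hab⟩ := h p
  refine ⟨V, hp, fun W hW => ?_⟩
  let z₀ : TensorProduct Γ(X, W) Γ(M, W) Γ(N, W) := mres M hW a ⊗ₜ[Γ(X, W)] mres N hW b
  have h0 : (β.app (op W)).hom z₀ = mres P hW (pre β V a b) := pre_mres β hW a b
  have hspan : ∀ z : TensorProduct Γ(X, W) Γ(M, W) Γ(N, W), ∃ r : Γ(X, W), z = r • z₀ := by
    intro z
    induction z with
    | zero => exact ⟨0, (zero_smul _ _).symm⟩
    | tmul x y =>
      obtain ⟨r, hr⟩ := ha.exists_smul_eq hW x
      obtain ⟨s, hs⟩ := hb.exists_smul_eq hW y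
      refine ⟨r * s, ?_⟩
      conv_lhs => rw [hr, hs]
      rw [TensorProduct.tmul_smul, ← TensorProduct.smul_tmul', smul_smul, mul_comm]
    | add z w hz hw =>
      obtain ⟨r, hr⟩ := hz
      obtain ⟨s, hs⟩ := hw
      exact ⟨r + s, by rw [hr, hs, add_smul]⟩
  have hmap : ∀ r : Γ(X, W), (β.app (op W)).hom (r • z₀) = r • mres P hW (pre β V a b) := fun r =>
    ((β.app (op W)).hom.map_smul r z₀).trans (congrArg (fun t : Γ(P, W) => r • t) h0)
  constructor
  · intro (z : TensorProduct Γ(X, W) Γ(M, W) Γ(N, W)) (w : TensorProduct Γ(X, W) Γ(M, W) Γ(N, W)) hzw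
    obtain ⟨r, rfl⟩ := hspan z
    obtain ⟨s, rfl⟩ := hspan w
    rw [(hab W hW).1 ((hmap r).symm.trans (hzw.trans (hmap s)))]
  · intro t
    obtain ⟨r, hr⟩ := (hab W hW).2 t
    exact ⟨r • z₀, (hmap r).trans hr⟩

include h in
/-- A bilinear map carrying generators to generators identifies the tensor product. -/
theorem nonempty_tensorMod_iso : Nonempty (CohB1.tensorMod M N ≅ P) := by
  let g : (show X.PresheafOfModules from CohB1.tensorPre M N) ⟶
      (PresheafOfModules.restrictScalars (𝟙 X.ringCatSheaf.obj)).obj P.val := β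
  haveI : Presheaf.IsLocallyInjective (Opens.grothendieckTopology X)
      ((PresheafOfModules.toPresheaf _).map g) :=
    ⟨fun {U} z w e p hp => by
      obtain ⟨V, hpV, hV⟩ := bijective_pre β h p
      refine ⟨U.unop ⊓ V, homOfLE inf_le_left, ?_, hp, hpV⟩
      refine (hV _ inf_le_right).1 ?_
      have h1 := PresheafOfModules.naturality_apply β (homOfLE (inf_le_left : U.unop ⊓ V ≤ U.unop)).op z
      have h2 := PresheafOfModules.naturality_apply β (homOfLE (inf_le_left : U.unop ⊓ V ≤ U.unop)).op w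
      exact h1.trans ((congrArg _ e).trans h2.symm)⟩
  haveI : Presheaf.IsLocallySurjective (Opens.grothendieckTopology X)
      ((PresheafOfModules.toPresheaf _).map g) :=
    ⟨fun {U} t p hp => by
      obtain ⟨V, hpV, hV⟩ := bijective_pre β h p
      obtain ⟨z, hz⟩ := (hV (U ⊓ V) inf_le_right).2
        (mres P (inf_le_left : U ⊓ V ≤ U) t)
      exact ⟨U ⊓ V, homOfLE inf_le_left, ⟨z, hz⟩, hp, hpV⟩⟩
  haveI := isIso_sheafify_desc _ _ g
  exact ⟨asIso ((PresheafOfModules.sheafificationHomEquiv.{u} (𝟙 X.ringCatSheaf.obj)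
    (P := show X.PresheafOfModules from CohB1.tensorPre M N) (F := P)).symm g)⟩

end Gens

namespace Cocycle

variable (c : Cocycle X) {n m : ℕ}

/-- Multiplication of families. -/
def mul {V : X.Opens} (a : c.sect n V) (b : c.sect m V) : c.sect (n + m) V :=
  ⟨fun i => a.1 i * b.1 i, fun i j W hi hj => by
    simp only [map_mul, c.sect_spec a i j hi hj, c.sect_spec b i j hi hj, pow_add]
    ring⟩

theorem mul_apply {V : X.Opens} (a : c.sect n V) (b : c.sect m V) (i : c.ι) :
    (c.mul a b).1 i = a.1 i * b.1 i := rfl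

/-- The multiplication map on the presheaf tensor product. -/
def mulPre (n m : ℕ) : CohB1.tensorPre (c.twist n) (c.twist m) ⟶ CohB1.toPMod (c.twist (n + m)) where
  app V := ModuleCat.MonoidalCategory.tensorLift
    (fun (a : c.sect n V.unop) (b : c.sect m V.unop) => c.mul a b)
    (fun a a' b => c.sect_ext fun i => add_mul _ _ _)
    (fun r a b => c.sect_ext fun i => mul_assoc _ _ _)
    (fun a b b' => c.sect_ext fun i => mul_add _ _ _)
    (fun r a b => c.sect_ext fun i => mul_left_comm _ _ _)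
  naturality {V W} f := ModuleCat.MonoidalCategory.tensor_ext (fun a b =>
    c.sect_ext fun i => (map_mul (res (inf_le_inf_right _ (leOfHom f.unop))) _ _).symm)

/-- `twist n ⊗ twist m ≅ twist (n + m)`. -/
theorem nonempty_tensor_twist (n m : ℕ) :
    Nonempty (CohB1.tensorMod (c.twist n) (c.twist m) ≅ c.twist (n + m)) := by
  refine nonempty_tensorMod_iso (c.mulPre n m) fun p => ?_
  obtain ⟨i, hi⟩ := c.exists_mem p
  refine ⟨c.D i, c.base n i le_rfl, c.base m i le_rfl, hi, c.isGen_base n i le_rfl, c.isGen_base m i le_rfl, ?_⟩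
  have e : pre (c.mulPre n m) (c.D i) (c.base n i le_rfl) (c.base m i le_rfl) = c.base (n + m) i le_rfl :=
    c.sect_ext fun l => (pow_add _ _ _).symm
  exact Eq.subst (motive := fun t => IsGen (c.twist (n + m)) (c.D i) t) e.symm (c.isGen_base (n + m) i le_rfl)

theorem isIso_hom_of_locus_eq_top (a : c.sect n ⊤) (h : c.locus a = ⊤) : IsIso (c.hom a) := by
  rw [Scheme.Modules.Hom.isIso_iff_isIso_app]
  intro V
  rw [ConcreteCategory.isIso_iff_bijective]
  exact c.bijective_hom_app a (h ▸ le_top)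

/-- The family `1`. -/
def one : c.sect 0 (⊤ : X.Opens) := ⟨fun _ => 1, fun i j W hi hj => by simp⟩

theorem locus_eq_top_of_isUnit (a : c.sect n ⊤) (h : ∀ i, IsUnit (a.1 i)) : c.locus a = ⊤ := by
  refine top_le_iff.mp fun p _ => ?_
  obtain ⟨i, hi⟩ := c.exists_mem p
  refine Opens.mem_iSup.mpr ⟨i, ?_⟩
  rw [Scheme.basicOpen_of_isUnit X (h i)]
  exact ⟨trivial, hi⟩

theorem locus_one : c.locus c.one = ⊤ := c.locus_eq_top_of_isUnit _ fun _ => isUnit_one

theorem nonempty_twist_zero : Nonempty (Coh.structureModule X ≅ c.twist 0) :=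
  haveI := c.isIso_hom_of_locus_eq_top c.one c.locus_one
  ⟨asIso (c.hom c.one)⟩

theorem nonempty_tensorPow_iso {L : X.Modules} (e : L ≅ c.twist 1) :
    ∀ n, Nonempty (CohB1.tensorPow L n ≅ c.twist n) := by
  intro n
  induction n with
  | zero => exact c.nonempty_twist_zero
  | succ n ih =>
    obtain ⟨d⟩ := ih
    obtain ⟨m⟩ := c.nonempty_tensor_twist n 1
    exact ⟨LineData.tensorModMapIso d e ≪≫ m⟩

/-- The power of a cocycle. -/
def pow (k : ℕ) : Cocycle X where
  ι := c.ι
  D := c.D
  g i j := c.g i j ^ k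
  cover := c.cover
  self i W h := by rw [map_pow, c.self i W h, one_pow]
  change i j l W hi hj hl := by rw [map_pow, map_pow, map_pow, c.change i j l W hi hj hl, mul_pow]

theorem pow_G (k : ℕ) (i j : c.ι) {W : X.Opens} (hi : W ≤ c.D i) (hj : W ≤ c.D j) :
    (c.pow k).G i j hi hj = c.G i j hi hj ^ k :=
  map_pow _ _ _

theorem isFamily_pow (k n : ℕ) :
    (c.pow k).IsFamily n (M := c.twist (k * n)) fun i => c.base (k * n) i le_rfl := by
  intro i j W hi hj
  show c.sectRes hj (c.base (k * n) j le_rfl) = (c.pow k).G i j hi hj ^ n • c.sectRes hi (c.base (k * n) i le_rfl)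
  rw [sectRes_base, sectRes_base, c.base_eq_smul_base (k * n) i j hi hj, pow_mul, pow_G]

/-- The twists of a power. -/
theorem nonempty_pow_twist (k n : ℕ) : Nonempty ((c.pow k).twist n ≅ c.twist (k * n)) :=
  haveI := (c.pow k).isIso_homOfFamily (c.isFamily_pow k n) fun i => c.isGen_base (k * n) i le_rfl
  ⟨asIso ((c.pow k).homOfFamily (c.isFamily_pow k n))⟩

/-! ### Products of cocycles -/

variable (c' : Cocycle X)

/-- The product of two cocycles, on the common refinement. -/
def prod : Cocycle X where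
  ι := c.ι × c'.ι
  D p := c.D p.1 ⊓ c'.D p.2
  g p q := c.G p.1 q.1 (inf_le_left.trans inf_le_left) (inf_le_right.trans inf_le_left) *
    c'.G p.2 q.2 (inf_le_left.trans inf_le_right) (inf_le_right.trans inf_le_right)
  cover := eq_top_iff.mpr fun x _ => by
    obtain ⟨i, hi⟩ := c.exists_mem x
    obtain ⟨k, hk⟩ := c'.exists_mem x
    exact Opens.mem_iSup.mpr ⟨(i, k), hi, hk⟩
  self p W h := by simp only [res_G, G_self, one_mul, map_one]
  change p q r W hp hq hr := by
    simp only [map_mul, res_G]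
    rw [c.G_trans p.1 q.1 r.1 (hp.trans inf_le_left) (hq.trans inf_le_left) (hr.trans inf_le_left),
      c'.G_trans p.2 q.2 r.2 (hp.trans inf_le_right) (hq.trans inf_le_right) (hr.trans inf_le_right)]
    ring

theorem prod_G (p q : (c.prod c').ι) {W : X.Opens} (hp : W ≤ c.D p.1 ⊓ c'.D p.2) (hq : W ≤ c.D q.1 ⊓ c'.D q.2) :
    (c.prod c').G p q hp hq = c.G p.1 q.1 (hp.trans inf_le_left) (hq.trans inf_le_left) *
      c'.G p.2 q.2 (hp.trans inf_le_right) (hq.trans inf_le_right) := by
  show res _ (_ * _) = _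
  rw [map_mul, res_G, res_G]

/-- The product of families. -/
def mulProd {V : X.Opens} (a : c.sect n V) (b : c'.sect n V) : (c.prod c').sect n V :=
  ⟨fun p => res (inf_le_inf_left V inf_le_left) (a.1 p.1) * res (inf_le_inf_left V inf_le_right) (b.1 p.2),
    fun (p : c.ι × c'.ι) (q : c.ι × c'.ι) W (hp : W ≤ V ⊓ (c.D p.1 ⊓ c'.D p.2))
        (hq : W ≤ V ⊓ (c.D q.1 ⊓ c'.D q.2)) => by
      show res hp (res _ (a.1 p.1) * res _ (b.1 p.2)) =
        (c.prod c').G p q (hp.trans inf_le_right) (hq.trans inf_le_right) ^ n *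
          res hq (res _ (a.1 q.1) * res _ (b.1 q.2))
      rw [map_mul, map_mul, res_res, res_res, res_res, res_res,
        c.sect_spec a p.1 q.1 (hp.trans (inf_le_inf_left V inf_le_left))
          (hq.trans (inf_le_inf_left V inf_le_left)),
        c'.sect_spec b p.2 q.2 (hp.trans (inf_le_inf_left V inf_le_right))
          (hq.trans (inf_le_inf_left V inf_le_right)), prod_G, mul_pow]
      ring⟩

theorem mulProd_apply {V : X.Opens} (a : c.sect n V) (b : c'.sect n V) (i : c.ι) (k : c'.ι) :
    (c.mulProd c' a b).1 (i, k) =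
      res (inf_le_inf_left V inf_le_left) (a.1 i) * res (inf_le_inf_left V inf_le_right) (b.1 k) := rfl

/-- The product map on the presheaf tensor product. -/
def mulProdPre (n : ℕ) : CohB1.tensorPre (c.twist n) (c'.twist n) ⟶ CohB1.toPMod ((c.prod c').twist n) where
  app V := ModuleCat.MonoidalCategory.tensorLift
    (fun (a : c.sect n V.unop) (b : c'.sect n V.unop) => c.mulProd c' a b)
    (fun a a' b => (c.prod c').sect_ext fun p => by
      show res _ (_ + _) * _ = _
      rw [map_add, add_mul]; rfl)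
    (fun (r : Γ(X, V.unop)) (a : c.sect n V.unop) b => (c.prod c').sect_ext fun p => by
      show res _ ((r • a).1 p.1) * _ = res inf_le_left r * (_ * _)
      rw [c.smul_apply, map_mul, res_res, mul_assoc]
      rfl)
    (fun a b b' => (c.prod c').sect_ext fun p => by
      show _ * res _ (_ + _) = _
      rw [map_add, mul_add]; rfl)
    (fun (r : Γ(X, V.unop)) a (b : c'.sect n V.unop) => (c.prod c').sect_ext fun p => by
      show _ * res _ ((r • b).1 p.2) = res inf_le_left r * (_ * _)
      rw [c'.smul_apply, map_mul, res_res, mul_left_comm]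
      rfl)
  naturality {V W} f := ModuleCat.MonoidalCategory.tensor_ext (fun (a : c.sect n V.unop) (b : c'.sect n V.unop) =>
    (c.prod c').sect_ext fun p => by
      show res _ (res _ (a.1 p.1)) * res _ (res _ (b.1 p.2)) = res _ (res _ (a.1 p.1) * res _ (b.1 p.2))
      exact (congrArg₂ (· * ·) (res_res _ _ _) (res_res _ _ _)).trans
        ((congrArg₂ (· * ·) (res_res _ _ _) (res_res _ _ _)).symm.trans (map_mul _ _ _).symm))

/-- `c.twist n ⊗ c'.twist n ≅ (c.prod c').twist n`. -/
theorem nonempty_tensor_prod (n : ℕ) :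
    Nonempty (CohB1.tensorMod (c.twist n) (c'.twist n) ≅ (c.prod c').twist n) := by
  refine nonempty_tensorMod_iso (c.mulProdPre c' n) fun x => ?_
  obtain ⟨i, hi⟩ := c.exists_mem x
  obtain ⟨k, hk⟩ := c'.exists_mem x
  let V : X.Opens := c.D i ⊓ c'.D k
  refine ⟨V, c.base n i inf_le_left, c'.base n k inf_le_right, ⟨hi, hk⟩,
    c.isGen_base n i inf_le_left, c'.isGen_base n k inf_le_right, ?_⟩
  have e : pre (c.mulProdPre c' n) V (c.base n i inf_le_left) (c'.base n k inf_le_right) =
      (c.prod c').base n (V := V) (i, k) le_rfl := by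
    refine (c.prod c').sect_ext fun p => ?_
    show res _ (_ ^ n) * res _ (_ ^ n) = (c.prod c').G p (i, k) _ _ ^ n
    rw [prod_G, map_pow, map_pow, res_G, res_G, mul_pow]
  exact Eq.subst (motive := fun t => IsGen ((c.prod c').twist n) V t) e.symm
    ((c.prod c').isGen_base n (V := V) (i, k) le_rfl)

end Cocycle

end GrothLib.Ample
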