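import Groth.Agent.Lib.Ample.Calculus

/-!
# The cocycle of a family of local equations with disjoint zero loci
-/

universe u

set_option backward.isDefEq.respectTransparency false

open AlgebraicGeometry CategoryTheory CategoryTheory.Limits TopologicalSpace Opposite

noncomputable section

namespace GrothLib.Ample

variable {X : Scheme.{u}}

/-- Local equations: functions on opens `D i`, units exactly on `V`, whose zero loci do not meet. -/
structure Equations (X : Scheme.{u}) where
  /-- the index type -/
  ι : Type u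
  /-- the pieces -/
  D : ι → X.Opens
  /-- the equations -/
  f : ∀ i, Γ(X, D i)
  /-- where all equations are units -/
  V : X.Opens
  cover : ⨆ i, D i = ⊤
  disjoint : ∀ i j, i ≠ j → D i ⊓ D j ≤ V
  basicOpen_eq : ∀ i, X.basicOpen (f i) = D i ⊓ V

namespace Equations

variable (E : Equations X)

theorem isUnit_res {i : E.ι} {W : X.Opens} (h : W ≤ E.D i) (hV : W ≤ E.V) : IsUnit (res h (E.f i)) := by
  have hle : W ≤ X.basicOpen (E.f i) := (E.basicOpen_eq i).symm ▸ le_inf h hV
  rw [show res h (E.f i) = res hle (res (X.basicOpen_le _) (E.f i)) from (res_res _ _ _).symm]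
  exact (RingedSpace.isUnit_res_basicOpen X.toRingedSpace (E.f i)).map _

open scoped Classical in
/-- The transition functions. -/
def g (i j : E.ι) : Γ(X, E.D i ⊓ E.D j) :=
  if h : i = j then 1 else
    res (inf_le_left : E.D i ⊓ E.D j ≤ E.D i) (E.f i) *
      (↑(E.isUnit_res (i := j) (inf_le_right : E.D i ⊓ E.D j ≤ E.D j) (E.disjoint i j h)).unit⁻¹ : Γ(X, E.D i ⊓ E.D j))

theorem res_g_mul (i j : E.ι) {W : X.Opens} (hi : W ≤ E.D i) (hj : W ≤ E.D j) :
    res (le_inf hi hj) (E.g i j) * res hj (E.f j) = res hi (E.f i) := by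
  unfold g
  by_cases h : i = j
  · subst h; simp
  · rw [dif_neg h, map_mul, res_res, mul_assoc,
      show res hj (E.f j) = res (le_inf hi hj) (res (inf_le_right : E.D i ⊓ E.D j ≤ E.D j) (E.f j)) from (res_res _ _ _).symm, ← map_mul,
      IsUnit.val_inv_mul, map_one, mul_one]

/-- The cocycle of the family. -/
def cocycle : Cocycle X where
  ι := E.ι
  D := E.D
  g := E.g
  cover := E.cover
  self i W h := by
    unfold g
    rw [dif_pos rfl, map_one]
  change i j k W hi hj hk := by
    by_cases hij : i = j
    · subst hij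
      have h1 : res (le_inf hi hj) (E.g i i) = 1 := by
        unfold g
        rw [dif_pos rfl, map_one]
      rw [h1, one_mul]
    · by_cases hjk : j = k
      · subst hjk
        have h1 : res (le_inf hj hk) (E.g j j) = 1 := by
          unfold g
          rw [dif_pos rfl, map_one]
        rw [h1, mul_one]
      · refine ((E.isUnit_res hk ((le_inf hj hk).trans (E.disjoint j k hjk))).mul_left_inj).1 ?_
        rw [E.res_g_mul i k hi hk, mul_assoc, E.res_g_mul j k hj hk, E.res_g_mul i j hi hj]

/-- The equations as a section. -/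
def section₁ : E.cocycle.sect 1 ⊤ :=
  ⟨fun i => res inf_le_right (E.f i), fun i j W hi hj => by
    rw [pow_one, res_res, res_res]
    exact (E.res_g_mul i j (hi.trans inf_le_right) (hj.trans inf_le_right)).symm⟩

theorem locus_section₁ : E.cocycle.locus E.section₁ = E.V := by
  show ⨆ i : E.ι, X.basicOpen (res (inf_le_right : ⊤ ⊓ E.D i ≤ E.D i) (E.f i)) = E.V
  have h : ∀ i : E.ι, X.basicOpen (res (inf_le_right : ⊤ ⊓ E.D i ≤ E.D i) (E.f i)) = E.D i ⊓ E.V := fun i => by
    rw [Scheme.basicOpen_res, E.basicOpen_eq, top_inf_eq, ← inf_assoc, inf_idem]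
  rw [iSup_congr h, ← iSup_inf_eq, E.cover, top_inf_eq]

end Equations

end GrothLib.Ample
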