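import Groth.Agent.Lib.Ample.Functorial

/-!
# Affine pieces of fibre products; loci of products
-/

universe u

set_option backward.isDefEq.respectTransparency false

open AlgebraicGeometry CategoryTheory CategoryTheory.Limits TopologicalSpace Opposite

noncomputable section

namespace GrothLib.Ample

variable {X Y S : Scheme.{u}}

theorem isAffineOpen_fst_inf_snd (f : X ⟶ S) (g : Y ⟶ S) {A : X.Opens} {B : Y.Opens} {V : S.Opens}
    (hA : IsAffineOpen A) (hB : IsAffineOpen B) (hV : IsAffineOpen V) (hAV : A ≤ f ⁻¹ᵁ V) (hBV : B ≤ g ⁻¹ᵁ V) :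
    IsAffineOpen (pullback.fst f g ⁻¹ᵁ A ⊓ pullback.snd f g ⁻¹ᵁ B) := by
  haveI : IsAffine (A : Scheme.{u}) := hA
  haveI : IsAffine (B : Scheme.{u}) := hB
  haveI : IsAffine (V : Scheme.{u}) := hV
  let p : pullback (f.resLE V A hAV) (g.resLE V B hBV) ⟶ pullback f g :=
    pullback.map _ _ _ _ A.ι B.ι V.ι (Scheme.Hom.resLE_comp_ι _ _) (Scheme.Hom.resLE_comp_ι _ _)
  haveI : IsAffine (pullback (f.resLE V A hAV) (g.resLE V B hBV)) := inferInstance
  have h : IsAffineOpen p.opensRange := isAffineOpen_opensRange p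
  have e : p.opensRange = pullback.fst f g ⁻¹ᵁ A ⊓ pullback.snd f g ⁻¹ᵁ B := by
    refine Opens.ext ?_
    show Set.range p = _
    rw [Scheme.Pullback.range_map, A.range_ι, B.range_ι]
    rfl
  rwa [e] at h

namespace Cocycle

variable (c c' : Cocycle X)

/-- Ampleness of a product through pairs of sections with affine common locus. -/
theorem isAmp_prod_of_inf (h : ∀ p : X, ∃ (n : ℕ) (a : c.sect (n + 1) ⊤) (m : ℕ) (b : c'.sect (m + 1) ⊤),
    (p ∈ c.locus a ∧ p ∈ c'.locus b) ∧ IsAffineOpen (c.locus a ⊓ c'.locus b)) : (c.prod c').IsAmp := fun p => by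
  obtain ⟨n, a, m, b, hp, hab⟩ := h p
  let a' : c.sect ((n + 1) * (m + 1)) ⊤ := c.sectPow a (m + 1)
  let b' : c'.sect ((n + 1) * (m + 1)) ⊤ := c'.sectCast (mul_comm _ _) (c'.sectPow b (n + 1))
  obtain ⟨N, hN⟩ : ∃ N, (n + 1) * (m + 1) = N + 1 :=
    ⟨(n + 1) * (m + 1) - 1, by
      have := Nat.mul_pos (Nat.add_pos_right n Nat.one_pos) (Nat.add_pos_right m Nat.one_pos); omega⟩
  refine ⟨N, (c.prod c').sectCast hN (c.mulProd c' a' b'), ?_⟩
  rw [(c.prod c').locus_sectCast, locus_mulProd, c.locus_sectPow a (Nat.succ_pos m), c'.locus_sectCast,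
    c'.locus_sectPow b (Nat.succ_pos n)]
  exact ⟨hp, hab⟩

end Cocycle

end GrothLib.Ample
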