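import Groth.Agent.Lib.Ample.ProjMap
import Groth.Agent.Lib.GrTilde.Amp

/-!
# Morphisms to `Proj` of an algebra generated in degree one
-/

universe u

set_option backward.isDefEq.respectTransparency false

open AlgebraicGeometry CategoryTheory CategoryTheory.Limits TopologicalSpace Opposite HomogeneousLocalization
open GrothLib.InvExt (mres IsGen)

noncomputable section

namespace GrothLib.Ample.GProj

variable {R A : Type u} [CommRing R] [CommRing A] [Algebra R A] (𝒜 : ℕ → Submodule R A) [GradedAlgebra 𝒜]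

/-- A family of degree-one algebra generators. -/
structure Sys (ι : Type u) where
  /-- the generators -/
  x : ι → A
  mem : ∀ i, x i ∈ 𝒜 1
  gen : Algebra.adjoin R (Set.range x) = ⊤

variable {𝒜} {ι : Type u} (G : Sys 𝒜 ι)

theorem decompose_adjoin_induction {motive : ℕ → A → Prop}
    (h0 : ∀ r : R, motive 0 (algebraMap R A r)) (hx : ∀ i, motive 1 (G.x i))
    (hz : ∀ m, motive m 0) (hadd : ∀ m a b, a ∈ 𝒜 m → b ∈ 𝒜 m → motive m a → motive m b → motive m (a + b))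
    (hmul : ∀ m n a b, a ∈ 𝒜 m → b ∈ 𝒜 n → motive m a → motive n b → motive (m + n) (a * b))
    {m : ℕ} {a : A} (ha : a ∈ 𝒜 m) : motive m a := by
  classical
  suffices H : ∀ a ∈ Algebra.adjoin R (Set.range G.x), ∀ m, motive m (DirectSum.decompose 𝒜 a m : A) by
    have := H a (by rw [G.gen]; trivial) m
    rwa [DirectSum.decompose_of_mem_same 𝒜 ha] at this
  intro a ha
  induction ha using Algebra.adjoin_induction with
  | mem z hz' =>
    obtain ⟨i, rfl⟩ := hz'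
    intro m
    rcases eq_or_ne 1 m with rfl | h
    · rw [DirectSum.decompose_of_mem_same 𝒜 (G.mem i)]; exact hx i
    · rw [DirectSum.decompose_of_mem_ne 𝒜 (G.mem i) h]; exact hz m
  | algebraMap r =>
    intro m
    rcases eq_or_ne 0 m with rfl | h
    · rw [DirectSum.decompose_of_mem_same 𝒜 (SetLike.algebraMap_mem_graded 𝒜 r)]; exact h0 r
    · rw [DirectSum.decompose_of_mem_ne 𝒜 (SetLike.algebraMap_mem_graded 𝒜 r) h]; exact hz m
  | add z w _ _ h1 h2 =>
    intro m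
    rw [DirectSum.decompose_add, DirectSum.add_apply, Submodule.coe_add]
    exact hadd m _ _ (SetLike.coe_mem _) (SetLike.coe_mem _) (h1 m) (h2 m)
  | mul z w _ _ h1 h2 =>
    intro m
    rw [DirectSum.decompose_mul, DirectSum.coe_mul_apply]
    refine (Finset.sum_induction _ (fun c => c ∈ 𝒜 m ∧ motive m c)
      (fun a b ha hb => ⟨add_mem ha.1 hb.1, hadd m a b ha.1 hb.1 ha.2 hb.2⟩) ⟨zero_mem _, hz m⟩ fun ij hij => ?_).2
    obtain rfl : ij.1 + ij.2 = m := (Finset.mem_filter.mp hij).2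
    exact ⟨SetLike.mul_mem_graded (SetLike.coe_mem _) (SetLike.coe_mem _),
      hmul _ _ _ _ (SetLike.coe_mem _) (SetLike.coe_mem _) (h1 _) (h2 _)⟩

include G in
theorem map_eq_pow_mul {S : Type*} [CommRing S] (f g : A →+* S) (c : S)
    (hC : ∀ r, g (algebraMap R A r) = f (algebraMap R A r)) (hX : ∀ k, g (G.x k) = c * f (G.x k)) :
    ∀ m, ∀ a ∈ 𝒜 m, g a = c ^ m * f a := fun m a ha =>
  decompose_adjoin_induction G (motive := fun m a => g a = c ^ m * f a) (fun r => by simp [hC])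
    (fun i => by simp [hX]) (fun m => by simp)
    (fun m a b _ _ h1 h2 => by rw [map_add, map_add, h1, h2, mul_add])
    (fun m n a b _ _ h1 h2 => by rw [map_mul, map_mul, h1, h2, pow_add]; ring) ha

include G in
theorem iSup_basicOpen : ⨆ i, Proj.basicOpen 𝒜 (G.x i) = ⊤ := by
  refine Proj.iSup_basicOpen_eq_top' 𝒜 G.x (fun i => ⟨1, G.mem i⟩) (top_le_iff.mp fun p _ => ?_)
  have hp : p ∈ Algebra.adjoin R (Set.range G.x) := by rw [G.gen]; trivial
  induction hp using Algebra.adjoin_induction with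
  | mem z hz => exact Algebra.subset_adjoin hz
  | algebraMap r => exact Subalgebra.algebraMap_mem _ (⟨algebraMap R A r, SetLike.algebraMap_mem_graded 𝒜 r⟩ : 𝒜 0)
  | add z w _ _ h1 h2 => exact add_mem (h1 trivial) (h2 trivial)
  | mul z w _ _ h1 h2 => exact mul_mem (h1 trivial) (h2 trivial)

variable (𝒜) in
/-- The structure map to the base. -/
def toBase : Proj 𝒜 ⟶ Spec (CommRingCat.of R) :=
  Proj.toSpecZero 𝒜 ≫ Spec.map (CommRingCat.ofHom (algebraMap R (𝒜 0)))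

variable (𝒜) in
/-- The constants in a chart. -/
def cst (z : A) : R →+* Away 𝒜 z :=
  (HomogeneousLocalization.fromZeroRingHom 𝒜 _).comp (algebraMap R (𝒜 0))

theorem cst_val (z : A) (r : R) :
    (cst 𝒜 z r).val = algebraMap A (Localization.Away z) (algebraMap R A r) := by
  rw [← Localization.mk_one_eq_algebraMap]
  rfl

/-- `x k / x i`. -/
def ratio (i k : ι) : Away 𝒜 (G.x i) :=
  Away.mk 𝒜 (G.mem i) 1 (G.x k) (by simpa using G.mem k)

theorem exists_mem_closure (i : ι) {m : ℕ} {a : A} (ha : a ∈ 𝒜 m) :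
    ∃ z ∈ Subring.closure (Set.range (cst 𝒜 (G.x i)) ∪ Set.range (ratio G i)),
      z.val * algebraMap A (Localization.Away (G.x i)) (G.x i) ^ m =
        algebraMap A (Localization.Away (G.x i)) a := by
  refine decompose_adjoin_induction G (motive := fun m a =>
    ∃ z ∈ Subring.closure (Set.range (cst 𝒜 (G.x i)) ∪ Set.range (ratio G i)),
      z.val * algebraMap A (Localization.Away (G.x i)) (G.x i) ^ m =
        algebraMap A (Localization.Away (G.x i)) a) ?_ ?_ ?_ ?_ ?_ ha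
  · exact fun r => ⟨cst 𝒜 (G.x i) r, Subring.subset_closure (Or.inl ⟨r, rfl⟩), by rw [pow_zero, mul_one, cst_val]⟩
  · refine fun k => ⟨ratio G i k, Subring.subset_closure (Or.inr ⟨k, rfl⟩), ?_⟩
    rw [ratio, Away.val_mk, Localization.mk_eq_mk']
    have := IsLocalization.mk'_spec (Localization.Away (G.x i)) (G.x k)
      (⟨G.x i ^ 1, 1, rfl⟩ : Submonoid.powers (G.x i))
    simpa [pow_one] using this
  · exact fun m => ⟨0, zero_mem _, by rw [HomogeneousLocalization.val_zero, zero_mul, map_zero]⟩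
  · rintro m a b _ _ ⟨z, hz, e⟩ ⟨w, hw, e'⟩
    exact ⟨z + w, add_mem hz hw, by rw [HomogeneousLocalization.val_add, add_mul, e, e', map_add]⟩
  · rintro m n a b _ _ ⟨z, hz, e⟩ ⟨w, hw, e'⟩
    exact ⟨z * w, mul_mem hz hw, by rw [HomogeneousLocalization.val_mul, map_mul, ← e, ← e', pow_add]; ring⟩

include G in
theorem awayHom_ext {S : Type*} [CommRing S] {i : ι} {g g' : Away 𝒜 (G.x i) →+* S}
    (hc : g.comp (cst 𝒜 (G.x i)) = g'.comp (cst 𝒜 (G.x i)))
    (h : ∀ k, g (ratio G i k) = g' (ratio G i k)) : g = g' := by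
  refine RingHom.ext fun z => ?_
  obtain ⟨m, a, ha, rfl⟩ := Away.mk_surjective 𝒜 (G.mem i) z
  obtain ⟨w, hw, e⟩ := exists_mem_closure G i ha
  have hwz : w = Away.mk 𝒜 (G.mem i) m a ha := by
    refine HomogeneousLocalization.val_injective _ ?_
    rw [Away.val_mk, Localization.mk_eq_mk', IsLocalization.eq_mk'_iff_mul_eq, map_pow]
    simpa using e
  rw [← hwz]
  refine RingHom.eqOn_set_closure ?_ hw
  rintro _ (⟨r, rfl⟩ | ⟨k, rfl⟩)
  · exact RingHom.congr_fun hc r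
  · exact h k

theorem awayι_toBase (i : ι) :
    Proj.awayι 𝒜 (G.x i) (G.mem i) one_pos ≫ toBase 𝒜 = Spec.map (CommRingCat.ofHom (cst 𝒜 (G.x i))) := by
  refine (Proj.awayι_toSpecZero_assoc _ _ _ _ _).trans ?_
  rw [← Spec.map_comp, ← CommRingCat.ofHom_comp]
  rfl

theorem pt_toBase {T : Scheme.{u}} (i : ι) (g : Away 𝒜 (G.x i) →+* Γ(T, ⊤)) :
    ProjPt.pt 𝒜 (G.mem i) one_pos g ≫ toBase 𝒜 =
      T.toSpecΓ ≫ Spec.map (CommRingCat.ofHom (g.comp (cst 𝒜 (G.x i)))) := by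
  refine (Category.assoc _ _ _).trans ?_
  refine congrArg (T.toSpecΓ ≫ ·) ((Category.assoc _ _ _).trans ?_)
  refine (congrArg (Spec.map (CommRingCat.ofHom g) ≫ ·) (awayι_toBase G i)).trans ?_
  rw [← Spec.map_comp, ← CommRingCat.ofHom_comp]

theorem eq_toSpecΓ_toGlobal {T : Scheme.{u}} (q : T ⟶ Spec (CommRingCat.of R)) :
    q = T.toSpecΓ ≫ Spec.map (CommRingCat.ofHom (ProjUP.toGlobal q)) :=
  ext_to_Spec (by simp [ProjUP.toGlobal])

/-- Ratios on an open cover defining a morphism to `Proj`. -/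
structure Data {X : Scheme.{u}} (q : X ⟶ Spec (CommRingCat.of R)) where
  /-- the preimages of the charts -/
  U : ι → X.Opens
  /-- the dehomogenisations -/
  ψ : ∀ i, A →+* Γ(X, U i)
  cover : ⨆ i, U i = ⊤
  const : ∀ i r, ψ i (algebraMap R A r) = res (le_top : U i ≤ ⊤) (ProjUP.toGlobal q r)
  self : ∀ i, ψ i (G.x i) = 1
  change : ∀ (i j k : ι) (W : X.Opens) (hi : W ≤ U i) (hj : W ≤ U j),
    res hi (ψ i (G.x k)) = res hi (ψ i (G.x j)) * res hj (ψ j (G.x k))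
  basicOpen_eq : ∀ i j, X.basicOpen (ψ i (G.x j)) = U i ⊓ U j

namespace Data

variable {G} {Y : Scheme.{u}} {q : Y ⟶ Spec (CommRingCat.of R)} (D : Data G q)

theorem isUnit_ψ (i : ι) : IsUnit (D.ψ i (G.x i)) := by
  rw [D.self]; exact isUnit_one

/-- The chart homomorphism. -/
def g (i : ι) : Away 𝒜 (G.x i) →+* Γ(Y, D.U i) :=
  ProjPt.evalAway 𝒜 (D.ψ i) (G.x i) (D.isUnit_ψ i)

theorem g_cst (i : ι) (r : R) : D.g i (cst 𝒜 (G.x i) r) = res le_top (ProjUP.toGlobal q r) := by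
  rw [g, ProjPt.evalAway, RingHom.comp_apply,
    show algebraMap (Away 𝒜 (G.x i)) (Localization.Away (G.x i)) (cst 𝒜 (G.x i) r) = (cst 𝒜 (G.x i) r).val from rfl,
    cst_val, IsLocalization.Away.lift_eq, D.const]

theorem g_ratio (i k : ι) : D.g i (ratio G i k) = D.ψ i (G.x k) := by
  have h := ProjPt.evalAway_mk_spec 𝒜 (D.ψ i) (G.mem i) (D.isUnit_ψ i) 1 (G.x k) (by simpa using G.mem k)
  rw [pow_one, D.self, mul_one] at h
  exact h

/-- The morphism on the `i`th piece. -/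
def piece (i : ι) : (D.U i : Scheme.{u}) ⟶ Proj 𝒜 :=
  ProjPt.pt 𝒜 (G.mem i) one_pos ((D.U i).topIso.inv.hom.comp (D.g i))

theorem piece_agree {T : Scheme.{u}} (i j : ι) (a : T ⟶ D.U i) (b : T ⟶ D.U j)
    (h : a ≫ (D.U i).ι = b ≫ (D.U j).ι) : a ≫ D.piece i = b ≫ D.piece j := by
  let t := a ≫ (D.U i).ι
  have hi : (⊤ : T.Opens) ≤ t ⁻¹ᵁ D.U i := fun x _ => (a x).2
  have hj : (⊤ : T.Opens) ≤ t ⁻¹ᵁ D.U j := fun x _ => by
    show t x ∈ D.U j
    rw [show t = b ≫ (D.U j).ι from h]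
    exact (b x).2
  let fi := (t.appLE (D.U i) ⊤ hi).hom.comp (D.ψ i)
  let fj := (t.appLE (D.U j) ⊤ hj).hom.comp (D.ψ j)
  have hij : (⊤ : T.Opens) ≤ t ⁻¹ᵁ (D.U i ⊓ D.U j) := le_inf hi hj
  let w := (t.appLE (D.U i) ⊤ hi).hom (D.ψ i (G.x j))
  have hw : IsUnit w := by
    refine T.toRingedSpace.isUnit_of_isUnit_germ ⊤ w fun x _ => ?_
    refine (Scheme.mem_basicOpen T w x (Opens.mem_top x)).mp ?_
    rw [Scheme.basicOpen_appLE, D.basicOpen_eq]
    exact ⟨trivial, hij trivial⟩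
  have hrel : ∀ m, ∀ p ∈ 𝒜 m, fi p = w ^ m * fj p := map_eq_pow_mul G fj fi w (fun r => by
      simp only [fi, fj, RingHom.comp_apply, D.const]
      rw [appLE_res, appLE_res]) fun k => by
    simp only [fi, fj, RingHom.comp_apply]
    have e := congrArg (t.appLE (D.U i ⊓ D.U j) ⊤ hij).hom (D.change i j k _ inf_le_left inf_le_right)
    rw [map_mul, appLE_res, appLE_res, appLE_res] at e
    exact e
  have hfii : IsUnit (fi (G.x i)) := (D.isUnit_ψ i).map (t.appLE (D.U i) ⊤ hi).hom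
  have hfjj : IsUnit (fj (G.x j)) := (D.isUnit_ψ j).map (t.appLE (D.U j) ⊤ hj).hom
  have hfij : IsUnit (fi (G.x j)) := by
    rw [hrel 1 _ (G.mem j)]
    exact (hw.pow 1).mul hfjj
  rw [piece, piece, ProjPt.comp_pt, ProjPt.comp_pt]
  have ei : a.appTop.hom.comp ((D.U i).topIso.inv.hom.comp (D.g i)) = ProjPt.evalAway 𝒜 fi (G.x i) hfii := by
    rw [g, ← RingHom.comp_assoc, ProjPt.comp_evalAway 𝒜 _ _ (G.mem i)]
    congr 1
    exact RingHom.ext fun p => ProjMap.Data.appTop_topIso_inv (Y := Y) a t rfl hi _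
  have ej : b.appTop.hom.comp ((D.U j).topIso.inv.hom.comp (D.g j)) = ProjPt.evalAway 𝒜 fj (G.x j) hfjj := by
    rw [g, ← RingHom.comp_assoc, ProjPt.comp_evalAway 𝒜 _ _ (G.mem j)]
    congr 1
    exact RingHom.ext fun p => ProjMap.Data.appTop_topIso_inv (Y := Y) b t h.symm hj _
  rw [ei, ej, ProjPt.pt_evalAway_eq 𝒜 (G.mem i) one_pos fi hfii (G.mem j) one_pos hfij,
    ProjPt.evalAway_eq_of_twist 𝒜 fj fi (G.mem j) hfjj hfij w hrel]

/-- The cover by the pieces. -/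
def cover' : Y.OpenCover := Y.openCoverOfIsOpenCover D.U (IsOpenCover.mk D.cover)

/-- The morphism to `Proj`. -/
def map : Y ⟶ Proj 𝒜 :=
  D.cover'.glueMorphisms D.piece fun i j => D.piece_agree i j _ _ pullback.condition

theorem ι_map (i : ι) : (D.U i).ι ≫ D.map = D.piece i :=
  D.cover'.ι_glueMorphisms _ _ i

theorem map_toBase : D.map ≫ toBase 𝒜 = q := by
  refine D.cover'.hom_ext _ _ fun i => ?_
  show (D.U i).ι ≫ D.map ≫ _ = (D.U i).ι ≫ q
  rw [← Category.assoc, ι_map, piece, pt_toBase G, eq_toSpecΓ_toGlobal ((D.U i).ι ≫ q)]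
  congr 3
  refine RingHom.ext fun r => ?_
  rw [RingHom.comp_apply, RingHom.comp_apply, g_cst]
  rw [show ProjUP.toGlobal ((D.U i).ι ≫ q) r = (D.U i).ι.appTop (ProjUP.toGlobal q r) by
    simp [ProjUP.toGlobal], Scheme.Opens.ι_appTop]
  exact res_res _ _ _

theorem map_preimage (k : ι) : D.map ⁻¹ᵁ Proj.basicOpen 𝒜 (G.x k) = D.U k := by
  ext x
  obtain ⟨i, hi⟩ := Opens.mem_iSup.mp (D.cover ▸ Opens.mem_top x : x ∈ ⨆ i, D.U i)
  have h : (⟨x, hi⟩ : D.U i) ∈ D.piece i ⁻¹ᵁ Proj.basicOpen 𝒜 (G.x k) ↔ x ∈ D.U k := by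
    rw [piece, ProjPt.pt_preimage_basicOpen 𝒜 (G.mem i) one_pos _ (G.mem k) one_pos, RingHom.comp_apply]
    have e : D.g i (Away.isLocalizationElem (G.mem i) (G.mem k)) = D.ψ i (G.x k) := by
      rw [← g_ratio]
      congr 1
      exact HomogeneousLocalization.val_injective _ (by simp [ratio, Away.val_mk])
    rw [e, show (D.U i).topIso.inv.hom (D.ψ i (G.x k)) =
      ((D.U i).ι.appLE (D.U i) ⊤ (D.U i).ι_preimage_self.ge).hom (D.ψ i (G.x k)) by rw [Scheme.Opens.ι_appLE]; rfl,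
      Scheme.basicOpen_appLE, D.basicOpen_eq]
    exact ⟨fun h => h.2.2, fun h => ⟨trivial, hi, h⟩⟩
  simp only [SetLike.mem_coe]
  rw [← h, ← ι_map]
  rfl

theorem map_appLE_ratio (i k : ι) {W : Y.Opens} (hW : W ≤ D.U i)
    (e : W ≤ D.map ⁻¹ᵁ Proj.basicOpen 𝒜 (G.x i)) :
    (D.map.appLE (Proj.basicOpen 𝒜 (G.x i)) W e).hom (Proj.awayToSection 𝒜 (G.x i) (ratio G i k)) =
      res hW (D.ψ i (G.x k)) := by
  have e0 : D.U i ≤ D.map ⁻¹ᵁ Proj.basicOpen 𝒜 (G.x i) := (D.map_preimage i).ge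
  have h0 : (D.map.appLE (Proj.basicOpen 𝒜 (G.x i)) (D.U i) e0).hom
      (Proj.awayToSection 𝒜 (G.x i) (ratio G i k)) = D.ψ i (G.x k) := by
    refine (ConcreteCategory.bijective_of_isIso (D.U i).topIso.inv).1 ?_
    have e1 : ⊤ ≤ D.piece i ⁻¹ᵁ Proj.basicOpen 𝒜 (G.x i) := (ProjPt.pt_preimage_self 𝒜 _ _ _).ge
    have h1 := ProjMap.pt_appLE_awayToSection 𝒜 (G.mem i) one_pos ((D.U i).topIso.inv.hom.comp (D.g i)) (ratio G i k) e1
    rw [RingHom.comp_apply, g_ratio] at h1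
    refine Eq.trans ?_ h1
    have : ∀ (φ : (D.U i : Scheme.{u}) ⟶ Proj 𝒜) (e' : _ ≤ φ ⁻¹ᵁ Proj.basicOpen 𝒜 (G.x i)),
        φ = (D.U i).ι ≫ D.map →
        (D.U i).topIso.inv ((D.map.appLE (Proj.basicOpen 𝒜 (G.x i)) (D.U i) e0).hom
          (Proj.awayToSection 𝒜 (G.x i) (ratio G i k))) =
        (φ.appLE (Proj.basicOpen 𝒜 (G.x i)) ⊤ e').hom (Proj.awayToSection 𝒜 (G.x i) (ratio G i k)) := by
      rintro _ e' rfl
      rw [← Scheme.Hom.appLE_comp_appLE (D.U i).ι D.map _ (D.U i) ⊤ e0 (D.U i).ι_preimage_self.ge,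
        CommRingCat.comp_apply, Scheme.Opens.ι_appLE]
      rfl
    exact this _ e1 (D.ι_map i).symm
  rw [← h0, res_appLE]

end Data

end GrothLib.Ample.GProj
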