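import Groth.Agent.Lib.Ample.GProj
import Groth.Agent.Lib.Ample.ProjSections

/-!
# Pullback of `O(1)` along a morphism to `Proj`; morphisms are determined by the pulled-back generators
-/

universe u

set_option backward.isDefEq.respectTransparency false

open AlgebraicGeometry CategoryTheory CategoryTheory.Limits TopologicalSpace Opposite HomogeneousLocalization
open GrothLib.InvExt (mres IsGen)

noncomputable section

namespace GrothLib.Ample.GProj

variable {R A : Type u} [CommRing R] [CommRing A] [Algebra R A] {𝒜 : ℕ → Submodule R A} [GradedAlgebra 𝒜]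
variable {ι : Type u} (G : Sys 𝒜 ι)

/-- The cocycle of `O(1)`. -/
def pcoc : Cocycle (Proj 𝒜) := ProjTwist.cocycle 𝒜 G.x G.mem (iSup_basicOpen G)

/-- `O(1)` is the twist of `pcoc`. -/
def pcocIso : Twist.twist 𝒜 1 ≅ (pcoc G).twist 1 :=
  (asIso (ProjTwist.toTwist 𝒜 G.x G.mem (iSup_basicOpen G) 1)).symm

/-- The generator `x i` as a global section of `O(1)`. -/
def coord (i : ι) : ProjUP.Γm (Twist.twist 𝒜 1) := Twist.globalOf 𝒜 ⟨G.x i, G.mem i⟩

theorem ev_awayToSection_ratio (k i : ι) (y : Proj.basicOpen 𝒜 (G.x k)) :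
    ProjTwist.ev y (Proj.awayToSection 𝒜 (G.x k) (ratio G k i)) =
      Localization.mk (G.x i) (⟨G.x k, y.2⟩ : y.1.asHomogeneousIdeal.toIdeal.primeCompl) := by
  refine (ProjectiveSpectrum.Proj.awayToSection_apply _ _ _ _).trans ?_
  rw [ratio, HomogeneousLocalization.Away.val_mk, Localization.mk_eq_mk', IsLocalization.map_mk',
    Localization.mk_eq_mk']
  congr 1
  exact Subtype.ext (pow_one _)

theorem g_pcoc (i k : ι) {W : (Proj 𝒜).Opens} (hi : W ≤ (pcoc G).D i) (hk : W ≤ (pcoc G).D k) :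
    (pcoc G).G i k hi hk = res hi (Proj.awayToSection 𝒜 (G.x i) (ratio G i k)) := by
  refine ProjTwist.ev_ext fun y => ?_
  rw [ProjTwist.ev_res, ev_awayToSection_ratio]
  exact ProjTwist.ev_G _ _ _ _ i k hi hk y

theorem coord_eq_smul_base (i k : ι) :
    mres (Twist.twist 𝒜 1) (le_top : (pcoc G).D k ≤ ⊤) (coord G i) =
      (show Γ(Proj 𝒜, (pcoc G).D k) from Proj.awayToSection 𝒜 (G.x k) (ratio G k i)) •
        (pcocIso G).inv.app ((pcoc G).D k) ((pcoc G).base 1 k le_rfl) := by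
  show mres (Twist.twist 𝒜 ((1 : ℕ) : ℤ)) _ _ = _
  erw [ProjTwist.toTwist_base 𝒜 G.x G.mem _ 1 k]
  refine ProjTwist.evT_ext fun y => ?_
  rw [ProjTwist.evT_smul, ProjTwist.gen, ProjTwist.evT_mres, ProjTwist.evT_mres, ev_awayToSection_ratio,
    ProjTwist.evT_gsec]
  show algebraMap A (Twist.Loc 𝒜 y.1) (G.x i) = _
  rw [← Localization.mk_one_eq_algebraMap, ← Localization.mk_one_eq_algebraMap, Localization.mk_mul,
    Localization.mk_eq_mk_iff, Localization.r_iff_exists]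
  exact ⟨1, by simp only [OneMemClass.coe_one, one_mul, Submonoid.coe_mul, pow_one]; ring⟩

theorem mres_coord_self (k : ι) :
    mres (Twist.twist 𝒜 1) (le_top : (pcoc G).D k ≤ ⊤) (coord G k) =
      (pcocIso G).inv.app ((pcoc G).D k) ((pcoc G).base 1 k le_rfl) := by
  rw [coord_eq_smul_base G k k]
  have h : (show Γ(Proj 𝒜, (pcoc G).D k) from Proj.awayToSection 𝒜 (G.x k) (ratio G k k)) = 1 := by
    refine ProjTwist.ev_ext fun y => ?_
    rw [ev_awayToSection_ratio, ProjTwist.ev_one]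
    exact Localization.mk_self (⟨G.x k, y.2⟩ : y.1.asHomogeneousIdeal.toIdeal.primeCompl)
  refine (congrArg (fun t : Γ(Proj 𝒜, (pcoc G).D k) =>
    t • (pcocIso G).inv.app ((pcoc G).D k) ((pcoc G).base 1 k le_rfl)) h).trans ?_
  exact one_smul _ _

section pullback

variable {Z : Scheme.{u}} {q : Z ⟶ Spec (CommRingCat.of R)} (D : Data G q) {L : Z.Modules}
  (s : ι → ProjUP.Γm L)

theorem exists_iso_pullback_map
    (hgenU : ∀ i, IsGen L (D.U i) (mres L (le_top : D.U i ≤ ⊤) (s i)))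
    (hrel : ∀ (i k : ι) {W : Z.Opens} (hi : W ≤ D.U i),
      mres L (le_top : W ≤ ⊤) (s k) = res hi (D.ψ i (G.x k)) • mres L (le_top : W ≤ ⊤) (s i)) :
    ∃ τ : (Scheme.Modules.pullback D.map).obj (Twist.twist 𝒜 1) ≅ L,
      ∀ i, τ.hom.app ⊤ (ProjUP.pullSec D.map (Twist.twist 𝒜 1) (coord G i)) = s i := by
  let r := D.map
  let P := pcoc G
  have hpre : ∀ i, r ⁻¹ᵁ P.D i = D.U i := fun i => D.map_preimage i
  let m : ∀ i, Γ((Scheme.Modules.pushforward r).obj L, P.D i) := fun i =>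
    mres L (le_top : r ⁻¹ᵁ P.D i ≤ ⊤) (s i)
  have happ : ∀ (i k : ι) {W : (Proj 𝒜).Opens} (hi : W ≤ P.D i)
      (hk : W ≤ P.D k), (r.appLE W (r ⁻¹ᵁ W) le_rfl).hom (P.G i k hi hk) =
        res ((r.preimage_mono hi).trans (hpre i).le) (D.ψ i (G.x k)) := fun i k W hi hk => by
    refine (congrArg (r.appLE W (r ⁻¹ᵁ W) le_rfl).hom (g_pcoc G i k hi hk)).trans ?_
    refine (appLE_res r hi le_rfl _).trans ?_
    exact D.map_appLE_ratio i k _ _
  have hm : P.IsFamily 1 (M := (Scheme.Modules.pushforward r).obj L) m := fun i k W hi hk => by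
    show mres L (r.preimage_mono hk) (m k) = _
    refine Eq.trans ?_ (pushforward_smul r L (P.G i k hi hk ^ 1) (mres L (r.preimage_mono hi) (m i))).symm
    rw [pow_one, happ i k hi hk, InvExt.mres_mres, InvExt.mres_mres]
    exact hrel i k _
  let ψ := P.homOfFamily hm
  have hψ : ∀ i, ψ.app (P.D i) (P.base 1 i le_rfl) = m i := fun i =>
    (P.homOfFamily_base hm i le_rfl).trans (InvExt.mres_self _ _)
  let adj := Scheme.Modules.pullbackPushforwardAdjunction r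
  have hgen : ∀ i, IsGen L (r ⁻¹ᵁ P.D i) (ψ.app (P.D i) (P.base 1 i le_rfl)) := fun i => by
    rw [hψ]
    have h3 := (hgenU i).restrict (hpre i).le
    rw [InvExt.mres_mres] at h3
    exact h3
  haveI := P.isIso_of_isGen r ψ hgen
  let τ0 := (adj.homEquiv (P.twist 1) L).symm ψ
  refine ⟨(Scheme.Modules.pullback r).mapIso (pcocIso G) ≪≫ asIso τ0, fun i => ?_⟩
  have hcomp : adj.unit.app (Twist.twist 𝒜 1) ≫ (Scheme.Modules.pushforward r).map
      ((Scheme.Modules.pullback r).map (pcocIso G).hom ≫ τ0) = (pcocIso G).hom ≫ ψ := by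
    refine (adj.homEquiv_unit _ _ _).symm.trans ((adj.homEquiv_naturality_left _ _).trans ?_)
    exact congrArg ((pcocIso G).hom ≫ ·) (Equiv.apply_symm_apply _ _)
  have hval := congrArg (fun f : Twist.twist 𝒜 1 ⟶ (Scheme.Modules.pushforward r).obj L =>
    f.app ⊤ (coord G i)) hcomp
  refine Eq.trans hval ?_
  show ψ.app ⊤ ((pcocIso G).hom.app ⊤ (coord G i)) = s i
  refine meq_of_cover L (fun k : ι => r ⁻¹ᵁ P.D k) (fun _ => le_top)
    (by rw [← Scheme.Hom.preimage_iSup, P.cover, Scheme.Hom.preimage_top]) fun k => ?_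
  show mres ((Scheme.Modules.pushforward r).obj L) (le_top : P.D k ≤ ⊤) _ = mres L (le_top : r ⁻¹ᵁ P.D k ≤ ⊤) (s i)
  rw [← app_mres, ← app_mres, coord_eq_smul_base, app_smul]
  have h1 : (pcocIso G).hom.app (P.D k) ((pcocIso G).inv.app (P.D k) (P.base 1 k le_rfl)) =
      P.base 1 k le_rfl := congrArg (fun φ => φ.app (P.D k) (P.base 1 k le_rfl)) (pcocIso G).inv_hom_id
  erw [h1, app_smul, hψ]
  refine (pushforward_smul r L _ (m k)).trans ?_
  rw [show (r.appLE (P.D k) (r ⁻¹ᵁ P.D k) le_rfl).hom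
      (Proj.awayToSection 𝒜 (G.x k) (ratio G k i)) =
      res (hpre k).le (D.ψ k (G.x i)) from D.map_appLE_ratio k i _ _]
  exact (hrel k i (hpre k).le).symm

end pullback

section ext

variable {Z : Scheme.{u}} (r : Z ⟶ Proj 𝒜)

/-- The pulled-back ratio `x i / x k`. -/
def pullRatio (k i : ι) : Γ(Z, r ⁻¹ᵁ (pcoc G).D k) :=
  (r.appLE ((pcoc G).D k) (r ⁻¹ᵁ (pcoc G).D k) le_rfl).hom
    (Proj.awayToSection 𝒜 (G.x k) (ratio G k i))

/-- The pulled-back generator. -/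
abbrev pullCoord (i : ι) : ProjUP.Γm ((Scheme.Modules.pullback r).obj (Twist.twist 𝒜 1)) :=
  ProjUP.pullSec r (Twist.twist 𝒜 1) (coord G i)

theorem mres_pullCoord (k i : ι) :
    mres ((Scheme.Modules.pullback r).obj (Twist.twist 𝒜 1)) (le_top : r ⁻¹ᵁ (pcoc G).D k ≤ ⊤)
        (pullCoord G r i) =
      pullRatio G r k i • mres ((Scheme.Modules.pullback r).obj (Twist.twist 𝒜 1))
        (le_top : r ⁻¹ᵁ (pcoc G).D k ≤ ⊤) (pullCoord G r k) := by
  let η := (Scheme.Modules.pullbackPushforwardAdjunction r).unit.app (Twist.twist 𝒜 1)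
  have h : ∀ j, mres ((Scheme.Modules.pullback r).obj (Twist.twist 𝒜 1))
      (le_top : r ⁻¹ᵁ (pcoc G).D k ≤ ⊤) (pullCoord G r j) =
      η.app ((pcoc G).D k) (mres (Twist.twist 𝒜 1) (le_top : (pcoc G).D k ≤ ⊤) (coord G j)) :=
    fun j => (app_mres η (le_top : (pcoc G).D k ≤ ⊤) (coord G j)).symm
  refine (h i).trans ?_
  refine (congrArg (η.app ((pcoc G).D k)) ((coord_eq_smul_base G i k).trans (congrArg (_ • ·)
    (mres_coord_self G k).symm))).trans ?_
  refine (app_smul η _ _).trans ?_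
  exact (pushforward_smul r _ _ _).trans (congrArg (pullRatio G r k i • ·) (h k).symm)

theorem isGen_pullCoord (k : ι) :
    IsGen ((Scheme.Modules.pullback r).obj (Twist.twist 𝒜 1)) (r ⁻¹ᵁ (pcoc G).D k)
      (mres _ (le_top : r ⁻¹ᵁ (pcoc G).D k ≤ ⊤) (pullCoord G r k)) := by
  let P : Cocycle (Proj 𝒜) := pcoc G
  let φ : Twist.twist 𝒜 1 ≅ P.twist 1 := pcocIso G
  haveI := P.isIso_pullHom r 1
  let θ := P.pullHom r 1 ≫ (Scheme.Modules.pullback r).map φ.inv
  have h1 := InvExt.IsGen.map θ ((P.comap r).isGen_base 1 (V := r ⁻¹ᵁ P.D k) k le_rfl) fun W _ =>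
    ConcreteCategory.bijective_of_isIso (θ.app W)
  have h2 : θ.app (r ⁻¹ᵁ P.D k) ((P.comap r).base 1 (V := r ⁻¹ᵁ P.D k) k le_rfl) =
      mres _ (le_top : r ⁻¹ᵁ P.D k ≤ ⊤) (pullCoord G r k) := by
    refine (congrArg (((Scheme.Modules.pullback r).map φ.inv).app (r ⁻¹ᵁ P.D k)) (P.pullHom_base r 1 k)).trans ?_
    have h3 := congrArg (fun f : P.twist 1 ⟶ _ => f.app (P.D k) (P.base 1 k le_rfl))
      ((Scheme.Modules.pullbackPushforwardAdjunction r).unit.naturality φ.inv)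
    refine h3.symm.trans ?_
    let η := (Scheme.Modules.pullbackPushforwardAdjunction r).unit.app (Twist.twist 𝒜 1)
    exact (congrArg (η.app (P.D k)) (mres_coord_self G k).symm).trans
      (app_mres η (le_top : P.D k ≤ ⊤) (coord G k))
  exact h2 ▸ h1

theorem basicOpen_pullRatio_le (k i : ι) : Z.basicOpen (pullRatio G r k i) ≤ r ⁻¹ᵁ (pcoc G).D i := by
  rw [pullRatio, Scheme.basicOpen_appLE]
  refine inf_le_right.trans (r.preimage_mono fun y hy => ?_)
  let s : Γ(Proj 𝒜, Proj.basicOpen 𝒜 (G.x k)) := Proj.awayToSection 𝒜 (G.x k) (ratio G k i)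
  have hu := RingedSpace.isUnit_res_basicOpen (Proj 𝒜).toRingedSpace s
  obtain ⟨v, hv⟩ := hu.exists_right_inv
  let y' : (Proj 𝒜).basicOpen s := ⟨y, hy⟩
  have h1 := congrArg (ProjTwist.ev y') hv
  have hyk : y ∈ Proj.basicOpen 𝒜 (G.x k) := (Proj 𝒜).basicOpen_le s hy
  have h2 : ProjTwist.ev ⟨y, hyk⟩ s * ProjTwist.ev y' v = 1 :=
    ((ProjTwist.ev_mul _ v y').symm.trans h1).trans (ProjTwist.ev_one y')
  rw [ev_awayToSection_ratio, Localization.mk_eq_mk'] at h2
  exact fun hm => (IsLocalization.AtPrime.isUnit_mk'_iff _ y.asHomogeneousIdeal.toIdeal _ _).mp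
    (IsUnit.of_mul_eq_one _ h2) hm

theorem pullRatio_spec (k : ι) :
    ∃ g : Away 𝒜 (G.x k) →+* Γ((r ⁻¹ᵁ (pcoc G).D k : Z.Opens), ⊤),
      (r ⁻¹ᵁ (pcoc G).D k).ι ≫ r = ProjPt.pt 𝒜 (G.mem k) one_pos g ∧
      ∀ j, g (ratio G k j) = (r ⁻¹ᵁ (pcoc G).D k).topIso.inv (pullRatio G r k j) := by
  let U : Z.Opens := r ⁻¹ᵁ (pcoc G).D k
  obtain ⟨g, hg⟩ := ProjPt.exists_eq_pt 𝒜 (G.mem k) one_pos (U.ι ≫ r)
    (top_le_iff.mp fun z _ => z.2)
  refine ⟨g, hg, fun j => ?_⟩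
  have key : ∀ (φ : (U : Scheme.{u}) ⟶ Proj 𝒜) (e : _ ≤ φ ⁻¹ᵁ (pcoc G).D k), φ = U.ι ≫ r →
      (φ.appLE ((pcoc G).D k) ⊤ e).hom (Proj.awayToSection 𝒜 (G.x k) (ratio G k j)) =
        U.topIso.inv (pullRatio G r k j) := by
    rintro _ e rfl
    rw [← Scheme.Hom.appLE_comp_appLE U.ι r _ U ⊤ le_rfl U.ι_preimage_self.ge, CommRingCat.comp_apply,
      Scheme.Opens.ι_appLE]
    rfl
  refine (ProjMap.pt_appLE_awayToSection 𝒜 (G.mem k) one_pos g (ratio G k j)
    (ProjPt.pt_preimage_self _ _ _ _).ge).symm.trans ?_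
  exact key _ _ hg.symm

theorem ext_of_iso (r r' : Z ⟶ Proj 𝒜) (hrr' : r ≫ toBase 𝒜 = r' ≫ toBase 𝒜)
    (τ : (Scheme.Modules.pullback r).obj (Twist.twist 𝒜 1) ≅ (Scheme.Modules.pullback r').obj (Twist.twist 𝒜 1))
    (hτ : ∀ i, τ.hom.app ⊤ (pullCoord G r i) = pullCoord G r' i) : r = r' := by
  let L' := (Scheme.Modules.pullback r').obj (Twist.twist 𝒜 1)
  let U : ι → Z.Opens := fun k => r ⁻¹ᵁ (pcoc G).D k
  let U' : ι → Z.Opens := fun k => r' ⁻¹ᵁ (pcoc G).D k
  have hgen : ∀ k, IsGen L' (U k) (mres L' (le_top : U k ≤ ⊤) (pullCoord G r' k)) := fun k => by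
    have h := InvExt.IsGen.map τ.hom (isGen_pullCoord G r k) fun W _ =>
      ConcreteCategory.bijective_of_isIso (τ.hom.app W)
    rw [app_mres, hτ] at h
    exact h
  have hrel : ∀ k i, mres L' (le_top : U k ≤ ⊤) (pullCoord G r' i) =
      pullRatio G r k i • mres L' (le_top : U k ≤ ⊤) (pullCoord G r' k) := fun k i => by
    have h := congrArg (τ.hom.app (U k)) (mres_pullCoord G r k i)
    rw [app_smul, app_mres, app_mres, hτ, hτ] at h
    exact h
  have hle : ∀ i, U i ≤ U' i := fun i x hx => by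
    obtain ⟨k, hk⟩ := (pcoc G).exists_mem (r' x)
    have hx' : x ∈ U i ⊓ U' k := ⟨hx, hk⟩
    obtain ⟨a, ha⟩ := (hgen i).exists_smul_eq (inf_le_left : U i ⊓ U' k ≤ U i)
      (mres L' (le_top : U i ⊓ U' k ≤ ⊤) (pullCoord G r' k))
    have h1 := congrArg (mres L' (inf_le_right : U i ⊓ U' k ≤ U' k)) (mres_pullCoord G r' k i)
    rw [mres_smul', InvExt.mres_mres, InvExt.mres_mres] at h1
    have h2 : res (inf_le_right : U i ⊓ U' k ≤ U' k) (pullRatio G r' k i) * a = 1 := by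
      refine (hgen i).smul_left_injective (inf_le_left : U i ⊓ U' k ≤ U i) ?_
      rw [mul_smul, one_smul, InvExt.mres_mres]
      rw [InvExt.mres_mres] at ha
      exact (congrArg (res (inf_le_right : U i ⊓ U' k ≤ U' k) (pullRatio G r' k i) • ·) ha.symm).trans h1.symm
    have h3 : x ∈ Z.basicOpen (res (inf_le_right : U i ⊓ U' k ≤ U' k) (pullRatio G r' k i)) := by
      rw [Scheme.basicOpen_of_isUnit _ (IsUnit.of_mul_eq_one _ h2)]; exact hx'
    rw [res, Scheme.basicOpen_res] at h3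
    exact basicOpen_pullRatio_le G r' k i h3.2
  refine Scheme.hom_ext_of_forall _ _ fun x => ?_
  obtain ⟨(k : ι), hk⟩ := (pcoc G).exists_mem (r x)
  refine ⟨U k, hk, ?_⟩
  have heq : ∀ j, pullRatio G r k j = res (hle k) (pullRatio G r' k j) := fun j => by
    refine (hgen k).smul_left_injective le_rfl ?_
    rw [InvExt.mres_mres]
    refine (hrel k j).symm.trans ?_
    have h := congrArg (mres L' (hle k)) (mres_pullCoord G r' k j)
    rw [mres_smul', InvExt.mres_mres, InvExt.mres_mres] at h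
    exact h
  obtain ⟨g, hg, hgr⟩ := pullRatio_spec G r k
  obtain ⟨g', hg', hgr'⟩ := pullRatio_spec G r' k
  let j : (U k : Scheme.{u}) ⟶ U' k := Z.homOfLE (hle k)
  have e : (U k).ι ≫ r' = ProjPt.pt 𝒜 (G.mem k) one_pos (j.appTop.hom.comp g') := by
    rw [← ProjPt.comp_pt, ← hg', ← Category.assoc]
    congr 1
    exact (Scheme.homOfLE_ι _ _).symm
  rw [e]
  refine hg.trans ?_
  congr 1
  refine awayHom_ext G ?_ fun i => ?_
  · have h0 : (U k).ι ≫ r ≫ toBase 𝒜 = (U k).ι ≫ r' ≫ toBase 𝒜 := congrArg ((U k).ι ≫ ·) hrr'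
    have h : ProjPt.pt 𝒜 (G.mem k) one_pos g ≫ toBase 𝒜 =
        ProjPt.pt 𝒜 (G.mem k) one_pos (j.appTop.hom.comp g') ≫ toBase 𝒜 :=
      ((congrArg (· ≫ toBase 𝒜) hg).symm.trans (Category.assoc _ _ _)).trans
        (h0.trans ((Category.assoc _ _ _).symm.trans (congrArg (· ≫ toBase 𝒜) e)))
    exact congrArg CommRingCat.Hom.hom (ProjPt.toSpecΓ_comp_SpecMap_injective
      ((pt_toBase G k g).symm.trans (h.trans (pt_toBase G k (j.appTop.hom.comp g')))))
  · refine (hgr i).trans (Eq.trans ?_ (congrArg j.appTop.hom (hgr' i)).symm)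
    rw [heq]
    refine Eq.symm ((ProjMap.Data.appTop_topIso_inv (Y := Z) j (U k).ι (Scheme.homOfLE_ι _ _)
      (fun z _ => hle k z.2) _).trans ?_)
    rw [Scheme.Opens.ι_appLE]
    exact (res_res _ _ _).symm

end ext

end GrothLib.Ample.GProj
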