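import Groth.Agent.Lib.Ample.GProjSections
import Groth.Agent.Lib.Ample.Frame
import Mathlib.LinearAlgebra.SymmetricAlgebra.Basic

/-!
# `Proj` of a symmetric algebra
-/

universe u

set_option backward.isDefEq.respectTransparency false

open AlgebraicGeometry CategoryTheory CategoryTheory.Limits TopologicalSpace Opposite
open GrothLib.InvExt (mres IsGen)

noncomputable section

namespace GrothLib.Ample.GProj

variable {R S : Type u} [CommRing R] [CommRing S] [Algebra R S] {𝒮 : ℕ → Submodule R S} [GradedAlgebra 𝒮]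
variable {M : Type u} [AddCommGroup M] [Module R M] (j : M →ₗ[R] S) (hj : ∀ m : M, j m ∈ 𝒮 1)

/-- The generators of a symmetric algebra. -/
def symSys (hsym : IsSymmetricAlgebra j) : Sys 𝒮 M where
  x := j
  mem := hj
  gen := top_le_iff.mp fun a _ => by
    induction a using hsym.induction with
    | algebraMap r => exact Subalgebra.algebraMap_mem _ r
    | ι x => exact Algebra.subset_adjoin ⟨x, rfl⟩
    | mul _ _ hx hy => exact mul_mem (hx trivial) (hy trivial)
    | add _ _ hx hy => exact add_mem (hx trivial) (hy trivial)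

theorem exists_toProj (hsym : IsSymmetricAlgebra j) {X : Scheme.{u}} (q : X ⟶ Spec (CommRingCat.of R))
    (L : X.Modules) (hL : PicF.IsInvertible L)
    (v : M →+ ProjUP.Γm L) (hv : ∀ (a : R) (m : M), v (a • m) = ProjUP.toGlobal q a • v m)
    (hgen : ProjUP.GeneratedBy L v) :
    ∃ (r : X ⟶ Proj 𝒮) (_ : r ≫ toBase 𝒮 = q)
      (τ : (Scheme.Modules.pullback r).obj (Twist.twist 𝒮 1) ≅ L),
      ∀ m : M, τ.hom.app ⊤ (ProjUP.pullSec r (Twist.twist 𝒮 1) (coord (symSys j hj hsym) m)) = v m := by
  obtain ⟨c, ⟨e⟩⟩ := exists_cocycle hL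
  let sec : M → c.sect 1 ⊤ := fun m => e.hom.app ⊤ (v m)
  let U : M → X.Opens := fun i => c.locus (sec i)
  have hcov : ⨆ i, U i = ⊤ := c.iSup_locus_of_generatedBy e v hgen
  have hgenU : ∀ i, IsGen L (U i) (mres L (le_top : U i ≤ ⊤) (v i)) := fun i => by
    have h1 := InvExt.IsGen.map e.inv (c.isGen_sectRes_locus (sec i)) fun W _ =>
      ConcreteCategory.bijective_of_isIso (e.inv.app W)
    have h2 : e.inv.app (U i) (c.sectRes (le_top : U i ≤ ⊤) (sec i)) = mres L (le_top : U i ≤ ⊤) (v i) := by
      show e.inv.app _ (mres (c.twist 1) le_top (e.hom.app ⊤ (v i))) = _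
      rw [← app_mres]
      exact congrArg (fun φ : L ⟶ L => φ.app (U i) (mres L (le_top : U i ≤ ⊤) (v i))) e.hom_inv_id
    rw [h2] at h1
    exact h1
  have hρ : ∀ i k, ∃ f : Γ(X, U i),
      mres L (le_top : U i ≤ ⊤) (v k) = f • mres L (le_top : U i ≤ ⊤) (v i) ∧
        X.basicOpen f = U i ⊓ U k := fun i k => by
    obtain ⟨f, hf, hb⟩ := c.exists_ratio (sec i) (sec k)
    refine ⟨f, ?_, hb⟩
    have hinj : Function.Injective (e.hom.app (U i)) :=
      (ConcreteCategory.bijective_of_isIso (e.hom.app (U i))).1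
    apply hinj
    rw [app_smul, app_mres, app_mres]
    exact hf
  choose ρ hρ hρb using hρ
  letI : ∀ i, Algebra R Γ(X, U i) := fun i =>
    ((res (le_top : U i ≤ ⊤)).comp (ProjUP.toGlobal q)).toAlgebra
  have hlin : ∀ i, ∃ l : M →ₗ[R] Γ(X, U i), ∀ k, l k = ρ i k := fun i => by
    refine ⟨{ toFun := ρ i, map_add' := fun a b => ?_, map_smul' := fun r a => ?_ }, fun k => rfl⟩
    · refine (hgenU i).smul_left_injective le_rfl ?_
      rw [InvExt.mres_self, add_smul, ← hρ, ← hρ, ← hρ, map_add]
      exact map_add _ _ _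
    · refine (hgenU i).smul_left_injective le_rfl ?_
      rw [InvExt.mres_self, ← hρ, hv, InvExt.mres_smul, hρ i a, smul_smul]
      rfl
  choose l hl using hlin
  have hlift : ∀ i k, (hsym.lift (l i) : S →+* Γ(X, U i)) (j k) = ρ i k := fun i k =>
    (hsym.lift_eq (l i) k).trans (hl i k)
  let D : Data (symSys j hj hsym) q :=
    { U := U
      ψ := fun i => (hsym.lift (l i) : S →+* Γ(X, U i))
      cover := hcov
      const := fun i r => (hsym.lift (l i)).commutes r
      self := fun i => by
        refine (hlift i i).trans ((hgenU i).smul_left_injective le_rfl ?_)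
        rw [InvExt.mres_self, one_smul]
        exact (hρ i i).symm
      change := fun i k m W hi hk => by
        show res hi ((hsym.lift (l i) : S →+* Γ(X, U i)) (j m)) =
          res hi ((hsym.lift (l i) : S →+* Γ(X, U i)) (j k)) * res hk ((hsym.lift (l k) : S →+* Γ(X, U k)) (j m))
        rw [hlift, hlift, hlift]
        refine (hgenU i).smul_left_injective hi ?_
        have h : ∀ (p t : M) (hp : W ≤ U p),
            res hp (ρ p t) • mres L (le_top : W ≤ ⊤) (v p) = mres L (le_top : W ≤ ⊤) (v t) := fun p t hp => by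
          have h0 := congrArg (mres L hp) (hρ p t)
          rw [mres_smul', InvExt.mres_mres, InvExt.mres_mres] at h0
          exact h0.symm
        rw [InvExt.mres_mres, mul_comm, mul_smul, h i k hi, h k m hk, h i m hi]
      basicOpen_eq := fun i k => by
        show X.basicOpen ((hsym.lift (l i) : S →+* Γ(X, U i)) (j k)) = _
        rw [hlift]
        exact hρb i k }
  obtain ⟨τ, hτ⟩ := exists_iso_pullback_map (symSys j hj hsym) D (fun m => v m) hgenU fun i k W hi => by
    show mres L (le_top : W ≤ ⊤) (v k) = res hi ((hsym.lift (l i) : S →+* Γ(X, U i)) (j k)) • _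
    rw [hlift]
    have h0 := congrArg (mres L hi) (hρ i k)
    rwa [mres_smul', InvExt.mres_mres, InvExt.mres_mres] at h0
  exact ⟨D.map, D.map_toBase, τ, hτ⟩

end GrothLib.Ample.GProj
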