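import Groth.Agent.Lib.Ample.ModTwistQcoh
import Groth.Agent.Lib.Ample.CocPullback
import Groth.Agent.Lib.Ample.Functorial

/-!
# Maps of twisted modules: functoriality, multiplication by sections, pushforward
-/

universe u

set_option backward.isDefEq.respectTransparency false

open AlgebraicGeometry CategoryTheory CategoryTheory.Limits TopologicalSpace Opposite
open GrothLib.InvExt (mres)

noncomputable section

namespace GrothLib.Ample.Cocycle

variable {X Y : Scheme.{u}} (c : Cocycle X) {M N : X.Modules}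

/-- Functoriality of twisting on families. -/
def msectMap (φ : M ⟶ N) {n : ℕ} {V : X.Opens} (a : c.msect M n V) : c.msect N n V :=
  ⟨fun i => φ.app (V ⊓ c.D i) (a.1 i), fun i j W hi hj => by
    rw [← app_mres, ← app_mres, c.msect_spec a i j hi hj, app_smul]⟩

/-- Functoriality of twisting. -/
def mtwistMap (φ : M ⟶ N) (n : ℕ) : c.modTwist M n ⟶ c.modTwist N n :=
  ⟨{
    app := fun V => ModuleCat.ofHom
      (X := ((c.modTwist M n).val.obj V : Type u))
      (Y := ((c.modTwist N n).val.obj V : Type u))
      { toFun := fun (a : c.msect M n V.unop) => c.msectMap φ a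
        map_add' := fun (a b : c.msect M n V.unop) => c.msect_ext fun i => map_add (φ.app _).hom _ _
        map_smul' := fun (r : Γ(X, V.unop)) (a : c.msect M n V.unop) => c.msect_ext fun i => app_smul φ _ _ }
    naturality := fun {V W} f => by
      ext (a : c.msect M n V.unop)
      exact c.msect_ext fun i => app_mres φ _ _ }⟩

theorem mtwistMap_app (φ : M ⟶ N) (n : ℕ) {V : X.Opens} (a : c.msect M n V) :
    (show c.msect N n V from (c.mtwistMap φ n).app V a) = c.msectMap φ a := rfl

theorem mtwistMap_app_injective (φ : M ⟶ N) (n : ℕ) (h : ∀ V, Function.Injective (φ.app V))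
    (V : X.Opens) : Function.Injective ((c.mtwistMap φ n).app V) := fun (a : c.msect M n V) b e =>
  c.msect_ext fun i => h _ (congrArg (fun t : c.msect N n V => t.1 i) e)

/-- Multiplication of twisted families by a power of a section. -/
def mraiseHom (M : X.Modules) {k : ℕ} (a : c.sect k ⊤) (n N : ℕ) :
    c.modTwist M n ⟶ c.modTwist M (n + k * N) :=
  ⟨{
    app := fun V => ModuleCat.ofHom
      (X := ((c.modTwist M n).val.obj V : Type u))
      (Y := ((c.modTwist M (n + k * N)).val.obj V : Type u))
      { toFun := fun (b : c.msect M n V.unop) => c.mraise a b N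
        map_add' := fun (b b' : c.msect M n V.unop) => c.msect_ext fun i => smul_add _ _ _
        map_smul' := fun (r : Γ(X, V.unop)) (b : c.msect M n V.unop) => c.msect_ext fun i => smul_comm _ _ _ }
    naturality := fun {V W} f => by
      ext (b : c.msect M n V.unop)
      exact (c.msectRes_mraise a (leOfHom f.unop) b N).symm }⟩

theorem mraiseHom_app {k : ℕ} (a : c.sect k ⊤) (n N : ℕ) {V : X.Opens} (b : c.msect M n V) :
    (show c.msect M (n + k * N) V from (c.mraiseHom M a n N).app V b) = c.mraise a b N := rfl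

theorem mraiseHom_eq_comp (M : X.Modules) {k : ℕ} (a : c.sect k ⊤) (n N N' : ℕ) :
    c.mraiseHom M a n (N + N') =
      c.mraiseHom M a n N ≫ c.mraiseHom M a (n + k * N) N' ≫
        eqToHom (by rw [mul_add, add_assoc]) := by
  refine Scheme.Modules.hom_ext _ _ fun V => ?_
  ext (b : c.msect M n V)
  have key : ∀ {p q : ℕ} (e : p = q) (t : c.msect M p V),
      (show c.msect M q V from (eqToHom (congrArg (c.modTwist M) e)).app V t) = c.msectCast e t := by
    rintro p q rfl t
    exact c.msect_ext fun _ => rfl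
  refine Eq.trans ?_ (key (by rw [mul_add, add_assoc]) (c.mraise a (c.mraise a b N) N')).symm
  rw [c.mraise_mraise]
  exact c.msect_ext fun _ => rfl

theorem bijective_mraise {k : ℕ} (a : c.sect k ⊤) {n : ℕ} (N : ℕ) {V : X.Opens} (hV : V ≤ c.locus a) :
    Function.Bijective fun b : c.msect M n V => c.mraise a b N := by
  have hu : ∀ i, IsUnit (res (inf_le_inf_right (c.D i) (le_top : V ≤ ⊤)) (a.1 i) ^ N) := fun i => by
    refine IsUnit.pow N ?_
    have h : V ⊓ c.D i ≤ X.basicOpen (a.1 i) := by
      rw [← c.locus_inf_D a i]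
      exact le_inf ((inf_le_left : V ⊓ c.D i ≤ V).trans hV) inf_le_right
    have e : res (inf_le_inf_right (c.D i) (le_top : V ≤ ⊤)) (a.1 i) =
        res h (res (c.basicOpen_le_D a i) (a.1 i)) := (res_res _ _ _).symm
    rw [e]
    exact (RingedSpace.isUnit_res_basicOpen X.toRingedSpace (a.1 i)).map _
  constructor
  · intro b b' e
    exact c.msect_ext fun i => (hu i).smul_left_cancel.1 (congrArg (fun t : c.msect M _ V => t.1 i) e)
  · intro (t : c.msect M (n + k * N) V)
    refine ⟨⟨fun i => (↑(hu i).unit⁻¹ : Γ(X, V ⊓ c.D i)) • t.1 i, fun i j W hi hj => ?_⟩, ?_⟩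
    · let ri : Γ(X, W) := res hi (res (inf_le_inf_right (c.D i) (le_top : V ≤ ⊤)) (a.1 i) ^ N)
      have hri : IsUnit ri := (hu i).map _
      refine hri.smul_left_cancel.1 ?_
      have ei : ri • mres M hi ((↑(hu i).unit⁻¹ : Γ(X, V ⊓ c.D i)) • t.1 i) = mres M hi (t.1 i) := by
        rw [← mres_smul', smul_smul, IsUnit.mul_val_inv, one_smul]
      have ej : res hj (res (inf_le_inf_right (c.D j) (le_top : V ≤ ⊤)) (a.1 j) ^ N) •
          mres M hj ((↑(hu j).unit⁻¹ : Γ(X, V ⊓ c.D j)) • t.1 j) = mres M hj (t.1 j) := by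
        rw [← mres_smul', smul_smul, IsUnit.mul_val_inv, one_smul]
      refine ei.trans ((c.msect_spec t i j hi hj).trans ?_)
      rw [← ej, smul_smul, smul_smul]
      refine congrArg (fun z : Γ(X, W) => z • mres M hj ((↑(hu j).unit⁻¹ : Γ(X, V ⊓ c.D j)) • t.1 j)) ?_
      simp only [ri, map_pow, res_res]
      rw [c.sect_spec a i j (hi.trans (inf_le_inf_right (c.D i) (le_top : V ≤ ⊤)))
        (hj.trans (inf_le_inf_right (c.D j) (le_top : V ≤ ⊤))), mul_pow, ← pow_mul, pow_add]
      ring
    · refine c.msect_ext fun i => ?_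
      show res (inf_le_inf_right (c.D i) (le_top : V ≤ ⊤)) (a.1 i) ^ N •
        (↑(hu i).unit⁻¹ : Γ(X, V ⊓ c.D i)) • t.1 i = t.1 i
      rw [smul_smul, IsUnit.mul_val_inv, one_smul]

section Structure

/-- A twisted family of functions as a section of the twist. -/
def toSect {n : ℕ} {V : X.Opens} (a : c.msect (Coh.structureModule X) n V) : c.sect n V :=
  ⟨a.1, fun i j _ hi hj => c.msect_spec a i j hi hj⟩

theorem toSect_apply {n : ℕ} {V : X.Opens} (a : c.msect (Coh.structureModule X) n V) (i : c.ι) :
    (c.toSect a).1 i = a.1 i := rfl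

end Structure

section Push

variable (j : Y ⟶ X) (P : Y.Modules)

/-- A family upstairs as a family of the direct image. -/
def pushFamily {n : ℕ} {V : X.Opens} (a : (c.comap j).msect P n (j ⁻¹ᵁ V)) :
    c.msect ((Scheme.Modules.pushforward j).obj P) n V :=
  ⟨fun i => (a.1 i : Γ(P, j ⁻¹ᵁ (V ⊓ c.D i))), fun i l W hi hl => by
    refine Eq.trans ?_ (pushforward_smul j P (V := W) _ _).symm
    rw [map_pow, appLE_G]
    exact (c.comap j).msect_spec a i l (j.preimage_mono hi) (j.preimage_mono hl)⟩

theorem bijective_pushFamily {n : ℕ} (V : X.Opens) :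
    Function.Bijective fun a : (c.comap j).msect P n (j ⁻¹ᵁ V) => c.pushFamily j P a := by
  constructor
  · intro a b e
    exact (c.comap j).msect_ext fun i => congrArg
      (fun t : c.msect ((Scheme.Modules.pushforward j).obj P) n V => t.1 i) e
  · intro (t : c.msect ((Scheme.Modules.pushforward j).obj P) n V)
    refine ⟨⟨fun i => (t.1 i : Γ(P, j ⁻¹ᵁ (V ⊓ c.D i))), fun (i : c.ι) (l : c.ι) W
      (hi : W ≤ j ⁻¹ᵁ V ⊓ j ⁻¹ᵁ c.D i) (hl : W ≤ j ⁻¹ᵁ V ⊓ j ⁻¹ᵁ c.D l) => ?_⟩, rfl⟩
    let W₀ : X.Opens := (V ⊓ c.D i) ⊓ (V ⊓ c.D l)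
    have hW : W ≤ j ⁻¹ᵁ W₀ := le_inf hi hl
    have h := (c.msect_spec t i l (inf_le_left : W₀ ≤ _) inf_le_right).trans
      (pushforward_smul j P (V := W₀) _ _)
    rw [map_pow, appLE_G] at h
    have h' := congrArg (mres P hW) h
    erw [InvExt.mres_mres, mres_smul', InvExt.mres_mres, map_pow, res_G] at h'
    exact h'

/-- The comparison of twisting with direct image. -/
def pushTwistHom (n : ℕ) : (Scheme.Modules.pushforward j).obj ((c.comap j).modTwist P n) ⟶
    c.modTwist ((Scheme.Modules.pushforward j).obj P) n :=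
  ⟨{
    app := fun V => ModuleCat.ofHom
      (X := (((Scheme.Modules.pushforward j).obj ((c.comap j).modTwist P n)).val.obj V : Type u))
      (Y := ((c.modTwist ((Scheme.Modules.pushforward j).obj P) n).val.obj V : Type u))
      { toFun := fun (a : (c.comap j).msect P n (j ⁻¹ᵁ V.unop)) => c.pushFamily j P a
        map_add' := fun _ _ => rfl
        map_smul' := fun (r : Γ(X, V.unop)) (a : (c.comap j).msect P n (j ⁻¹ᵁ V.unop)) => c.msect_ext fun i => by
          refine Eq.trans ?_ (pushforward_smul j P (V := V.unop ⊓ c.D i) _ _).symm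
          refine (congrArg (fun t : (c.comap j).msect P n (j ⁻¹ᵁ V.unop) => t.1 i)
            (pushforward_smul j ((c.comap j).modTwist P n) r a)).trans ?_
          rw [appLE_res]
          refine congrArg (fun z => z • a.1 i) ?_
          exact res_appLE j _ _ r }
    naturality := fun {V W} f => rfl }⟩

theorem nonempty_push_modTwist (n : ℕ) :
    Nonempty ((Scheme.Modules.pushforward j).obj ((c.comap j).modTwist P n) ≅
      c.modTwist ((Scheme.Modules.pushforward j).obj P) n) := by
  have : IsIso (c.pushTwistHom j P n) := by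
    rw [Scheme.Modules.Hom.isIso_iff_isIso_app]
    intro V
    rw [ConcreteCategory.isIso_iff_bijective]
    exact c.bijective_pushFamily j P V
  exact ⟨asIso (c.pushTwistHom j P n)⟩

end Push

end GrothLib.Ample.Cocycle
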